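import Cfsg.Agent.Lib.Feit.Square

/-!
The two halves of the square of an exceptional character: their restriction to `P` and their fixed
spaces. For even `e` one of the two has none of the exceptional characters of the block.
-/

set_option autoImplicit false
set_option linter.unusedSectionVars false
set_option linter.style.haveILetI false

namespace Cfsg.Agent.Feit

open Cfsg Cfsg.Agent.Char Cfsg.Agent.Blocks Cfsg.Agent.CCSylow Cfsg.Agent.DefOne
open Cfsg.Agent.DegreePTwo
open Cfsg.Agent.SmallDeg16 (mult Cen Coord HasMult Fam lin_norm altF symF)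
open scoped ComplexConjugate

universe u

section Parity

variable {p : ℕ} [Fact p.Prime]

theorem two_ne_zero' (h2 : p ≠ 2) : (2 : ZMod p) ≠ 0 := by
  intro h
  have h' : ((2 : ℕ) : ZMod p) = 0 := by exact_mod_cast h
  rw [ZMod.natCast_eq_zero_iff] at h'
  exact h2 ((Nat.prime_two.eq_one_or_self_of_dvd p h').resolve_left (Fact.out : p.Prime).one_lt.ne')

/-- The pairs with sum `c` come in twos, but for the diagonal. -/
theorem parity_R (h2 : p ≠ 2) (e : ℕ) (c : ZMod p) :
    ∃ q : ℕ, R e 1 c = 2 * q + if (c / 2) ^ e = 1 then 1 else 0 := by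
  classical
  have h2' := two_ne_zero' h2
  set Q := ((roots (p := p) e ×ˢ roots (p := p) e).filter fun q => q.1 + 1 * q.2 = c) with hQ
  have hmem : ∀ q : ZMod p × ZMod p, q ∈ Q ↔ (q.1 ^ e = 1 ∧ q.2 ^ e = 1) ∧ q.1 + q.2 = c := fun q => by
    simp [hQ, mem_roots]
  have hlt : (Q.filter fun q => q.2.val < q.1.val).card = (Q.filter fun q => q.1.val < q.2.val).card := by
    refine Finset.card_bij (fun q _ => (q.2, q.1)) (fun q hq => ?_) (fun a _ b _ h => ?_) fun q hq => ?_
    · rw [Finset.mem_filter, hmem] at hq ⊢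
      exact ⟨⟨⟨hq.1.1.2, hq.1.1.1⟩, by rw [add_comm, hq.1.2]⟩, hq.2⟩
    · exact Prod.ext (Prod.mk.inj h).2 (Prod.mk.inj h).1
    · rw [Finset.mem_filter, hmem] at hq
      exact ⟨(q.2, q.1), Finset.mem_filter.2
        ⟨(hmem _).2 ⟨⟨hq.1.1.2, hq.1.1.1⟩, by rw [add_comm, hq.1.2]⟩, hq.2⟩, rfl⟩
  have hdiag : (Q.filter fun q => q.1 = q.2).card = if (c / 2) ^ e = 1 then 1 else 0 := by
    split_ifs with h
    · refine Finset.card_eq_one.2 ⟨(c / 2, c / 2), Finset.ext fun q => ?_⟩
      rw [Finset.mem_filter, hmem, Finset.mem_singleton]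
      constructor
      · rintro ⟨⟨-, hsum⟩, heq⟩
        have hq2 : q.2 = c / 2 := by rw [eq_div_iff h2', ← hsum, heq]; ring
        exact Prod.ext (heq.trans hq2) hq2
      · rintro rfl
        exact ⟨⟨⟨h, h⟩, by field_simp; ring⟩, rfl⟩
    · refine Finset.card_eq_zero.2 (Finset.filter_eq_empty_iff.2 fun q hq heq => h ?_)
      obtain ⟨⟨-, hq2⟩, hsum⟩ := (hmem q).1 hq
      rw [← hsum, heq, show (q.2 + q.2) / 2 = q.2 by field_simp; ring]
      exact hq2
  refine ⟨(Q.filter fun q => q.1.val < q.2.val).card, ?_⟩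
  rw [← hdiag, show R e 1 c = Q.card from rfl, ← Finset.card_filter_add_card_filter_not
    (s := Q) (fun q => q.1 = q.2), ← Finset.card_filter_add_card_filter_not
    (s := Q.filter fun q => ¬ q.1 = q.2) (fun q => q.1.val < q.2.val)]
  have e1 : ((Q.filter fun q => ¬ q.1 = q.2).filter fun q => q.1.val < q.2.val) =
      Q.filter fun q => q.1.val < q.2.val := by
    rw [Finset.filter_filter]
    exact Finset.filter_congr fun q _ => ⟨fun h => h.2, fun h => ⟨fun he => by rw [he] at h; omega, h⟩⟩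
  have e2 : ((Q.filter fun q => ¬ q.1 = q.2).filter fun q => ¬ q.1.val < q.2.val) =
      Q.filter fun q => q.2.val < q.1.val := by
    rw [Finset.filter_filter]
    exact Finset.filter_congr fun q _ => ⟨fun h => lt_of_le_of_ne (not_lt.1 h.2)
      (fun he => h.1 (ZMod.val_injective p he).symm), fun h => ⟨fun he => by rw [he] at h; omega, by omega⟩⟩
  rw [e1, e2, hlt]
  ring

/-- The restriction to `P` of the exterior square. -/
def aAlt (p e : ℕ) [Fact p.Prime] (c : ZMod p) : ℤ :=
  ((p : ℤ) - 2 * e + R e 1 c - aJ p e 1 (c / 2)) / 2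

/-- The restriction to `P` of the symmetric square. -/
def aSym (p e : ℕ) [Fact p.Prime] (c : ZMod p) : ℤ :=
  ((p : ℤ) - 2 * e + R e 1 c + aJ p e 1 (c / 2)) / 2

theorem two_mul_aAlt (h2 : p ≠ 2) (e : ℕ) (c : ZMod p) :
    2 * aAlt p e c = (p : ℤ) - 2 * e + R e 1 c - aJ p e 1 (c / 2) ∧
    2 * aSym p e c = (p : ℤ) - 2 * e + R e 1 c + aJ p e 1 (c / 2) := by
  obtain ⟨q, hq⟩ := parity_R h2 e c
  obtain ⟨r, hr⟩ := (Fact.out : p.Prime).odd_of_ne_two h2
  have hp' : (p : ℤ) = 2 * r + 1 := by exact_mod_cast hr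
  rw [aAlt, aSym, hp', hq, aJ, inv_one, mul_one]
  split_ifs with h
  · push_cast
    constructor <;> rw [Int.mul_ediv_cancel'] <;> exact ⟨(r : ℤ) - e + q + 1, by ring⟩
  · push_cast
    constructor <;> rw [Int.mul_ediv_cancel']
    · exact ⟨(r : ℤ) - e + q, by ring⟩
    · exact ⟨(r : ℤ) - e + q + 1, by ring⟩

end Parity

variable {G : Type u} [Group G] [Fintype G] {p : ℕ}

theorem inn_add {N : Subgroup G} [Fintype N] (f f' : G → ℂ) (ε : N →* ℂˣ) :
    inn (fun g => f g + f' g) ε = inn f ε + inn f' ε := by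
  simp only [inn, classInner, add_mul, Finset.sum_add_distrib, mul_add]

variable {P V N : Subgroup G} {e : ℕ} (K : Conf p P V N e)
  [Fintype P] [Fintype V] [Fintype N] [Fintype (P →* ℂˣ)]

include K

/-- Two extensions agree on the centraliser. -/
theorem eq_on_cent {μ : IrrCharacter V} {ν ε : N →* ℂˣ} (hν : IsExt (P := P) ν μ)
    (hε : IsExt (P := P) ε μ) {n : N} (hn : (n : G) ∈ Subgroup.centralizer (P : Set G)) : ν n = ε n := by
  obtain ⟨y, hy, v, hv, hyv⟩ := (K.hC _).1 hn
  have hN : n = (⟨y, le_N K hy⟩ : N) * ⟨v, cent_le_N K (V_le_cent K hv)⟩ := Subtype.ext hyv.symm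
  rw [hN, map_mul, map_mul, hν.onP _ hy, hε.onP _ hy]
  exact congrArg _ (Units.ext ((hν.onV _ hv).trans (hε.onV _ hv).symm))

open scoped Classical in
theorem card_cent : (Finset.univ.filter fun n : N => (n : G) ∈ Subgroup.centralizer (P : Set G)).card =
    p * Nat.card V := by
  have h1 : (Finset.univ.filter fun n : N => (n : G) ∈ Subgroup.centralizer (P : Set G)).card =
      Nat.card ((Subgroup.centralizer (P : Set G)).subgroupOf N) := by
    rw [Nat.card_eq_fintype_card, Fintype.card_subtype]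
    exact congrArg Finset.card (Finset.filter_congr fun n _ => Subgroup.mem_subgroupOf.symm)
  have h2 := Subgroup.card_mul_index ((Subgroup.centralizer (P : Set G)).subgroupOf N)
  rw [K.D.he, K.D.hcard, K.hP, mul_comm e] at h2
  rw [h1]
  exact Nat.eq_of_mul_eq_mul_right (CCSylow.e_pos K.D) h2

/-- The action of the elements of `N` on the linear characters. -/
theorem act_cent [NeZero p] (C : Coord p P) {n : N}
    (hn : (n : G) ∈ Subgroup.centralizer (P : Set G)) : lT K.D n (C.lam 1) = C.lam 1 := by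
  refine MonoidHom.ext fun y => ?_
  rw [lT_apply]
  congr 1
  refine Subtype.ext ?_
  show (n : G) * y * (n : G)⁻¹ = y
  rw [← Subgroup.mem_centralizer_iff.1 hn y y.2, mul_inv_cancel_right]

theorem cent_of_act [NeZero p] (C : Coord p P) {n : N} (h : lT K.D n (C.lam 1) = C.lam 1) :
    (n : G) ∈ Subgroup.centralizer (P : Set G) := by
  haveI := Fact.mk K.hp
  exact lT_fix K.D n (fun h1 => one_ne_zero (C.lam_eq_one.1 h1)) h

/-- An element outside the centraliser with square inside inverts `P`. -/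
theorem act_of_sq [NeZero p] (C : Coord p P) {n : N}
    (hn : (n : G) ∉ Subgroup.centralizer (P : Set G))
    (h2 : ((n * n : N) : G) ∈ Subgroup.centralizer (P : Set G)) :
    lT K.D n (C.lam 1) = C.lam (-1) ∧ Even e := by
  haveI := Fact.mk K.hp
  have he := CCSylow.e_pos K.D
  obtain ⟨i, hi⟩ := (SmallDeg16.lam_bijective K C).2 (lT K.D n (C.lam 1))
  have h1 := act_cent K C h2
  rw [lT_mul, ← hi, SmallDeg16.lT_lam K C hi.symm] at h1
  have hii : i * i = 1 := C.lam_injective h1
  have hie := (SmallDeg16.orbit_index K C he).1 n i hi.symm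
  rcases mul_self_eq_one_iff.1 hii with rfl | rfl
  · exact absurd (cent_of_act K C hi.symm) hn
  · refine ⟨hi.symm, ?_⟩
    by_contra hodd
    rw [(Nat.not_even_iff_odd.1 hodd).neg_one_pow] at hie
    exact hn (cent_of_act K C (by rw [← hi, hie]))

/-- The value of `ζ` at such a square. -/
theorem value_sq [NeZero p] {ζ : IrrCharacter G} {b : IrrCharacter V} {C : Coord p P}
    (L : Exc K ζ b C) {ν : N →* ℂˣ} (hν : IsExt (P := P) ν b) {n : N}
    (hn : (n : G) ∉ Subgroup.centralizer (P : Set G))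
    (h2 : ((n * n : N) : G) ∈ Subgroup.centralizer (P : Set G)) :
    (ζ : G → ℂ) ((n : G) * n) = (charDegree (ζ : G → ℂ) : ℂ) * ((ν n : ℂ) * ν n) := by
  obtain ⟨y, hy, v, hv, hyv⟩ := (K.hC _).1 h2
  have hyv' : y * v = (n : G) * n := hyv
  have hy1 : y = 1 := by
    by_contra hne
    refine hn ?_
    rw [← centralizer_singleton_eq K.hp K.hP hy hne, Subgroup.mem_centralizer_singleton_iff]
    have hvn : v * (n : G) = n * v := (Subgroup.mem_center_iff.1 (L.center.le hv) _).symm
    have hcomm : (n : G) * (y * v) = (y * v) * n := by rw [hyv', mul_assoc]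
    rw [← mul_assoc, mul_assoc y, hvn, ← mul_assoc] at hcomm
    exact mul_right_cancel hcomm
  rw [hy1, one_mul] at hyv'
  have hval : (ν n : ℂ) * ν n = (b : V → ℂ) ⟨v, hv⟩ := by
    rw [← Units.val_mul, ← map_mul, hν.onV (n * n) (show (n : G) * n ∈ V from hyv' ▸ hv)]
    exact congrArg _ (Subtype.ext hyv'.symm)
  rw [hval, ← hyv', mul_comm]
  exact (L.cen.apply ⟨v, hv⟩).trans (by rw [irr_one_eq_charDegree])

/-- The halves of the square. -/
theorem Exc.squares [NeZero p] [Fact p.Prime] {t : ℕ} (hp : p = t * e + 1) (h2 : p ≠ 2)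
    {ζ : IrrCharacter G} {b : IrrCharacter V} {C : Coord p P} (L : Exc K ζ b C) {μ : IrrCharacter V}
    (hμ : ∀ v : V, (μ : V → ℂ) v = (b : V → ℂ) v * (b : V → ℂ) v) :
    (IsCharacter G (altF (ζ : G → ℂ)) ∧ Cen V (altF (ζ : G → ℂ)) μ ∧
      HasMult C (altF (ζ : G → ℂ)) (aAlt p e)) ∧
    IsCharacter G (symF (ζ : G → ℂ)) ∧ Cen V (symF (ζ : G → ℂ)) μ ∧
      HasMult C (symF (ζ : G → ℂ)) (aSym p e) := by
  have hsq : ∀ (v : V) (g : G), (ζ : G → ℂ) ((v : G) * g * ((v : G) * g)) =
      (b : V → ℂ) v * (b : V → ℂ) v * (ζ : G → ℂ) (g * g) := fun v g => by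
    have hc := Subgroup.mem_center_iff.1 (L.center.le v.2) g
    rw [show (v : G) * g * ((v : G) * g) = ((v * v : V) : G) * (g * g) by
      rw [Subgroup.coe_mul]
      simp only [mul_assoc]
      rw [← mul_assoc g (v : G), hc, mul_assoc (v : G) g], L.cen, SmallDeg16.lin_mul L.lin]
  have hz := IsIrrCharacter.isCharacter ζ.2
  have htwo : HasMult C (fun g => (ζ : G → ℂ) g * (ζ : G → ℂ) g)
      (fun c => (p : ℤ) - 2 * e + R e 1 c) :=
    (L.mz.mul L.mz).congr fun c => conv_aJ hp one_ne_zero c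
  have hs : HasMult C (fun g => (ζ : G → ℂ) (g * g)) (fun c => aJ p e 1 (c / 2)) :=
    L.mz.sq.congr fun c => by
      have h2' := two_ne_zero' h2
      rw [Finset.sum_eq_single (c / 2)]
      · rw [if_pos (mul_div_cancel₀ c h2')]
      · intro k _ hk
        exact if_neg fun h => hk (by rw [← h, mul_div_cancel_left₀ k h2'])
      · exact fun h => absurd (Finset.mem_univ _) h
  refine ⟨⟨DegreePTwo.isCharacter_extSquare hz, fun v g => ?_, ?_⟩,
    M12Uniq.isCharacter_symSquare hz, fun v g => ?_, ?_⟩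
  · simp only [altF]; rw [L.cen, hsq, hμ]; ring
  · have h := htwo.half hs (s := -1) (c := aAlt p e) fun c => by
      rw [(two_mul_aAlt h2 e c).1]; ring
    intro i
    rw [← h i]
    simp only [altF]
    push_cast
    ring
  · simp only [symF]; rw [L.cen, hsq, hμ]; ring
  · have h := htwo.half hs (s := 1) (c := aSym p e) fun c => by
      rw [(two_mul_aAlt h2 e c).2]; ring
    intro i
    rw [← h i]
    simp only [symF]
    push_cast
    ring

/-- Outside the centraliser the exterior square lives on the inverting elements. -/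
theorem Exc.alt_out [NeZero p] {ζ : IrrCharacter G} {b : IrrCharacter V} {C : Coord p P}
    (L : Exc K ζ b C) {ν : N →* ℂˣ} (hν : IsExt (P := P) ν b)
    (hout : ∀ n : N, (n : G) ∉ Subgroup.centralizer (P : Set G) → (ζ : G → ℂ) n = (ν n : ℂ))
    {n : N} (hn : (n : G) ∉ Subgroup.centralizer (P : Set G)) :
    (((n * n : N) : G) ∉ Subgroup.centralizer (P : Set G) → altF (ζ : G → ℂ) n = 0) ∧
    (((n * n : N) : G) ∈ Subgroup.centralizer (P : Set G) → altF (ζ : G → ℂ) n =
      (1 - (charDegree (ζ : G → ℂ) : ℂ)) / 2 * ((ν n : ℂ) * ν n)) := by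
  refine ⟨fun h => ?_, fun h => ?_⟩
  · have h1 : (ζ : G → ℂ) ((n : G) * n) = (ν n : ℂ) * ν n := by
      rw [← Units.val_mul, ← map_mul, ← hout (n * n) h]
      rfl
    simp only [altF, hout n hn, h1]
    ring
  · simp only [altF, hout n hn, value_sq K L hν hn h]
    ring

open scoped Classical in
/-- For even `e` one of the halves has no fixed point of a given type. -/
theorem Exc.one_zero [NeZero p] [Fact p.Prime] {t : ℕ} (hp : p = t * e + 1) (heven : Even e)
    {ζ : IrrCharacter G} {b : IrrCharacter V} {C : Coord p P} (L : Exc K ζ b C) {μ : IrrCharacter V}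
    (hμ : ∀ v : V, (μ : V → ℂ) v = (b : V → ℂ) v * (b : V → ℂ) v) (hμ1 : (μ : V → ℂ) 1 = 1)
    {ν : N →* ℂˣ} (hν : IsExt (P := P) ν b)
    (hout : ∀ n : N, (n : G) ∉ Subgroup.centralizer (P : Set G) → (ζ : G → ℂ) n = (ν n : ℂ))
    {ε : N →* ℂˣ} (hε : IsExt (P := P) ε μ) :
    fixd (altF (ζ : G → ℂ)) ε = 0 ∨ fixd (symF (ζ : G → ℂ)) ε = 0 := by
  have he2 := L.two_le
  have h2p : p ≠ 2 := by have := L.half; omega
  have hV : V ≤ Subgroup.center G := L.center.le
  obtain ⟨⟨hA, hAc, hAm⟩, hS, hSc, -⟩ := L.squares K hp h2p hμ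
  have hνν : IsExt (P := P) (ν * ν) μ :=
    ⟨fun n hn => by rw [MonoidHom.mul_apply, hν.onP n hn, one_mul],
      fun n hn => by rw [MonoidHom.mul_apply, Units.val_mul, hν.onV n hn, hμ]⟩
  obtain ⟨w, hw⟩ := (SmallDeg16.orbit_index K C (CCSylow.e_pos K.D)).2 (-1) heven.neg_one_pow
  have hwo : (w : G) ∉ Subgroup.centralizer (P : Set G) := fun h => by
    have h1 : (-1 : ZMod p) = 1 := C.lam_injective (hw.symm.trans (act_cent K C h))
    exact two_ne_zero' h2p (by linear_combination -h1)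
  have hww : ((w * w : N) : G) ∈ Subgroup.centralizer (P : Set G) := cent_of_act K C (by
    rw [lT_mul, hw, SmallDeg16.lT_lam K C hw, mul_neg, mul_one, neg_neg])
  have hset : (Finset.univ.filter fun n : N => (n : G) ∉ Subgroup.centralizer (P : Set G)).filter
      (fun n : N => ((n * n : N) : G) ∈ Subgroup.centralizer (P : Set G)) =
      (Finset.univ.filter fun n : N => (n : G) ∈ Subgroup.centralizer (P : Set G)).image (· * w) := by
    ext n
    simp only [Finset.mem_filter, Finset.mem_univ, true_and, Finset.mem_image]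
    constructor
    · rintro ⟨hn, hnn⟩
      refine ⟨n * w⁻¹, ?_, by rw [inv_mul_cancel_right]⟩
      have hwi : lT K.D w⁻¹ (C.lam (-1)) = C.lam 1 := by rw [← hw, ← lT_mul, mul_inv_cancel, lT_one]
      exact cent_of_act K C (by rw [lT_mul, (act_of_sq K C hn hnn).1, hwi])
    · rintro ⟨x, hx, rfl⟩
      have hlx : lT K.D (x * w) (C.lam 1) = C.lam (-1) := by rw [lT_mul, act_cent K C hx, hw]
      refine ⟨fun h => ?_, cent_of_act K C ?_⟩
      · have h1 : (-1 : ZMod p) = 1 := C.lam_injective (hlx.symm.trans (act_cent K C h))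
        exact two_ne_zero' h2p (by linear_combination -h1)
      · rw [lT_mul _ (x * w), hlx, SmallDeg16.lT_lam K C hlx, mul_neg, mul_one, neg_neg]
  set z : ℂ := ((ν * ν) w : ℂ) * conj (ε w : ℂ) with hz
  set d : ℕ := charDegree (ζ : G → ℂ) with hd
  have hsum : ∑ n ∈ Finset.univ.filter (fun n : N => (n : G) ∉ Subgroup.centralizer (P : Set G)),
      altF (ζ : G → ℂ) n * conj (ε n : ℂ) = (1 - (d : ℂ)) / 2 * (((p : ℂ) * Nat.card V) * z) := by
    rw [← Finset.sum_filter_add_sum_filter_not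
      (Finset.univ.filter fun n : N => (n : G) ∉ Subgroup.centralizer (P : Set G))
      (fun n : N => ((n * n : N) : G) ∈ Subgroup.centralizer (P : Set G))]
    rw [Finset.sum_eq_zero (s := Finset.filter (fun n : N => ¬ _) _) fun n hn => by
      rw [((L.alt_out K hν hout (Finset.mem_filter.1 (Finset.mem_filter.1 hn).1).2).1
        (Finset.mem_filter.1 hn).2), zero_mul], add_zero]
    rw [Finset.sum_congr rfl (g := fun n : N => (1 - (d : ℂ)) / 2 * (((ν * ν) n : ℂ) * conj (ε n : ℂ)))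
      fun n hn => by
        rw [((L.alt_out K hν hout (Finset.mem_filter.1 (Finset.mem_filter.1 hn).1).2).2
          (Finset.mem_filter.1 hn).2), MonoidHom.mul_apply, Units.val_mul, mul_assoc],
      ← Finset.mul_sum, hset, Finset.sum_image fun a _ b _ h => mul_right_cancel h]
    congr 1
    rw [Finset.sum_congr rfl (g := fun _ => z) fun x hx => ?_, Finset.sum_const, card_cent K, nsmul_eq_mul]
    · push_cast; ring
    · rw [map_mul, map_mul, Units.val_mul, Units.val_mul, map_mul,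
        eq_on_cent K hνν hε (Finset.mem_filter.1 hx).2, hz]
      linear_combination (((ν * ν) w : ℂ) * conj (ε w : ℂ)) * norm_hom ε x
  have hpV : ((p : ℂ) * Nat.card V) ≠ 0 :=
    mul_ne_zero (Nat.cast_ne_zero.2 K.hp.ne_zero) (Nat.cast_ne_zero.2 Nat.card_pos.ne')
  have heC : (e : ℂ) ≠ 0 := Nat.cast_ne_zero.2 (by omega)
  have hR10 : R e 1 (0 : ZMod p) = e := by
    rw [R_zero hp one_ne_zero, if_pos (mem_roots.2 heven.neg_one_pow)]
  have hdp : (d : ℤ) = (p : ℤ) - e := by have := L.deg; omega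
  have hA0 : (e : ℂ) * fixd (altF (ζ : G → ℂ)) ε = ((d : ℂ) - 1) / 2 * (1 - z) := by
    have h := inn_split K hV hμ1 hAc hAm hε
    rw [hsum, inn_eq_fixd hA] at h
    have h2a : ((aAlt p e 0 : ℤ) : ℂ) = ((d : ℂ) - 1) / 2 := by
      have h' := (two_mul_aAlt h2p e (0 : ZMod p)).1
      rw [zero_div, aJ_zero (by omega) 1, hR10] at h'
      have h2 : 2 * aAlt p e (0 : ZMod p) = (d : ℤ) - 1 := by omega
      have h3 : (2 : ℂ) * ((aAlt p e 0 : ℤ) : ℂ) = (d : ℂ) - 1 := by exact_mod_cast h2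
      linear_combination h3 / 2
    rw [h2a] at h
    refine mul_left_cancel₀ hpV ?_
    linear_combination h
  have hzz : z = 1 ∨ z = -1 := by
    have h1 : (((ν * ν) w : ℂˣ) : ℂ) * ((ν * ν) w : ℂˣ) = (ε w : ℂ) * (ε w : ℂ) := by
      rw [← Units.val_mul, ← Units.val_mul, ← map_mul, ← map_mul, eq_on_cent K hνν hε hww]
    rcases mul_self_eq_mul_self_iff.1 h1 with h | h
    · exact Or.inl (by rw [hz, h, norm_hom ε w])
    · exact Or.inr (by rw [hz, h, neg_mul, norm_hom ε w])
  rcases hzz with h1 | h1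
  · left
    rw [h1, sub_self, mul_zero] at hA0
    exact_mod_cast (mul_eq_zero.1 hA0).resolve_left heC
  · right
    have hne : ε ≠ ν * ν := by
      intro h
      rw [hz, h, norm_hom (ν * ν) w] at h1
      norm_num at h1
    obtain ⟨hf, hfc, hfm⟩ : IsCharacter G (fun g => (ζ : G → ℂ) g * (ζ : G → ℂ) g) ∧
        Cen V (fun g => (ζ : G → ℂ) g * (ζ : G → ℂ) g) μ ∧
        HasMult C (fun g => (ζ : G → ℂ) g * (ζ : G → ℂ) g) (fun c => (p : ℤ) - 2 * e + R e 1 c) :=
      ⟨IsCharacter.mul (IsIrrCharacter.isCharacter ζ.2) (IsIrrCharacter.isCharacter ζ.2),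
        fun v g => by
          show (ζ : G → ℂ) _ * (ζ : G → ℂ) _ = _ * ((ζ : G → ℂ) g * (ζ : G → ℂ) g)
          rw [L.cen, hμ]; ring,
        (L.mz.mul L.mz).congr fun c => conv_aJ hp one_ne_zero c⟩
    have h := inn_of_out K hV hμ1 hfc hfm hνν hε 1
      (fun n hn => by rw [one_mul, MonoidHom.mul_apply, Units.val_mul, hout n hn])
    rw [if_neg hne, one_mul, hR10, show (fun g => (ζ : G → ℂ) g * (ζ : G → ℂ) g) =
      fun g => altF (ζ : G → ℂ) g + symF (ζ : G → ℂ) g from funext fun g => by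
        simp only [altF, symF]; ring, inn_add, inn_eq_fixd hA, inn_eq_fixd hS] at h
    rw [h1] at hA0
    have hdc : (d : ℂ) = (p : ℂ) - e := by exact_mod_cast hdp
    have h3 : (e : ℂ) * fixd (symF (ζ : G → ℂ)) ε = 0 := by
      push_cast at h
      linear_combination h - hA0 - hdc
    exact_mod_cast (mul_eq_zero.1 h3).resolve_left heC

end Cfsg.Agent.Feit
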