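import Cfsg.Agent.Lib.Feit.Reduce
import Cfsg.Agent.Lib.SmallDegree.Monomial

/-!
An element whose eigenvalues lie in a short arc is central, in degree less than `p - 1` with a
non-normal Sylow subgroup.
-/

set_option autoImplicit false
set_option linter.unusedSectionVars false
set_option linter.style.haveILetI false

noncomputable section

namespace Cfsg.Agent.Feit

open Module SmallDim SmallDeg16 FrobBound
open Cfsg.Agent.SmallDegree (weightPerm mem_weightSpace_of_ker eq_of_weights)

universe u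

section Unitary

variable {G : Type u} [Group G] [Fintype G] {n : ℕ} (ρ : Representation ℂ G (Fin n → ℂ))

theorem orbitEmb_injective : Function.Injective (orbitEmb ρ) := by
  intro v w h
  have h1 := orbitEmb_apply ρ v 1
  rw [h, orbitEmb_apply ρ w 1] at h1
  simpa using (congrArg WithLp.ofLp h1).symm

theorem norm_orbitEmb (g : G) (v : Fin n → ℂ) : ‖orbitEmb ρ (ρ g v)‖ = ‖orbitEmb ρ v‖ := by
  rw [← sq_eq_sq₀ (norm_nonneg _) (norm_nonneg _), PiLp.norm_sq_eq_of_L2, PiLp.norm_sq_eq_of_L2]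
  refine Fintype.sum_equiv (Equiv.mulRight g) _ _ fun k => ?_
  rw [orbitEmb_apply, orbitEmb_apply, Equiv.coe_mulRight, map_mul]
  rfl

omit [Fintype G] in
/-- A representation preserving a norm from an inner product is unitary in suitable coordinates. -/
theorem exists_unitary_of_embedding {F : Type*} [NormedAddCommGroup F] [InnerProductSpace ℂ F]
    (ι : (Fin n → ℂ) →ₗ[ℂ] F) (hι : Function.Injective ι) (hn : ∀ g v, ‖ι (ρ g v)‖ = ‖ι v‖) :
    ∃ (e : (Fin n → ℂ) ≃ₗ[ℂ] EuclideanSpace ℂ (Fin n))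
      (τ : G →* (EuclideanSpace ℂ (Fin n) →L[ℂ] EuclideanSpace ℂ (Fin n))),
      (∀ g x, τ g (e x) = e (ρ g x)) ∧ ∀ g v, ‖τ g v‖ = ‖v‖ := by
  let e₀ := LinearEquiv.ofInjective ι hι
  haveI : FiniteDimensional ℂ (LinearMap.range ι) := e₀.finiteDimensional
  let b := (stdOrthonormalBasis ℂ (LinearMap.range ι)).reindex
    (finCongr (e₀.finrank_eq.symm.trans (Module.finrank_fin_fun ℂ)))
  let e : (Fin n → ℂ) ≃ₗ[ℂ] EuclideanSpace ℂ (Fin n) := e₀.trans b.repr.toLinearEquiv
  have hnorm : ∀ x, ‖e x‖ = ‖ι x‖ := fun x => b.repr.norm_map (e₀ x)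
  let τ : G →* (EuclideanSpace ℂ (Fin n) →L[ℂ] EuclideanSpace ℂ (Fin n)) :=
    { toFun := fun g => LinearMap.toContinuousLinearMap (e.conj (ρ g))
      map_one' := by ext x; simp [LinearEquiv.conj_apply]
      map_mul' := fun g h => by ext x; simp [LinearEquiv.conj_apply] }
  have happ : ∀ g x, τ g (e x) = e (ρ g x) := fun g x => by simp [τ, LinearEquiv.conj_apply]
  refine ⟨e, τ, happ, fun g v => ?_⟩
  obtain ⟨x, rfl⟩ := e.surjective v
  rw [happ, hnorm, hnorm, hn]

/-- A representation of a finite group is unitary in suitable coordinates. -/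
theorem exists_unitary (hρ : Function.Injective ρ) :
    ∃ (e : (Fin n → ℂ) ≃ₗ[ℂ] EuclideanSpace ℂ (Fin n))
      (τ : G →* (EuclideanSpace ℂ (Fin n) →L[ℂ] EuclideanSpace ℂ (Fin n))),
      (∀ g x, τ g (e x) = e (ρ g x)) ∧ (∀ g v, ‖τ g v‖ = ‖v‖) ∧ Function.Injective τ := by
  obtain ⟨e, τ, happ, hiso⟩ :=
    exists_unitary_of_embedding ρ (orbitEmb ρ) (orbitEmb_injective ρ) (norm_orbitEmb ρ)
  refine ⟨e, τ, happ, hiso, fun a b h => hρ (LinearMap.ext fun x => e.injective ?_)⟩
  rw [← happ, ← happ, h]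

end Unitary

variable {G : Type u} [Group G] [Finite G] {p : ℕ} [hpF : Fact p.Prime] {n : ℕ}

/-- An abelian normal subgroup is central, unless the Sylow subgroups are normal. -/
theorem le_center_of_abelian (ρ : Representation ℂ G (Fin n → ℂ)) [ρ.IsIrreducible]
    (hρ : Function.Injective ρ) (hn : n + 1 < p) (hG : ¬ PNormal p G)
    (A : Subgroup G) [hA : A.Normal] (hAc : ∀ x ∈ A, ∀ y ∈ A, x * y = y * x) :
    A ≤ Subgroup.center G := by
  haveI : Fintype G := Fintype.ofFinite G
  obtain ⟨e, τ, happ, hiso, hinj⟩ := exists_unitary ρ hρ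
  haveI := (indep_weightSpace τ A hAc).fintypeNeBotOfFiniteDimensional
  have hcard : Fintype.card {χ : A → ℂ // weightSpace τ A χ ≠ ⊥} < p := by
    have h := (indep_weightSpace τ A hAc).subtype_ne_bot_le_finrank
    rw [finrank_euclideanSpace_fin] at h
    omega
  have hpA : ∀ x : G, IsPElt p x → x ∈ Subgroup.centralizer (A : Set G) := by
    rintro x ⟨k, hk⟩
    have hker : x ∈ (weightPerm τ A).ker := by
      rw [MonoidHom.mem_ker, ← orderOf_eq_one_iff]
      refine Nat.eq_one_of_dvd_coprimes ?_ (orderOf_dvd_of_pow_eq_one (n := p ^ k)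
        (by rw [← map_pow, hk, map_one])) (orderOf_dvd_natCard (weightPerm τ A x))
      classical
      rw [Nat.card_perm, Nat.card_eq_fintype_card]
      exact Nat.Coprime.pow_left k ((hpF.out.coprime_iff_not_dvd).2 fun h =>
        absurd ((hpF.out.dvd_factorial).1 h) (by omega))
    refine Subgroup.mem_centralizer_iff.2 fun a ha => eq_of_weights τ hinj A hAc fun χ hχ v hv => ?_
    rw [tau_mul, tau_mul, (mem_weightSpace τ).1 (mem_weightSpace_of_ker τ A hker hχ hv) ⟨a, ha⟩,
      (mem_weightSpace τ).1 hv ⟨a, ha⟩, map_smul]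
  haveI hNn : (Subgroup.centralizer (A : Set G)).Normal :=
    ⟨fun z hz g => Subgroup.mem_centralizer_iff.2 fun b hb => by
      have h1 := Subgroup.mem_centralizer_iff.1 hz (g⁻¹ * b * g) (by simpa using hA.conj_mem b hb g⁻¹)
      calc b * (g * z * g⁻¹) = g * (g⁻¹ * b * g * z) * g⁻¹ := by group
        _ = g * (z * (g⁻¹ * b * g)) * g⁻¹ := by rw [h1]
        _ = g * z * g⁻¹ * b := by group⟩
  haveI := (pnormal_or_irreducible ρ hρ hn (Subgroup.centralizer (A : Set G))).resolve_left
    fun h => hG (pnormal_of_normal _ hpA h)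
  intro a ha
  obtain ⟨s, hs⟩ := Char.schur_scalar
    (MonoidHom.comp ρ (Subgroup.centralizer (A : Set G)).subtype :
      Representation ℂ (Subgroup.centralizer (A : Set G)) (Fin n → ℂ)) (ρ a) fun l v => by
      show ρ a (ρ (l : G) v) = ρ (l : G) (ρ a v)
      rw [← Module.End.mul_apply, ← map_mul, Subgroup.mem_centralizer_iff.1 l.2 a ha, map_mul,
        Module.End.mul_apply]
  exact mem_center_of_scalar ρ hρ fun v => by rw [hs]; rfl

/-- An element with its eigenvalues within less than one half of a point is central. -/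
theorem mem_center_of_arc (ρ : Representation ℂ G (Fin n → ℂ)) [ρ.IsIrreducible]
    (hρ : Function.Injective ρ) (hn : n + 1 < p) (hG : ¬ PNormal p G) {g : G} (c : ℂ) {r : ℝ}
    (hr : r < 1 / 2)
    (h : ∀ (μ : ℂ) (v : Fin n → ℂ), v ≠ 0 → ρ g v = μ • v → ‖μ - c‖ ≤ r) :
    g ∈ Subgroup.center G := by
  haveI : Fintype G := Fintype.ofFinite G
  obtain ⟨e, τ, happ, hiso, hinj⟩ := exists_unitary ρ hρ
  have hcyc : ∀ x ∈ Subgroup.zpowers g, ∀ y ∈ Subgroup.zpowers g, x * y = y * x := by
    rintro x ⟨i, rfl⟩ y ⟨j, rfl⟩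
    simp only [← zpow_add, add_comm]
  set r' : ℝ := max r 0 with hr'
  have hr2 : r' < 1 / 2 := max_lt hr (by norm_num)
  have hg : ‖τ g - c • 1‖ ≤ r' := by
    refine norm_le_of_weights τ hiso (Subgroup.zpowers g) hcyc _ r' (le_max_right _ _)
      fun χ hχ => ?_
    obtain ⟨v, hv, hv0⟩ := (Submodule.ne_bot_iff _).1 hχ
    obtain ⟨x, rfl⟩ := e.surjective v
    let gg : Subgroup.zpowers g := ⟨g, Subgroup.mem_zpowers g⟩
    refine ⟨χ gg - c, ?_, fun w hw => ?_⟩
    · refine (h (χ gg) x (fun hx => hv0 (by rw [hx, map_zero])) (e.injective ?_)).trans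
        (le_max_left _ _)
      rw [← happ, map_smul]
      exact (mem_weightSpace τ).1 hv gg
    · rw [sub_smul, ← (mem_weightSpace τ).1 hw gg]
      rfl
  have hconj : ∀ y : G, ‖τ (y * g * y⁻¹) - c • 1‖ ≤ r' := by
    intro y
    have e : τ (y * g * y⁻¹) - c • 1 = τ y * (τ g - c • 1) * τ y⁻¹ := by
      simp only [map_mul, mul_sub, sub_mul, mul_smul_comm, smul_mul_assoc, mul_one]
      rw [← map_mul τ y y⁻¹, mul_inv_cancel, map_one]
    rw [e]
    exact (norm_conj_le τ hiso y _).trans hg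
  have hcomm : ∀ a ∈ Group.conjugatesOfSet ({g} : Set G), ∀ b ∈ Group.conjugatesOfSet ({g} : Set G),
      a * b = b * a := by
    intro a ha b hb
    simp only [Group.mem_conjugatesOfSet_iff, Set.mem_singleton_iff, exists_eq_left] at ha hb
    obtain ⟨y, rfl⟩ := isConj_iff.mp ha
    obtain ⟨z, rfl⟩ := isConj_iff.mp hb
    set a := y * g * y⁻¹
    set b := z * g * z⁻¹
    have hnear : ‖τ (a * b⁻¹) - 1‖ < 1 := by
      have e : τ (a * b⁻¹) - 1 = ((τ a - c • 1) - (τ b - c • 1)) * τ b⁻¹ := by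
        rw [sub_sub_sub_cancel_right, sub_mul, ← map_mul, ← map_mul, mul_inv_cancel, map_one]
      rw [e]
      calc _ ≤ ‖(τ a - c • 1) - (τ b - c • 1)‖ * ‖τ b⁻¹‖ := norm_mul_le _ _
        _ ≤ (r' + r') * 1 := by
            gcongr
            · exact (norm_sub_le _ _).trans (add_le_add (hconj y) (hconj z))
            · exact norm_tau_le τ hiso _
        _ < 1 := by linarith
    have h1 := commute_of_near τ hiso hinj (lt_of_le_of_lt (hconj y) hr2) hnear
    have h2 : Commute a b⁻¹ := by simpa using ((Commute.refl a).inv_right.mul_right h1)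
    exact (show Commute a b by simpa using h2.inv_right).eq
  have hAc : ∀ x ∈ Subgroup.normalClosure ({g} : Set G),
      ∀ y ∈ Subgroup.normalClosure ({g} : Set G), x * y = y * x := by
    have hcm : IsMulCommutative (Subgroup.closure (Group.conjugatesOfSet ({g} : Set G))) :=
      Subgroup.isMulCommutative_closure hcomm
    intro x hx y hy
    exact congrArg Subtype.val (hcm.is_comm.comm ⟨x, hx⟩ ⟨y, hy⟩)
  exact le_center_of_abelian ρ hρ hn hG _ hAc (Subgroup.subset_normalClosure rfl)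

end Cfsg.Agent.Feit
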