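import Cfsg.Agent.Lib.SmallDeg16.Square
import Cfsg.Agent.Lib.SmallDim.Core
import Mathlib.GroupTheory.FiniteAbelian.Duality

/-!
The fixed space of `P` as a representation of `N / P`: the exceptional characters of a block share a
linear character of `N / P`, which bounds their multiplicities in any character.
-/

set_option autoImplicit false
set_option linter.unusedSectionVars false
set_option linter.style.haveILetI false

namespace Cfsg.Agent.Feit

open Cfsg Cfsg.Agent.Char Cfsg.Agent.Blocks Cfsg.Agent.CCSylow Cfsg.Agent.DefOne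
open Cfsg.Agent.DegreePTwo
open Cfsg.Agent.SmallDeg16 (mult Cen Coord HasMult Fam exists_coord lam_bijective lin_norm mult_eq)
open scoped ComplexConjugate

universe u

variable {G : Type u} [Group G] [Fintype G] {p : ℕ}

/-- The inner product on `N` with a linear character. -/
noncomputable def inn {N : Subgroup G} [Fintype N] (f : G → ℂ) (ε : N →* ℂˣ) : ℂ :=
  classInner (fun n : N => f n) (fun n => (ε n : ℂ))

/-- The multiplicity of a linear character of `N`. -/
noncomputable def fixd {N : Subgroup G} [Fintype N] (f : G → ℂ) (ε : N →* ℂˣ) : ℕ :=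
  ⌊(inn f ε).re⌋₊

/-- A linear character of `N` trivial on `P` and equal to `μ` on `V`. -/
structure IsExt {P V N : Subgroup G} (ε : N →* ℂˣ) (μ : IrrCharacter V) : Prop where
  onP : ∀ n : N, (n : G) ∈ P → ε n = 1
  onV : ∀ (n : N) (h : (n : G) ∈ V), (ε n : ℂ) = (μ : V → ℂ) ⟨n, h⟩

theorem norm_hom {H : Type*} [Group H] [Finite H] (ε : H →* ℂˣ) (n : H) :
    (ε n : ℂ) * conj (ε n : ℂ) = 1 := by
  rw [Complex.mul_conj, Complex.normSq_eq_norm_sq,
    norm_eq_one_of_pow (m := Nat.card H) Nat.card_pos.ne' ?_]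
  · simp
  · rw [← Units.val_pow_eq_pow_val, ← map_pow, pow_card_eq_one', map_one, Units.val_one]

theorem inn_eq_fixd {N : Subgroup G} [Fintype N] {f : G → ℂ} (hf : IsCharacter G f)
    (ε : N →* ℂˣ) : inn f ε = (fixd f ε : ℂ) := by
  obtain ⟨n, hn⟩ := IsCharacter.exists_classInner_nat (IsCharacter.restrict hf N)
    (IsIrrCharacter.isCharacter (isIrrCharacter_linear ε))
  have h : inn f ε = (n : ℂ) := hn
  rw [fixd, h, Complex.natCast_re, Nat.floor_natCast]

/-- Additivity. -/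
theorem fixd_eq_sum {N : Subgroup G} [Fintype N] {f : G → ℂ} (hf : IsCharacter G f)
    (ε : N →* ℂˣ) :
    fixd f ε = ∑ η : IrrCharacter G, mult f η * fixd (η : G → ℂ) ε := by
  have h : inn f ε = ∑ η : IrrCharacter G, (mult f η : ℂ) * inn (η : G → ℂ) ε := by
    simp only [inn, classInner]
    rw [Finset.sum_congr rfl fun n _ => by rw [SmallDeg16.apply_eq_sum_mult hf (n : G), Finset.sum_mul],
      Finset.sum_comm, Finset.mul_sum]
    refine Finset.sum_congr rfl fun η _ => ?_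
    simp only [Finset.mul_sum]
    exact Finset.sum_congr rfl fun n _ => by ring
  rw [inn_eq_fixd hf, Finset.sum_congr rfl fun η _ => by
    rw [inn_eq_fixd (IsIrrCharacter.isCharacter η.2)]] at h
  exact_mod_cast h

variable {P V N : Subgroup G} {e : ℕ} (K : Conf p P V N e)
  [Fintype P] [Fintype V] [Fintype N] [Fintype (P →* ℂˣ)]

include K

theorem le_N : P ≤ N := K.hN ▸ Subgroup.le_normalizer

theorem cent_le_N : Subgroup.centralizer (P : Set G) ≤ N :=
  K.hN ▸ Subgroup.centralizer_le_normalizer _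

theorem V_le_cent : V ≤ Subgroup.centralizer (P : Set G) := fun v hv =>
  (K.hC v).2 ⟨1, P.one_mem, v, hv, one_mul v⟩

theorem P_le_cent : P ≤ Subgroup.centralizer (P : Set G) := fun y hy =>
  (K.hC y).2 ⟨y, hy, 1, V.one_mem, mul_one y⟩

/-- Elements of `N` outside the centraliser are regular. -/
theorem regular_of_out {n : N} (hn : (n : G) ∉ Subgroup.centralizer (P : Set G)) :
    ¬ p ∣ orderOf (n : G) := by
  haveI := Fact.mk K.hp
  intro h
  set a : G := (n : G) ^ (orderOf (n : G) / p) with ha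
  have hao : orderOf a = p := orderOf_pow_orderOf_div (orderOf_pos (n : G)).ne' h
  have hmem : a ∈ Subgroup.normalizer (P : Set G) := K.hN ▸ N.pow_mem n.2 _
  have haP : a ∈ P :=
    SmallDim.mem_of_pow_eq_one P K.hP K.hsq hmem (by rw [← hao, pow_orderOf_eq_one])
  have ha1 : a ≠ 1 := fun h1 => K.hp.ne_one (by rw [← hao, h1, orderOf_one])
  refine hn ?_
  rw [← centralizer_singleton_eq K.hp K.hP haP ha1, Subgroup.mem_centralizer_singleton_iff, ha]
  rw [← pow_succ, ← pow_succ']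

/-- Outside the centraliser the coset of `P` is a single class. -/
theorem exists_conj_out {n : N} (hn : (n : G) ∉ Subgroup.centralizer (P : Set G)) (x : P) :
    ∃ z : G, z * (n : G) * z⁻¹ = (x : G) * n := by
  have hnN : (n : G) ∈ N := n.2
  let φ : P → P := fun y => ⟨(y : G) * ((n : G) * (y : G)⁻¹ * (n : G)⁻¹),
    P.mul_mem y.2 (K.D.hNP _ hnN _ (P.inv_mem y.2))⟩
  have hinj : Function.Injective φ := by
    intro y y' h
    have h' : (y : G) * ((n : G) * (y : G)⁻¹ * (n : G)⁻¹) =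
        (y' : G) * ((n : G) * (y' : G)⁻¹ * (n : G)⁻¹) := congrArg Subtype.val h
    by_contra hne
    have hu1 : (y' : G)⁻¹ * y ≠ 1 := fun h1 => hne (Subtype.ext (inv_mul_eq_one.1 h1).symm)
    have huP : (y' : G)⁻¹ * y ∈ P := P.mul_mem (P.inv_mem y'.2) y.2
    refine hn ?_
    rw [← centralizer_singleton_eq K.hp K.hP huP hu1, Subgroup.mem_centralizer_singleton_iff]
    have e1 : (y : G) * (n : G) * (y : G)⁻¹ = (y' : G) * (n : G) * (y' : G)⁻¹ := by
      have := congrArg (fun z => z * (n : G)) h'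
      simpa [mul_assoc] using this
    calc (n : G) * ((y' : G)⁻¹ * y)
        = (y' : G)⁻¹ * ((y' : G) * (n : G) * (y' : G)⁻¹) * y := by group
      _ = (y' : G)⁻¹ * ((y : G) * (n : G) * (y : G)⁻¹) * y := by rw [e1]
      _ = (y' : G)⁻¹ * y * (n : G) := by group
  obtain ⟨y, hy⟩ := (Finite.injective_iff_surjective.1 hinj) x
  refine ⟨(y : G), ?_⟩
  have hy' : (y : G) * ((n : G) * (y : G)⁻¹ * (n : G)⁻¹) = (x : G) := congrArg Subtype.val hy
  rw [← hy']
  group

omit [Fintype N] in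
theorem sum_hasMult [NeZero p] {f : G → ℂ} {C : Coord p P} {a : ZMod p → ℤ} (ha : HasMult C f a) :
    ∑ x : P, f x = (p : ℂ) * a 0 := by
  rw [← C.el_bijective.sum_comp (fun x : P => f x), Finset.sum_congr rfl fun i _ => ha i,
    Finset.sum_comm, Finset.sum_eq_single (0 : ZMod p)]
  · simp [Finset.sum_const, ZMod.card, mul_comm]
  · intro j _ hj
    rw [← Finset.mul_sum, AddChar.sum_mulShift j (ZMod.isPrimitive_stdAddChar p), if_neg hj]
    simp
  · exact fun h => absurd (Finset.mem_univ _) h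

open scoped Classical in
/-- The inner product split at the centraliser. -/
theorem inn_split [NeZero p] (hV : V ≤ Subgroup.center G) {μ : IrrCharacter V}
    (hμ : (μ : V → ℂ) 1 = 1) {f : G → ℂ} (hc : Cen V f μ) {C : Coord p P} {a : ZMod p → ℤ}
    (ha : HasMult C f a) {ε : N →* ℂˣ} (hε : IsExt (P := P) ε μ) :
    ((e : ℂ) * ((p : ℂ) * Nat.card V)) * inn f ε = ((p : ℂ) * Nat.card V) * a 0 +
      ∑ n ∈ Finset.univ.filter (fun n : N => (n : G) ∉ Subgroup.centralizer (P : Set G)),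
        f n * conj (ε n : ℂ) := by
  have hcard : (Nat.card N : ℂ) = (e : ℂ) * ((p : ℂ) * Nat.card V) := by
    rw [K.D.hcard, K.hP]; push_cast; ring
  have hN0 : (Nat.card N : ℂ) ≠ 0 := Nat.cast_ne_zero.2 Nat.card_pos.ne'
  rw [inn, classInner, ← hcard, mul_inv_cancel_left₀ hN0,
    ← Finset.sum_filter_add_sum_filter_not Finset.univ
      (fun n : N => (n : G) ∈ Subgroup.centralizer (P : Set G))]
  congr 1
  let g : P × V → N := fun q => ⟨(q.1 : G) * q.2,
    N.mul_mem (le_N K q.1.2) (cent_le_N K (V_le_cent K q.2.2))⟩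
  have hmem : ∀ q : P × V, ((g q : N) : G) ∈ Subgroup.centralizer (P : Set G) := fun q =>
    (K.hC _).2 ⟨q.1, q.1.2, q.2, q.2.2, rfl⟩
  have hval : ∀ q : P × V, f (g q) * conj (ε (g q) : ℂ) = f q.1 := by
    intro q
    have hcomm : (q.1 : G) * q.2 = (q.2 : G) * q.1 := Subgroup.mem_center_iff.1 (hV q.2.2) _
    have hN : g q = (⟨(q.1 : G), le_N K q.1.2⟩ : N) * ⟨(q.2 : G), cent_le_N K (V_le_cent K q.2.2)⟩ :=
      rfl
    show f ((q.1 : G) * q.2) * conj (ε (g q) : ℂ) = _
    rw [hN, map_mul, hε.onP _ q.1.2, one_mul, hε.onV _ q.2.2, hcomm, hc, mul_comm ((μ : V → ℂ) q.2),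
      mul_assoc]
    show f q.1 * ((μ : V → ℂ) q.2 * conj ((μ : V → ℂ) q.2)) = f q.1
    rw [lin_norm hμ, mul_one]
  have hinj : Function.Injective g := by
    intro q q' h
    have h' : (q.1 : G) * q.2 = (q'.1 : G) * q'.2 := congrArg Subtype.val h
    have hv : (q'.1 : G)⁻¹ * q.1 = (q'.2 : G) * (q.2 : G)⁻¹ := by
      rw [eq_mul_inv_iff_mul_eq, mul_assoc, h', inv_mul_cancel_left]
    have h1 : (q'.1 : G)⁻¹ * q.1 = 1 := by
      have hp1 : ((q'.1 : G)⁻¹ * q.1) ^ Nat.card P = 1 :=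
        congrArg Subtype.val (pow_card_eq_one' (x := (q'.1⁻¹ * q.1 : P)))
      have hv1 : ((q'.1 : G)⁻¹ * q.1) ^ Nat.card V = 1 := by
        rw [hv]
        exact congrArg Subtype.val (pow_card_eq_one' (x := (q'.2 * q.2⁻¹ : V)))
      exact CharExtend.eq_one_of_pow_coprime hp1 hv1 K.D.cop
    rw [inv_mul_eq_one] at h1
    rw [h1, mul_right_inj] at h'
    exact Prod.ext (Subtype.ext h1.symm) (Subtype.ext h')
  rw [show (Finset.univ.filter fun n : N => (n : G) ∈ Subgroup.centralizer (P : Set G)) =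
      Finset.univ.image g from ?_, Finset.sum_image (fun a _ b _ h => hinj h),
    Finset.sum_congr rfl fun q _ => hval q, Fintype.sum_prod_type]
  · simp only [Finset.sum_const, Finset.card_univ, nsmul_eq_mul, ← Finset.mul_sum,
      ← Nat.card_eq_fintype_card]
    rw [sum_hasMult K ha]
    ring
  · ext n
    simp only [Finset.mem_filter, Finset.mem_univ, true_and, Finset.mem_image]
    constructor
    · intro hn
      obtain ⟨y, hy, v, hv, hyv⟩ := (K.hC _).1 hn
      exact ⟨(⟨y, hy⟩, ⟨v, hv⟩), Subtype.ext hyv⟩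
    · rintro ⟨q, rfl⟩
      exact hmem q

open scoped Classical in
/-- The multiplicity for a character that is a multiple of an extension outside the centraliser. -/
theorem inn_of_out [NeZero p] (hV : V ≤ Subgroup.center G) {μ : IrrCharacter V}
    (hμ : (μ : V → ℂ) 1 = 1) {f : G → ℂ} (hc : Cen V f μ) {C : Coord p P} {a : ZMod p → ℤ}
    (ha : HasMult C f a) {ν ε : N →* ℂˣ} (hν : IsExt (P := P) ν μ) (hε : IsExt (P := P) ε μ)
    (c : ℂ) (hout : ∀ n : N, (n : G) ∉ Subgroup.centralizer (P : Set G) → f n = c * (ν n : ℂ)) :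
    (e : ℂ) * inn f ε = a 0 + c * ((if ε = ν then (e : ℂ) else 0) - 1) := by
  have hpV : ((p : ℂ) * Nat.card V) ≠ 0 :=
    mul_ne_zero (Nat.cast_ne_zero.2 K.hp.ne_zero) (Nat.cast_ne_zero.2 Nat.card_pos.ne')
  have hsum : ∑ n : N, (ν n : ℂ) * conj (ε n : ℂ) =
      (if ε = ν then (e : ℂ) else 0) * ((p : ℂ) * Nat.card V) := by
    by_cases hne : ε = ν
    · subst hne
      rw [if_pos rfl, Finset.sum_congr rfl fun n _ => norm_hom ε n, Finset.sum_const,
        Finset.card_univ, ← Nat.card_eq_fintype_card, nsmul_eq_mul, mul_one, K.D.hcard, K.hP]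
      push_cast
      ring
    · rw [if_neg hne, zero_mul]
      let φ : N →* ℂ := (Units.coeHom ℂ).comp (ν * ε⁻¹)
      have hφ : φ ≠ 1 := by
        intro h
        refine hne (MonoidHom.ext fun n => ?_)
        have h1 : ((ν n * (ε n)⁻¹ : ℂˣ) : ℂ) = 1 := DFunLike.congr_fun h n
        have h2 : ν n * (ε n)⁻¹ = 1 := Units.ext h1
        exact (mul_inv_eq_one.1 h2).symm
      have h0 := sum_hom_units_eq_zero φ hφ
      rw [← h0]
      refine Finset.sum_congr rfl fun n _ => ?_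
      show _ = ((ν n * (ε n)⁻¹ : ℂˣ) : ℂ)
      rw [Units.val_mul]
      congr 1
      rw [Units.val_inv_eq_inv_val]
      exact eq_inv_of_mul_eq_one_left (by rw [mul_comm, norm_hom ε n])
  have hin : ∑ n ∈ Finset.univ.filter (fun n : N => (n : G) ∈ Subgroup.centralizer (P : Set G)),
      (ν n : ℂ) * conj (ε n : ℂ) = (p : ℂ) * Nat.card V := by
    have hone : ∀ n : N, (n : G) ∈ Subgroup.centralizer (P : Set G) → ν n = ε n := by
      intro n hn
      obtain ⟨y, hy, v, hv, hyv⟩ := (K.hC _).1 hn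
      have hN : n = (⟨y, le_N K hy⟩ : N) * ⟨v, cent_le_N K (V_le_cent K hv)⟩ := Subtype.ext hyv.symm
      rw [hN, map_mul, map_mul, hν.onP _ hy, hε.onP _ hy]
      exact congrArg _ (Units.ext ((hν.onV _ hv).trans (hε.onV _ hv).symm))
    rw [Finset.sum_congr rfl (g := fun _ => (1 : ℂ)) fun n hn => by
      rw [hone n (Finset.mem_filter.1 hn).2, norm_hom ε n], Finset.sum_const, nsmul_eq_mul, mul_one]
    have : (Finset.univ.filter fun n : N => (n : G) ∈ Subgroup.centralizer (P : Set G)).card =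
        p * Nat.card V := by
      have h1 : (Finset.univ.filter fun n : N => (n : G) ∈ Subgroup.centralizer (P : Set G)).card =
          Nat.card ((Subgroup.centralizer (P : Set G)).subgroupOf N) := by
        rw [Nat.card_eq_fintype_card, Fintype.card_subtype]
        exact congrArg Finset.card (Finset.filter_congr fun n _ => Subgroup.mem_subgroupOf.symm)
      have h2 := Subgroup.card_mul_index ((Subgroup.centralizer (P : Set G)).subgroupOf N)
      rw [K.D.he, K.D.hcard, K.hP, mul_comm e] at h2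
      rw [h1]
      exact Nat.eq_of_mul_eq_mul_right (CCSylow.e_pos K.D) h2
    rw [this]
    push_cast
    rfl
  have hout' := inn_split K hV hμ hc ha hε
  rw [← Finset.sum_filter_add_sum_filter_not Finset.univ
    (fun n : N => (n : G) ∈ Subgroup.centralizer (P : Set G)), hin] at hsum
  rw [Finset.sum_congr rfl (g := fun n : N => c * ((ν n : ℂ) * conj (ε n : ℂ))) fun n hn => by
    rw [hout n (Finset.mem_filter.1 hn).2, mul_assoc], ← Finset.mul_sum] at hout'
  refine mul_left_cancel₀ hpV ?_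
  linear_combination hout' + c * hsum

/-- The extension carried by a character with one fixed point. -/
theorem exists_nu [NeZero p] {ζ : IrrCharacter G} {b : IrrCharacter V}
    (hb : (b : V → ℂ) 1 = 1) (hc : Cen V (ζ : G → ℂ) b) {C : Coord p P} {a : ZMod p → ℤ}
    (ha : HasMult C (ζ : G → ℂ) a) (ha0 : a 0 = 1) :
    ∃ ν : N →* ℂˣ, IsExt (P := P) ν b ∧
      ∀ n : N, (n : G) ∉ Subgroup.centralizer (P : Set G) → (ζ : G → ℂ) n = (ν n : ℂ) := by
  classical
  obtain ⟨m, ρ, -, hρ⟩ := id ζ.2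
  have hp0 : (p : ℂ) ≠ 0 := Nat.cast_ne_zero.2 K.hp.ne_zero
  let Q : Module.End ℂ (Fin m → ℂ) := (p : ℂ)⁻¹ • ∑ x : P, ρ (x : G)
  have hxQ : ∀ x : P, ρ (x : G) * Q = Q := fun x => by
    simp only [Q, mul_smul_comm, Finset.mul_sum, ← map_mul]
    congr 1
    exact Fintype.sum_equiv (Equiv.mulLeft x) _ _ fun z => rfl
  have hQQ : Q * Q = Q := by
    conv_lhs => arg 1; simp only [Q]
    rw [smul_mul_assoc, Finset.sum_mul, Finset.sum_congr rfl fun x _ => hxQ x, Finset.sum_const,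
      Finset.card_univ, ← Nat.card_eq_fintype_card, K.hP, ← Nat.cast_smul_eq_nsmul ℂ, smul_smul,
      inv_mul_cancel₀ hp0, one_smul]
  have htr : ∀ g : G, LinearMap.trace ℂ _ (Q * ρ g) = (p : ℂ)⁻¹ * ∑ x : P, (ζ : G → ℂ) ((x : G) * g) := by
    intro g
    simp only [Q, smul_mul_assoc, Finset.sum_mul, map_smul, map_sum, smul_eq_mul, ← map_mul, ← hρ]
    rfl
  have hproj := LinearMap.IsIdempotentElem.isProj_range Q hQQ
  have hrank : Module.finrank ℂ (LinearMap.range Q) = 1 := by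
    have h1 := htr 1
    rw [map_one, mul_one, hproj.trace] at h1
    simp only [mul_one] at h1
    rw [sum_hasMult K ha, ha0, inv_mul_cancel_left₀ hp0] at h1
    exact_mod_cast h1
  obtain ⟨v₀, hv₀, hspan⟩ := finrank_eq_one_iff'.1 hrank
  have hQ0 : Q ≠ 0 := fun h => by
    rw [h, LinearMap.range_zero, finrank_bot] at hrank
    omega
  have hcomm : ∀ n : N, ρ (n : G) * Q = Q * ρ (n : G) := by
    intro n
    simp only [Q, mul_smul_comm, smul_mul_assoc, Finset.mul_sum, Finset.sum_mul, ← map_mul]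
    congr 1
    let σ : P → P := fun x => ⟨(n : G) * x * (n : G)⁻¹, K.D.hNP _ n.2 _ x.2⟩
    have hσ : Function.Bijective σ := Finite.injective_iff_bijective.1 fun x y h =>
      Subtype.ext (mul_left_cancel (mul_right_cancel (congrArg Subtype.val h)))
    refine Fintype.sum_bijective σ hσ _ _ fun x => ?_
    show ρ ((n : G) * x) = ρ ((n : G) * x * (n : G)⁻¹ * n)
    rw [inv_mul_cancel_right]
  have hscal : ∀ n : N, ∃ c : ℂ, ρ (n : G) * Q = c • Q := by
    intro n
    have hv : ρ (n : G) (v₀ : Fin m → ℂ) ∈ LinearMap.range Q := by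
      obtain ⟨w, hw⟩ := v₀.2
      exact ⟨ρ (n : G) w, by rw [← hw, ← Module.End.mul_apply, ← hcomm, Module.End.mul_apply]⟩
    obtain ⟨c, hc'⟩ := hspan ⟨_, hv⟩
    have hc'' : c • (v₀ : Fin m → ℂ) = ρ (n : G) v₀ := congrArg Subtype.val hc'
    refine ⟨c, LinearMap.ext fun w => ?_⟩
    obtain ⟨l, hl⟩ := hspan ⟨Q w, LinearMap.mem_range_self Q w⟩
    have hl' : l • (v₀ : Fin m → ℂ) = Q w := congrArg Subtype.val hl
    show ρ (n : G) (Q w) = c • Q w
    rw [← hl', map_smul, ← hc'', smul_comm]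
  choose c hc' using hscal
  have hinj : ∀ {x y : ℂ}, x • Q = y • Q → x = y := fun {x y} h => smul_left_injective ℂ hQ0 h
  have hc1 : c 1 = 1 := hinj (by rw [← hc' 1, Subgroup.coe_one, map_one, one_mul, one_smul])
  have hcm : ∀ n n' : N, c (n * n') = c n * c n' := fun n n' => hinj (by
    rw [← hc' (n * n'), Subgroup.coe_mul, map_mul, mul_assoc, hc' n', mul_smul_comm, hc' n, smul_smul,
      mul_comm (c n')])
  let νh : N →* ℂ := { toFun := c, map_one' := hc1, map_mul' := hcm }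
  let ν : N →* ℂˣ := νh.toHomUnits
  have hνv : ∀ n : N, (ν n : ℂ) = c n := fun n => rfl
  have hcval : ∀ n : N, c n = (p : ℂ)⁻¹ * ∑ x : P, (ζ : G → ℂ) ((x : G) * n) := by
    intro n
    rw [← htr, ← hcomm n, hc' n, map_smul, smul_eq_mul, hproj.trace, hrank, Nat.cast_one, mul_one]
  refine ⟨ν, ⟨fun n hn => Units.ext ?_, fun n hn => ?_⟩, fun n hn => ?_⟩
  · rw [hνv, Units.val_one]
    exact hinj (by rw [← hc' n, hxQ ⟨n, hn⟩, one_smul])
  · rw [hνv, hcval, Finset.sum_congr rfl (g := fun x : P => (b : V → ℂ) ⟨n, hn⟩ * (ζ : G → ℂ) x)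
      fun x _ => ?_, ← Finset.mul_sum, sum_hasMult K ha, ha0]
    · push_cast
      field_simp
    · rw [K.D.pv _ x.2 _ hn]
      exact hc ⟨n, hn⟩ x
  · rw [hνv, hcval, Finset.sum_congr rfl (g := fun _ : P => (ζ : G → ℂ) n) fun x _ => ?_,
      Finset.sum_const, Finset.card_univ, ← Nat.card_eq_fintype_card, K.hP, nsmul_eq_mul,
      inv_mul_cancel_left₀ hp0]
    obtain ⟨z, hz⟩ := exists_conj_out K hn x
    rw [← hz]
    exact IsCharacter.isClassFunction (IsIrrCharacter.isCharacter ζ.2) (n : G) z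

open scoped Classical in
/-- A character with a fixed point contains some extension. -/
theorem exists_fixd_pos [NeZero p] (hV : V ≤ Subgroup.center G) {μ : IrrCharacter V}
    (hμ : (μ : V → ℂ) 1 = 1) {f : G → ℂ} (hf : IsCharacter G f) (hc : Cen V f μ) {C : Coord p P}
    {a : ZMod p → ℤ} (ha : HasMult C f a) (ha0 : 1 ≤ a 0) {ν : N →* ℂˣ}
    (hν : IsExt (P := P) ν μ) : ∃ ε : N →* ℂˣ, IsExt (P := P) ε μ ∧ 1 ≤ fixd f ε := by
  haveI := Fact.mk K.hp
  set H := (Subgroup.centralizer (P : Set G)).subgroupOf N with hH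
  haveI hHn : H.Normal := ⟨fun x hx n => by
    have hx' : (x : G) ∈ Subgroup.centralizer (P : Set G) := hx
    refine Subgroup.mem_subgroupOf.2 (Subgroup.mem_centralizer_iff.2 fun y hy => ?_)
    have h1 : (n : G)⁻¹ * y * n ∈ P := by simpa using K.D.hNP _ (inv_mem n.2) y hy
    have h2 := Subgroup.mem_centralizer_iff.1 hx' _ h1
    push_cast
    calc y * ((n : G) * x * (n : G)⁻¹) = (n : G) * (((n : G)⁻¹ * y * n) * x) * (n : G)⁻¹ := by group
      _ = (n : G) * (x * ((n : G)⁻¹ * y * n)) * (n : G)⁻¹ := by rw [h2]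
      _ = (n : G) * x * (n : G)⁻¹ * y := by group⟩
  have hcom : ∀ n n' : N, (n * n') * (n' * n)⁻¹ ∈ H := by
    intro n n'
    refine Subgroup.mem_subgroupOf.2 (Subgroup.mem_centralizer_iff.2 fun y hy => ?_)
    obtain ⟨y₀, hy₀⟩ := exists_ne_one_P K
    -- conjugations of a cyclic group of prime order commute
    have hpow : ∀ m : N, ∃ k : ℕ, ∀ z : P, (m : G) * z * (m : G)⁻¹ = (z : G) ^ k := by
      intro m
      obtain ⟨k, hk⟩ := exists_pow_eq K hy₀ ⟨(m : G) * y₀ * (m : G)⁻¹, K.D.hNP _ m.2 _ y₀.2⟩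
      have hk' : (y₀ : G) ^ k = (m : G) * y₀ * (m : G)⁻¹ := congrArg Subtype.val hk
      refine ⟨k, fun z => ?_⟩
      obtain ⟨i, rfl⟩ := exists_pow_eq K hy₀ z
      rw [SubmonoidClass.coe_pow, ← conj_pow, ← hk', ← pow_mul, ← pow_mul, mul_comm]
    obtain ⟨k, hk⟩ := hpow n
    obtain ⟨k', hk'⟩ := hpow n'
    have hnn : ∀ z : P, (n : G) * ((n' : G) * z * (n' : G)⁻¹) * (n : G)⁻¹ =
        (n' : G) * ((n : G) * z * (n : G)⁻¹) * (n' : G)⁻¹ := by
      intro z
      rw [hk' z, hk z, ← conj_pow, ← conj_pow, hk z, hk' z, ← pow_mul, ← pow_mul, mul_comm]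
    set m' : G := (n' : G) * n with hm'
    have hz : m'⁻¹ * y * m' ∈ P := by
      simpa [hm', mul_assoc] using K.D.hNP _ (N.inv_mem (N.mul_mem n'.2 n.2)) y hy
    have h3 := hnn ⟨_, hz⟩
    push_cast
    have e1 : (n : G) * n' * (m'⁻¹ * y * m') * ((n : G) * n')⁻¹ = y := by
      calc _ = (n : G) * ((n' : G) * (m'⁻¹ * y * m') * (n' : G)⁻¹) * (n : G)⁻¹ := by group
        _ = (n' : G) * ((n : G) * (m'⁻¹ * y * m') * (n : G)⁻¹) * (n' : G)⁻¹ := h3
        _ = m' * (m'⁻¹ * y * m') * m'⁻¹ := by rw [hm']; group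
        _ = y := by group
    calc y * ((n : G) * n' * m'⁻¹)
        = (n : G) * n' * (m'⁻¹ * y * m') * ((n : G) * n')⁻¹ * ((n : G) * n' * m'⁻¹) := by rw [e1]
      _ = (n : G) * n' * m'⁻¹ * y := by group
  letI : CommGroup (N ⧸ H) :=
    { (inferInstance : Group (N ⧸ H)) with
      mul_comm := fun x y => by
        obtain ⟨x, rfl⟩ := QuotientGroup.mk_surjective x
        obtain ⟨y, rfl⟩ := QuotientGroup.mk_surjective y
        rw [← QuotientGroup.mk_mul, ← QuotientGroup.mk_mul, eq_comm, QuotientGroup.eq]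
        have h := hcom x y
        have h2 := hHn.conj_mem _ h (y * x)⁻¹
        rwa [inv_inv, show (y * x)⁻¹ * (x * y * (y * x)⁻¹) * (y * x) = (y * x)⁻¹ * (x * y) by
          group] at h2 }
  haveI : Fintype ((N ⧸ H) →* ℂˣ) := Fintype.ofFinite _
  have hcardA : Fintype.card ((N ⧸ H) →* ℂˣ) = e := by
    rw [← Nat.card_eq_fintype_card, CommGroup.card_monoidHom_of_hasEnoughRootsOfUnity,
      ← Subgroup.index_eq_card, hH, K.D.he]
  let E : ((N ⧸ H) →* ℂˣ) → (N →* ℂˣ) := fun φ => ν * φ.comp (QuotientGroup.mk' H)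
  have hE : ∀ φ, IsExt (P := P) (E φ) μ := fun φ => by
    refine ⟨fun n hn => ?_, fun n hn => ?_⟩
    · have : (n : N ⧸ H) = 1 :=
        (QuotientGroup.eq_one_iff n).2 (P_le_cent K hn)
      simp [E, hν.onP n hn, this]
    · have : (n : N ⧸ H) = 1 :=
        (QuotientGroup.eq_one_iff n).2 (V_le_cent K hn)
      simp [E, hν.onV n hn, this]
  have hsum0 : ∀ n : N, (n : G) ∉ Subgroup.centralizer (P : Set G) →
      ∑ φ : (N ⧸ H) →* ℂˣ, conj (E φ n : ℂ) = 0 := by
    intro n hn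
    have hne : (QuotientGroup.mk' H) n ≠ 1 := fun h => hn ((QuotientGroup.eq_one_iff n).1 h)
    obtain ⟨φ₀, hφ₀⟩ := CommGroup.exists_apply_ne_one_of_hasEnoughRootsOfUnity (N ⧸ H) ℂ hne
    have hS : ∑ φ : (N ⧸ H) →* ℂˣ, (φ ((QuotientGroup.mk' H) n) : ℂ) = 0 := by
      have h1 : (φ₀ ((QuotientGroup.mk' H) n) : ℂ) *
          ∑ φ : (N ⧸ H) →* ℂˣ, (φ ((QuotientGroup.mk' H) n) : ℂ) =
          ∑ φ : (N ⧸ H) →* ℂˣ, (φ ((QuotientGroup.mk' H) n) : ℂ) := by
        rw [Finset.mul_sum]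
        exact Fintype.sum_equiv (Equiv.mulLeft φ₀) _ _ fun φ => by simp
      by_contra h
      exact hφ₀ (Units.ext ((mul_eq_right₀ h).1 h1))
    simp only [E, MonoidHom.mul_apply, MonoidHom.comp_apply, Units.val_mul, map_mul, ← Finset.mul_sum]
    rw [← map_sum, hS, map_zero, mul_zero]
  have htot : ∑ φ : (N ⧸ H) →* ℂˣ, inn f (E φ) = (a 0 : ℂ) := by
    have hpV : ((e : ℂ) * ((p : ℂ) * Nat.card V)) ≠ 0 :=
      mul_ne_zero (Nat.cast_ne_zero.2 (CCSylow.e_pos K.D).ne')
        (mul_ne_zero (Nat.cast_ne_zero.2 K.hp.ne_zero) (Nat.cast_ne_zero.2 Nat.card_pos.ne'))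
    refine mul_left_cancel₀ hpV ?_
    rw [Finset.mul_sum, Finset.sum_congr rfl fun φ _ => inn_split K hV hμ hc ha (hE φ),
      Finset.sum_add_distrib, Finset.sum_const, Finset.card_univ, hcardA, nsmul_eq_mul,
      Finset.sum_comm, Finset.sum_eq_zero fun n hn => by
        rw [← Finset.mul_sum, hsum0 n (Finset.mem_filter.1 hn).2, mul_zero]]
    ring
  by_contra hcon
  push Not at hcon
  rw [Finset.sum_congr rfl (g := fun _ => (0 : ℂ)) fun φ _ => by
    rw [inn_eq_fixd hf, Nat.lt_one_iff.1 (hcon (E φ) (hE φ)), Nat.cast_zero],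
    Finset.sum_const_zero] at htot
  have : a 0 = 0 := by exact_mod_cast htot.symm
  omega

/-- The bound: the exceptional characters of a block share one extension. -/
theorem budget {Y : Finset (IrrCharacter G)} {ε : N →* ℂˣ}
    (hY : ∀ θ ∈ Y, 1 ≤ fixd (θ : G → ℂ) ε) {f : G → ℂ} (hf : IsCharacter G f)
    {χ : IrrCharacter G} (hχ : χ ∉ Y) :
    (∑ θ ∈ Y, mult f θ) + mult f χ * fixd (χ : G → ℂ) ε ≤ fixd f ε := by
  classical
  rw [fixd_eq_sum hf ε, add_comm]
  calc mult f χ * fixd (χ : G → ℂ) ε + ∑ θ ∈ Y, mult f θ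
      ≤ mult f χ * fixd (χ : G → ℂ) ε + ∑ θ ∈ Y, mult f θ * fixd (θ : G → ℂ) ε :=
        Nat.add_le_add_left (Finset.sum_le_sum fun θ hθ => Nat.le_mul_of_pos_right _ (hY θ hθ)) _
    _ = ∑ η ∈ insert χ Y, mult f η * fixd (η : G → ℂ) ε := (Finset.sum_insert (f := fun η => mult f η * fixd (η : G → ℂ) ε) hχ).symm
    _ ≤ _ := Finset.sum_le_sum_of_subset (Finset.subset_univ _)

/-- The bound for the exceptional characters alone. -/
theorem budget' {Y : Finset (IrrCharacter G)} {ε : N →* ℂˣ}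
    (hY : ∀ θ ∈ Y, 1 ≤ fixd (θ : G → ℂ) ε) {f : G → ℂ} (hf : IsCharacter G f) :
    (∑ θ ∈ Y, mult f θ) ≤ fixd f ε := by
  rw [fixd_eq_sum hf ε]
  exact (Finset.sum_le_sum (g := fun θ => mult f θ * fixd (θ : G → ℂ) ε)
    fun θ hθ => Nat.le_mul_of_pos_right _ (hY θ hθ)).trans
    (Finset.sum_le_sum_of_subset (Finset.subset_univ _))

end Cfsg.Agent.Feit
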