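import Cfsg.Agent.Lib.Feit.EdgeBlock
import Mathlib.RingTheory.ZMod.UnitsCyclic

/-!
The boundary degree `(p + 1) / 2` in characteristic `p`: the transfer of a block map from the normaliser cuts a
stable subspace of dimension at most five out of the endomorphisms.
-/

set_option autoImplicit false
set_option linter.unusedSectionVars false
set_option linter.style.haveILetI false

namespace Cfsg.Agent.Feit.Edge

open Finset Module
open SmallDim SmallDim.Frame
open scoped Classical MatrixGroups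

variable {k : Type*} [Field k]
variable {G : Type*} [Group G] [Finite G]

/-- Free orbit sums lie in the image of the sum over the group. -/
theorem orbit_sum {M : Type*} [AddCommGroup M] [Module k M] (σ : Representation k G M) {S : Subgroup G}
    [Fintype S] {α : Type*} [MulAction G α] [Fintype α] (f : α → M) (T : Finset α)
    (hT : ∀ s : S, ∀ q ∈ T, (s : G) • q ∈ T) (hf : ∀ s : S, ∀ q, f ((s : G) • q) = σ (s : G) (f q))
    (hfree : ∀ q ∈ T, ∀ s : S, (s : G) • q = q → s = 1) :
    ∑ q ∈ T, f q ∈ LinearMap.range (∑ s : S, σ (s : G)) := by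
  induction T using Finset.strongInduction with
  | _ T ih =>
    rcases T.eq_empty_or_nonempty with rfl | ⟨r, hr⟩
    · simp
    set O := (Finset.univ : Finset S).image fun s : S => (s : G) • r with hO
    have hOT : O ⊆ T := by
      intro q hq
      obtain ⟨s, -, rfl⟩ := Finset.mem_image.1 hq
      exact hT s r hr
    have hrO : r ∈ O := Finset.mem_image.2 ⟨1, Finset.mem_univ _, by simp⟩
    have hinj : ∀ s ∈ (Finset.univ : Finset S), ∀ t ∈ (Finset.univ : Finset S),
        (s : G) • r = (t : G) • r → s = t := by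
      intro s _ t _ h
      refine (inv_mul_eq_one.1 (hfree r hr (t⁻¹ * s) ?_)).symm
      rw [Subgroup.coe_mul, mul_smul, h, ← mul_smul, ← Subgroup.coe_mul, inv_mul_cancel, OneMemClass.coe_one,
        one_smul]
    rw [← Finset.sum_sdiff hOT]
    refine add_mem (ih (T \ O) (Finset.sdiff_ssubset hOT ⟨r, hrO⟩) (fun s q hq => ?_)
      fun q hq => hfree q (Finset.mem_sdiff.1 hq).1) ⟨f r, ?_⟩
    · obtain ⟨h1, h2⟩ := Finset.mem_sdiff.1 hq
      refine Finset.mem_sdiff.2 ⟨hT s q h1, fun h => h2 ?_⟩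
      obtain ⟨t, -, ht⟩ := Finset.mem_image.1 h
      refine Finset.mem_image.2 ⟨s⁻¹ * t, Finset.mem_univ _, ?_⟩
      rw [Subgroup.coe_mul, mul_smul, ht, ← mul_smul, ← Subgroup.coe_mul, inv_mul_cancel, OneMemClass.coe_one,
        one_smul]
    · rw [hO, Finset.sum_image hinj, LinearMap.sum_apply]
      exact Finset.sum_congr rfl fun s _ => (hf s r).symm

variable {U : Type*} [AddCommGroup U] [Module k U] [FiniteDimensional k U]
variable (ρ : Representation k G U)
variable {p : ℕ} [hpF : Fact p.Prime] [CharP k p] {S : Subgroup G} [Fintype S] {y : G}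

local notation "𝕄" => Module.End k U

/-- Degree `(p + 1) / 2` with the squares in the normaliser gives a map to `PGL₂`. -/
theorem exists_hom_edge (hS : Nat.card S = p) (hsq : ¬ p ^ 2 ∣ Nat.card G) (hy : y ∈ S)
    (hA : ρ y ≠ 1) (hd : 2 * Module.finrank k U = p + 1) (hp11 : 11 ≤ p)
    (hreg : (ρ y - 1) ^ (Module.finrank k U - 1) ≠ 0)
    (hsquare : ∀ t : (ZMod p)ˣ, ∃ n : G, n * y * n⁻¹ = y ^ (((t : ZMod p) ^ 2).val)) :
    ∃ φ : G →* PGL(2, k), φ y = Matrix.ProjGenLinGroup.mk
      (Matrix.GeneralLinearGroup.mkOfDetNeZero !![1, 1; 0, 1] (by simp [Matrix.det_fin_two])) := by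
  have hy1 : y ≠ 1 := fun h => hA (by rw [h, map_one])
  obtain ⟨n, hn⟩ : ∃ n, Module.finrank k U = n + 2 := ⟨Module.finrank k U - 2, by omega⟩
  have he5 : 5 ≤ n + 1 := by omega
  set A := ρ y - 1 with hAdef
  have hAd : A ^ (n + 2) = 0 := hn ▸ A_pow_eq_zero ρ hS hy
  have hAe : A ^ (n + 1) ≠ 0 := by rwa [hn, show n + 2 - 1 = n + 1 by omega] at hreg
  obtain ⟨X, hX, hXe⟩ := exists_log (k := k) (p := p) hAd (by omega)
  have hu : texp k p X = ρ y := by rw [hXe, hAdef, add_sub_cancel]
  have hu' : texp k p (-X) = ρ y⁻¹ := by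
    have h := congrArg (ρ y⁻¹ * ·) (texp_mul_neg (p := p) hAd (by omega) hX)
    simp only [hu, ← mul_assoc, rho_inv_mul, one_mul, mul_one] at h
    exact h
  have hXn : X ^ (n + 2) = 0 := by
    have := hX.pow_mul_pow hAd hX (n + 2) 0 (by omega)
    rwa [pow_zero, mul_one] at this
  -- `texp x - 1` against `x`
  have tpow : ∀ {R : Type _} [Ring R] [Algebra k R] (x : R) (i : ℕ),
      ∃ r, Commute x r ∧ (texp k p x - 1) ^ i = x ^ i + r * x ^ (i + 1) := by
    intro R _ _ x i
    obtain ⟨s, hs, es⟩ := texp_eq (k := k) (p := p) hpF.out.two_le x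
    have hxs : Commute x s := Algebra.commute_of_mem_adjoin_self hs
    induction i with
    | zero => exact ⟨0, Commute.zero_right x, by simp⟩
    | succ i ih =>
      obtain ⟨r, hr, e⟩ := ih
      refine ⟨r + s + r * x * s, (hr.add_right hxs).add_right ((hr.mul_right (Commute.refl x)).mul_right hxs), ?_⟩
      have hc : ∀ j, x ^ j * s = s * x ^ j := fun j => (hxs.pow_left j).eq
      rw [pow_succ (texp k p x - 1), e, es, show (1 + x + x ^ 2 * s - 1) = x + x ^ 2 * s by abel]
      calc (x ^ i + r * x ^ (i + 1)) * (x + x ^ 2 * s)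
          = x ^ (i + 1) + x ^ (i + 2) * s + r * x ^ (i + 2) + r * (x ^ (i + 3) * s) := by
            simp only [pow_succ, pow_zero, one_mul]; noncomm_ring
        _ = x ^ (i + 1) + (r + s + r * x * s) * x ^ (i + 2) := by
            rw [pow_succ' x (i + 2), mul_assoc x, hc]; noncomm_ring
  have hXe' : A ^ (n + 1) = X ^ (n + 1) := by
    obtain ⟨r, -, e⟩ := tpow X (n + 1)
    rw [hu, ← hAdef] at e
    rw [e, hXn, mul_zero, add_zero]
  have hXn' : X ^ (n + 1) ≠ 0 := hXe' ▸ hAe
  have hX0 : X ≠ 0 := fun h => hXn' (by rw [h, zero_pow (Nat.succ_ne_zero n)])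
  -- a cyclic vector
  obtain ⟨v₀, hv₀⟩ : ∃ v, (X ^ (n + 1)) v ≠ 0 := by
    by_contra h
    push Not at h
    exact hXn' (LinearMap.ext fun v => by simpa using h v)
  have hli : LinearIndependent k fun i : Fin (n + 2) => (X ^ (i : ℕ)) v₀ := by
    rw [Fintype.linearIndependent_iff]
    intro c hc
    by_contra hne
    push Not at hne
    obtain ⟨i, hi, hmin⟩ := WellFounded.has_min (wellFounded_lt (α := Fin (n + 2))) {i | c i ≠ 0} hne
    refine hi ?_
    have h1 := congrArg (X ^ (n + 1 - (i : ℕ))) hc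
    rw [map_sum, map_zero, Finset.sum_eq_single i] at h1
    · rw [map_smul, ← Module.End.mul_apply, ← pow_add,
        show n + 1 - (i : ℕ) + i = n + 1 by have := i.2; omega, smul_eq_zero] at h1
      exact h1.resolve_right hv₀
    · intro j _ hj
      rcases lt_or_gt_of_ne hj with h | h
      · rw [show c j = 0 from not_not.1 fun hne => hmin j hne h, zero_smul, map_zero]
      · rw [map_smul, ← Module.End.mul_apply, ← pow_add,
          pow_eq_zero_of_le (show n + 2 ≤ n + 1 - (i : ℕ) + j by have := i.2; omega) hXn,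
          LinearMap.zero_apply, smul_zero]
    · exact fun h => absurd (Finset.mem_univ _) h
  have hspan := hli.span_eq_top_of_card_eq_finrank' (by simp [hn])
  have hXli : ∀ c : Fin (n + 2) → k, ∑ i, c i • X ^ (i : ℕ) = (0 : 𝕄) → ∀ i, c i = 0 := fun c hc =>
    Fintype.linearIndependent_iff.1 hli c (by
      have := LinearMap.congr_fun hc v₀
      simpa [LinearMap.sum_apply] using this)
  -- the adjoint operator
  set Em : Module.End k 𝕄 := LinearMap.mulLeft k X - LinearMap.mulRight k X with hEm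
  have hE : ∀ f, Em f = X * f - f * X := fun f => rfl
  have hfixX : ∀ f, Em f = 0 → ∃ c : Fin (n + 2) → k, f = ∑ i, c i • X ^ (i : ℕ) := by
    intro f hf
    have hcm : Commute X f := sub_eq_zero.1 hf
    have hm : f v₀ ∈ Submodule.span k (Set.range fun i : Fin (n + 2) => (X ^ (i : ℕ)) v₀) := by
      rw [hspan]; exact Submodule.mem_top
    obtain ⟨c, hc⟩ := (Submodule.mem_span_range_iff_exists_fun k).1 hm
    refine ⟨c, sub_eq_zero.1 (LinearMap.ext_on hspan ?_)⟩
    rintro _ ⟨j, rfl⟩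
    rw [LinearMap.zero_apply, LinearMap.sub_apply, ← Module.End.mul_apply f, ← (hcm.pow_left j).eq,
      Module.End.mul_apply, ← hc, LinearMap.sum_apply, map_sum, sub_eq_zero]
    refine Finset.sum_congr rfl fun i _ => ?_
    rw [map_smul, LinearMap.smul_apply, ← Module.End.mul_apply, ← Module.End.mul_apply, ← pow_add, ← pow_add,
      add_comm]
  have hEX : ∀ j, Em (X ^ j) = 0 := fun j => by rw [hE, ← pow_succ', ← pow_succ, sub_self]
  have hEp : Em ^ p = 0 := by
    rw [hEm, sub_eq_add_neg, ((LinearMap.commute_mulLeft_right (R := k) X X).neg_right).add_pow]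
    refine Finset.sum_eq_zero fun i hi => ?_
    have hi' := Finset.mem_range.1 hi
    rw [neg_pow, LinearMap.pow_mulLeft, LinearMap.pow_mulRight]
    rcases Nat.lt_or_ge i (n + 2) with h | h
    · rw [pow_eq_zero_of_le (show n + 2 ≤ p - i by omega) hXn, LinearMap.mulRight_zero_eq_zero]
      simp
    · rw [pow_eq_zero_of_le h hXn, LinearMap.mulLeft_zero_eq_zero]
      simp
  have hady : adRep ρ y = texp k p Em := by
    have eL : texp k p (LinearMap.mulLeft k X) = LinearMap.mulLeft k (texp k p X) :=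
      (texp_map (Algebra.lmul k 𝕄) p X).symm
    have eR : texp k p (-LinearMap.mulRight k X) = LinearMap.mulRight k (texp k p (-X)) := by
      have e : -LinearMap.mulRight k X = LinearMap.mulRight k (-X) :=
        LinearMap.ext fun f => by simp
      rw [e]
      refine LinearMap.ext fun f => ?_
      simp only [texp, LinearMap.sum_apply, LinearMap.smul_apply, LinearMap.pow_mulRight,
        LinearMap.mulRight_apply, Finset.mul_sum, mul_smul_comm]
    rw [hEm, sub_eq_add_neg, ← texp_add (p := p) ((LinearMap.commute_mulLeft_right (R := k) X X).neg_right)]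
    · rw [eL, eR, hu, hu']
      refine LinearMap.ext fun f => ?_
      rw [adRep_apply, Module.End.mul_apply, LinearMap.mulLeft_apply, LinearMap.mulRight_apply, mul_assoc]
    · intro i j hij
      rw [neg_pow, LinearMap.pow_mulLeft, LinearMap.pow_mulRight]
      rcases Nat.lt_or_ge i (n + 2) with h | h
      · rw [pow_eq_zero_of_le (show n + 2 ≤ j by omega) hXn, LinearMap.mulRight_zero_eq_zero]
        simp
      · rw [pow_eq_zero_of_le h hXn, LinearMap.mulLeft_zero_eq_zero]
        simp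
  set D : Module.End k 𝕄 := adRep ρ y - 1 with hD
  have hDpow : ∀ i, ∃ r, Commute Em r ∧ D ^ i = Em ^ i + r * Em ^ (i + 1) := by
    intro i
    rw [hD, hady]
    exact tpow Em i
  -- fixed vectors
  have hfixS : ∀ v : 𝕄, D v = 0 → ∀ s : S, adRep ρ (s : G) v = v := by
    intro v hv s
    have hv' : adRep ρ y v = v := sub_eq_zero.1 hv
    obtain ⟨b, hb⟩ := exists_pow_eq hS hy hy1 s.2
    rw [hb, map_pow]
    clear hb
    induction b with
    | zero => rfl
    | succ b ih => rw [pow_succ, Module.End.mul_apply, hv', ih]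
  have hDE : ∀ v : 𝕄, D v = 0 ↔ Em v = 0 := by
    intro v
    obtain ⟨r, hr, e⟩ := hDpow 1
    rw [pow_one, pow_one] at e
    refine ⟨fun hv => ?_, fun hv => ?_⟩
    · have h1 : Em v = (-(r * Em)) (Em v) := by
        rw [e, LinearMap.add_apply, add_eq_zero_iff_eq_neg, show r * Em ^ (1 + 1) = r * Em * Em by
          rw [pow_two, mul_assoc], Module.End.mul_apply (r * Em) Em] at hv
        rwa [LinearMap.neg_apply]
      have h2 : ∀ j, Em v = ((-(r * Em)) ^ j) (Em v) := by
        intro j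
        induction j with
        | zero => rfl
        | succ j ih => rw [pow_succ, Module.End.mul_apply, ← h1]; exact ih
      have h3 : ((-r) * Em) ^ p = 0 := by rw [hr.symm.neg_left.mul_pow, hEp, mul_zero]
      have h4 : -(r * Em) = (-r) * Em := LinearMap.ext fun u => rfl
      refine (h2 p).trans ?_
      rw [h4, h3, LinearMap.zero_apply]
    · rw [e, show r * Em ^ (1 + 1) = r * Em * Em by rw [pow_two, mul_assoc], LinearMap.add_apply,
        Module.End.mul_apply, hv, map_zero, add_zero]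
  -- the normaliser
  set N := Subgroup.normalizer (S : Set G) with hN
  haveI : (S.subgroupOf N).Normal := Subgroup.normal_subgroupOf_of_le_normalizer le_rfl
  have hSN : S ≤ N := Subgroup.le_normalizer
  have hcS : Nat.card (S.subgroupOf N) = p := by
    rw [Nat.card_congr (Subgroup.subgroupOfEquivOfLe hSN).toEquiv, hS]
  have hindex : ¬ p ∣ (S.subgroupOf N).index := fun h => hsq (by
    have e := Subgroup.card_mul_index (S.subgroupOf N)
    rw [hcS] at e
    exact (pow_two p ▸ mul_dvd_mul_left p h).trans (e ▸ Subgroup.card_subgroup_dvd_card N))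
  obtain ⟨L, hL⟩ := Subgroup.exists_right_complement'_of_coprime
    (N := S.subgroupOf N) (by rw [hcS]; exact hpF.out.coprime_iff_not_dvd.2 hindex)
  haveI : Fintype L := Fintype.ofFinite _
  have hLc : (Nat.card L : k) ≠ 0 := by
    rw [Ne, CharP.cast_eq_zero_iff k p, ← (Subgroup.IsComplement'.symm hL).index_eq_card]
    exact hindex
  have hcong : ∀ n ∈ N, ∃ a : ℕ, n * y * n⁻¹ = y ^ a := fun n hn =>
    exists_pow_eq hS hy hy1 ((Subgroup.mem_normalizer_iff.1 hn y).1 hy)
  choose! a ha using hcong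
  have hscale : ∀ g : G, ∀ b : ℕ, g * y * g⁻¹ = y ^ b → adAlg ρ g X = (b : k) • X := by
    intro g b hb
    have hσA : adAlg ρ g A = (1 + A) ^ b - 1 := by
      rw [hAdef, map_sub, map_one, adAlg_apply, adRep_apply, ← map_mul, ← map_mul, hb,
        add_sub_cancel, map_pow]
    have hσAm : InN (k := k) A (adAlg ρ g A) := by
      rw [hσA]
      refine ⟨∑ i ∈ range b, (1 + A) ^ i, Subalgebra.sum_mem _ fun i _ =>
        Subalgebra.pow_mem _ (add_mem (one_mem _) (Algebra.self_mem_adjoin_singleton k A)) i, ?_⟩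
      rw [← mul_geom_sum, add_sub_cancel_left]
    have hσX : InN (k := k) A (adAlg ρ g X) := by
      obtain ⟨r, hr, e⟩ := hX
      rw [e, map_mul]
      refine hσAm.mul ?_
      have hle : Algebra.adjoin k {A} ≤ (Algebra.adjoin k {A}).comap (adAlg ρ g) :=
        Algebra.adjoin_le (Set.singleton_subset_iff.2 hσAm.mem)
      exact hle hr
    refine texp_injective (p := p) hAd (by omega) hσX (hX.smul _) ?_
    rw [← texp_map, ← texp_pow hAd (by omega) hX, hu, adAlg_apply, adRep_apply, ← map_mul, ← map_mul,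
      hb, map_pow]
  have ha0 : ∀ n ∈ N, ((a n : ℕ) : k) ≠ 0 := by
    intro n hn h
    rw [CharP.cast_eq_zero_iff k p] at h
    obtain ⟨t, ht⟩ := h
    have := ha n hn
    rw [ht, pow_mul, pow_p_eq_one hS hy, one_pow] at this
    exact hy1 (conj_eq_one_iff.1 this)
  let g : L → G := fun l => ((l : N) : G)
  let c : L → k := fun l => ((a (g l) : ℕ) : k)
  have hc0 : ∀ l, c l ≠ 0 := fun l => ha0 _ (l : N).2
  have hcX : ∀ l, adAlg ρ (g l) X = c l • X := fun l => hscale _ _ (ha _ (l : N).2)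
  obtain ⟨Q, F, htr, hQ⟩ := exists_frame (p := p) (hdp := by omega) (L := L) hLc
    (fun l => adAlg ρ (g l)) (fun l m x => by
      show adAlg ρ (g (l * m)) x = adAlg ρ (g l) (adAlg ρ (g m) x)
      simp only [adAlg_apply]
      rw [show g (l * m) = g l * g m from rfl, map_mul]
      rfl)
    c hc0 X hcX hXn hXn'
  have hEscale : ∀ l f, adRep ρ (g l) (Em f) = c l • Em (adRep ρ (g l) f) := by
    intro l f
    rw [← adAlg_apply, ← adAlg_apply, hE, hE, map_sub, map_mul, map_mul, hcX, smul_mul_assoc, mul_smul_comm,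
      smul_sub]
  have hXl : ∀ l j, adRep ρ (g l) (X ^ j) = c l ^ j • X ^ j := fun l j => by
    rw [← adAlg_apply, map_pow, hcX, smul_pow]
  have hsplit : ∀ n ∈ N, ∃ s ∈ S, ∃ l : L, n = s * g l := by
    intro n hn
    obtain ⟨⟨⟨⟨s, hsN⟩, hs⟩, l⟩, hsl⟩ := hL.2 ⟨n, hn⟩
    exact ⟨s, hs, l, (congrArg Subtype.val hsl).symm⟩
  -- a generator of the squares
  obtain ⟨g₀, hg₀⟩ := IsCyclic.exists_generator (α := (ZMod p)ˣ)
  set θ : k := ZMod.castHom (dvd_refl p) k ((g₀ : ZMod p) ^ 2) with hθdef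
  obtain ⟨l₀, hl₀⟩ : ∃ l : L, c l = θ := by
    obtain ⟨m, hm⟩ := hsquare g₀
    have hmN : m ∈ N := Subgroup.mem_normalizer_fintype fun z hz => by
      obtain ⟨j, rfl⟩ := exists_pow_eq hS hy hy1 hz
      rw [← conj_pow, hm]
      exact pow_mem (pow_mem hy _) _
    obtain ⟨s, hs, l, rfl⟩ := hsplit m hmN
    refine ⟨l, ?_⟩
    set b := (((g₀ : ZMod p) ^ 2).val) with hb
    have hc : s⁻¹ * y ^ b * s = y ^ b := by
      obtain ⟨i, rfl⟩ := exists_pow_eq hS hy hy1 hs
      rw [mul_assoc, ((Commute.refl y).pow_pow b i).eq, ← mul_assoc, inv_mul_cancel, one_mul]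
    have hal : g l * y * (g l)⁻¹ = y ^ b := by
      rw [← hc, ← hm]; group
    have h1 : c l = (b : k) := smul_left_injective k hX0 ((hcX l).symm.trans (hscale _ _ hal))
    rw [h1, hθdef]
    conv_rhs => rw [← ZMod.natCast_zmod_val ((g₀ : ZMod p) ^ 2), map_natCast]
  have hθ : ∀ i j : ℕ, θ ^ i = θ ^ j → i ≡ j [MOD n + 1] := by
    intro i j h
    rw [hθdef, ← map_pow, ← map_pow] at h
    have h2 := (ZMod.castHom (dvd_refl p) k).injective h
    rw [← pow_mul, ← pow_mul, ← Units.val_pow_eq_pow_val, ← Units.val_pow_eq_pow_val, Units.val_inj,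
      pow_eq_pow_iff_modEq, orderOf_eq_card_of_forall_mem_zpowers hg₀, Nat.card_eq_fintype_card, ZMod.card_units,
      show p - 1 = 2 * (n + 1) by omega] at h2
    exact Nat.ModEq.mul_left_cancel' two_ne_zero h2
  have hθne : ∀ i j : ℕ, i ≤ n + 1 → j ≤ n + 1 → i ≠ j → ¬(i = 0 ∧ j = n + 1) → ¬(j = 0 ∧ i = n + 1) →
      θ ^ i ≠ θ ^ j := by
    intro i j hi hj hne h1 h2 h
    have h3 := hθ i j h
    rcases eq_or_lt_of_le hi with rfl | hi'
    · rw [Nat.ModEq, Nat.mod_self] at h3
      rcases eq_or_lt_of_le hj with rfl | hj'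
      · exact hne rfl
      · rw [Nat.mod_eq_of_lt hj'] at h3; exact h2 ⟨h3.symm, rfl⟩
    · rw [Nat.ModEq, Nat.mod_eq_of_lt hi'] at h3
      rcases eq_or_lt_of_le hj with rfl | hj'
      · rw [Nat.mod_self] at h3; exact h1 ⟨h3, rfl⟩
      · rw [Nat.mod_eq_of_lt hj'] at h3; exact hne h3
  have h2k : (2 : k) ≠ 0 := by
    rw [show (2 : k) = ((2 : ℕ) : k) by norm_num, Ne, CharP.cast_eq_zero_iff k p]
    exact fun h => by have := Nat.le_of_dvd two_pos h; omega
  have hp2 : (24 : k) ≠ 0 := by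
    rw [show (24 : k) = ((24 : ℕ) : k) by norm_num, Ne, CharP.cast_eq_zero_iff k p,
      show 24 = 2 ^ 3 * 3 by norm_num, hpF.out.dvd_mul]
    rintro (h | h)
    · have := Nat.le_of_dvd (by norm_num) (hpF.out.dvd_of_dvd_pow h); omega
    · have := Nat.le_of_dvd (by norm_num) h; omega
  -- the block vectors
  have hder : ∀ f h : 𝕄, Em (f * h) = Em f * h + f * Em h := fun f h => by
    rw [hE, hE, hE]; noncomm_ring
  have c2 : Em (bX X Q n) = 0 := F.bX_comm
  have c1 : Em (bH X Q n) = (-2 : k) • bX X Q n := F.bH_comm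
  have c0 : Em (bY X Q n) = bH X Q n := F.bY_comm
  have hblock : ∀ m, (m = 1 ∨ m = 2) → ∃ (w : 𝕄), Em ((Em ^ (2 * m)) w) = 0 ∧
      (∀ l, adRep ρ (g l) w = (c l ^ m)⁻¹ • w) ∧ trForm w ((Em ^ (2 * m)) w) ≠ 0 := by
    rintro m (rfl | rfl)
    · refine ⟨bY X Q n, ?_, fun l => ?_, ?_⟩
      · simp [pow_succ', Module.End.mul_apply, c0, c1, c2]
      · rw [← adAlg_apply, F.map_bY _ (hc0 l) (hcX l) (hQ l), pow_one]
      · have : (Em ^ (2 * 1)) (bY X Q n) = (-2 : k) • bX X Q n := by
          simp [pow_succ', Module.End.mul_apply, c0, c1]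
        rw [this, map_smul, smul_eq_mul, trForm_apply]
        exact mul_ne_zero (neg_ne_zero.2 h2k) (F.trace_bY_bX (p := p) (by omega) htr)
    · have h4 : (Em ^ (2 * 2)) (bY X Q n * bY X Q n) = (24 : k) • (bX X Q n * bX X Q n) := by
        simp only [show 2 * 2 = 1 + 1 + 1 + 1 from rfl, pow_succ', pow_zero, mul_one, Module.End.mul_apply,
          hder, c0, c1, c2, map_add, map_smul, smul_mul_assoc, mul_smul_comm, zero_mul, mul_zero,
          add_zero, zero_add, smul_smul]
        module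
      refine ⟨bY X Q n * bY X Q n, ?_, fun l => ?_, ?_⟩
      · rw [h4, map_smul, hder, c2, zero_mul, mul_zero, add_zero, smul_zero]
      · rw [← adAlg_apply, map_mul, F.map_bY _ (hc0 l) (hcX l) (hQ l), smul_mul_smul_comm]
        congr 1
        rw [pow_two, mul_inv]
      · rw [h4, map_smul, smul_eq_mul, trForm_apply]
        exact mul_ne_zero hp2 (trace_sq F (p := p) (by omega) (by omega) htr)
  haveI : Fintype (G ⧸ N) := Fintype.ofFinite _
  -- the transferred maps
  have hT : ∀ m, (m = 1 ∨ m = 2) → ∃ (T : Module.End k 𝕄) (s₀ s₁ : k), (∀ h, Commute T (adRep ρ h)) ∧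
      T 1 = s₀ • X ^ (n + 1) ∧ T (X ^ (n + 1)) = s₁ • X ^ (n + 1) ∧ T (X ^ m) = X ^ m ∧
      (∀ j, 0 < j → j < n + 1 → j ≠ m → T (X ^ j) = 0) ∧
      (∃ w', (D ^ (2 * m)) w' = X ^ m) ∧ ∀ z, (D ^ (2 * m + 1)) z ≠ X ^ m := by
    intro m hm
    obtain ⟨w, hwz, hwl, hw0⟩ := hblock m hm
    set z := (Em ^ (2 * m)) w with hz
    have hw1 : (Em ^ (2 * m + 1)) w = 0 := by rw [pow_succ', Module.End.mul_apply, ← hz, hwz]
    have hσB : ∀ l (x z : 𝕄), trForm (adRep ρ (g l) x) (adRep ρ (g l) z) = trForm x z := fun l => trForm_inv ρ _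
    -- the top of the block is a multiple of a power
    obtain ⟨cz, hcz⟩ := hfixX z hwz
    have hzl : adRep ρ (g l₀) z = θ ^ m • z := by
      have hpow : ∀ i x, adRep ρ (g l₀) ((Em ^ i) x) = θ ^ i • (Em ^ i) (adRep ρ (g l₀) x) := by
        intro i
        induction i with
        | zero => simp
        | succ i ih =>
          intro x
          rw [pow_succ' Em, Module.End.mul_apply, Module.End.mul_apply, hEscale, hl₀, ih, map_smul, smul_smul,
            pow_succ']
      have h0 : θ ≠ 0 := hl₀ ▸ hc0 l₀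
      rw [hz, hpow, hwl, hl₀, map_smul, smul_smul]
      congr 1
      rw [two_mul, pow_add, mul_assoc, mul_inv_cancel₀ (pow_ne_zero _ h0), mul_one]
    have hzm : z = cz ⟨m, by omega⟩ • X ^ m := by
      have h1 : ∑ i : Fin (n + 2), (cz i * (θ ^ (i : ℕ) - θ ^ m)) • X ^ (i : ℕ) = (0 : 𝕄) := by
        have h2 := hzl
        rw [hcz, map_sum, Finset.smul_sum, ← sub_eq_zero, ← Finset.sum_sub_distrib] at h2
        rw [← h2]
        refine Finset.sum_congr rfl fun i _ => ?_
        rw [map_smul, hXl, hl₀, smul_smul, smul_smul, ← sub_smul]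
        congr 1
        ring
      rw [hcz]
      refine Finset.sum_eq_single (⟨m, by omega⟩ : Fin (n + 2)) (fun i _ hi => ?_) (fun h => absurd (Finset.mem_univ _) h)
      have := (mul_eq_zero.1 (hXli _ h1 i)).resolve_right (sub_ne_zero.2 (hθne _ _ (Nat.le_of_lt_succ i.2)
        (by omega) (fun h => hi (Fin.ext h)) (by omega) (by omega)))
      rw [this, zero_smul]
    set cm := cz ⟨m, by omega⟩ with hcm
    have hcm0 : cm ≠ 0 := fun h => hw0 (by rw [hzm, h, zero_smul, map_zero])
    set τ := trForm w (X ^ m) with hτ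
    have hτ0 : τ ≠ 0 := fun h => hw0 (by rw [hzm, map_smul, ← hτ, h, smul_zero])
    set π := (τ * cm)⁻¹ • blockMap trForm Em w m with hπ
    have hskew : ∀ x z : 𝕄, trForm (Em x) z = - trForm x (Em z) := by
      intro x z
      rw [hE, hE, trForm_apply, trForm_apply, sub_mul, mul_sub, map_sub, map_sub]
      have e1 : LinearMap.trace k U (X * x * z) = LinearMap.trace k U (x * (z * X)) := by
        rw [mul_assoc, LinearMap.trace_mul_comm, mul_assoc]
      rw [e1, mul_assoc x X z]
      ring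
    have hπE : Commute π Em := (blockMap_comm hskew hw1).smul_left _
    have hπy : Commute π (adRep ρ y) := by
      rw [hady, texp]
      exact Commute.sum_right _ _ _ fun i _ => (hπE.pow_right i).smul_right _
    have hπN : ∀ h ∈ N, Commute π (adRep ρ h) := by
      intro h hh
      obtain ⟨s, hs, l, rfl⟩ := hsplit h hh
      obtain ⟨i, rfl⟩ := exists_pow_eq hS hy hy1 hs
      rw [map_mul, map_pow]
      exact (hπy.pow_right i).mul_right
        ((blockMap_scale (adRep ρ (g l)) (hc0 l) (hσB l) (hEscale l) (hwl l)).smul_left _)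
    have hπm : π (X ^ m) = X ^ m := by
      rw [hπ, LinearMap.smul_apply, blockMap_fix (hEX m), ← hz, hzm, ← hτ, smul_smul, smul_smul,
        mul_assoc, inv_mul_cancel₀ (mul_ne_zero hτ0 hcm0), one_smul]
    have hπj : ∀ j ≤ n + 1, j ≠ m → π (X ^ j) = 0 := by
      intro j hj hjm
      rw [hπ, LinearMap.smul_apply, blockMap_fix (hEX j),
        orth_of_weight (adRep ρ (g l₀)) (hc0 l₀) (hσB l₀) (hwl l₀) (hXl l₀ j)
          (hl₀ ▸ hθne j m hj (by omega) hjm (by omega) (by omega)), zero_smul, smul_zero]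
    have htop : Em ^ (2 * m + 1) * π = 0 := LinearMap.ext fun f => by
      rw [Module.End.mul_apply, hπ, LinearMap.smul_apply, map_smul, blockMap_top hw1, smul_zero,
        LinearMap.zero_apply]
    have hπD : Commute π D := hπy.sub_right (Commute.one_right π)
    -- the transfer
    let Fq : G ⧸ N → Module.End k 𝕄 := Quotient.lift (fun h => adRep ρ h * π * adRep ρ h⁻¹) fun h h' hgg => by
      have h1 : h⁻¹ * h' ∈ N := QuotientGroup.leftRel_apply.1 hgg
      show adRep ρ h * π * adRep ρ h⁻¹ = adRep ρ h' * π * adRep ρ h'⁻¹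
      obtain ⟨m, rfl⟩ : ∃ m, h' = h * m := ⟨h⁻¹ * h', (mul_inv_cancel_left h h').symm⟩
      rw [inv_mul_cancel_left] at h1
      rw [mul_inv_rev, map_mul, map_mul, mul_assoc (adRep ρ h) (adRep ρ m) π, ← (hπN _ h1).eq]
      simp only [mul_assoc]
      rw [← mul_assoc (adRep ρ m) (adRep ρ m⁻¹), rho_mul_inv, one_mul]
    have hF : ∀ h : G, Fq (h : G ⧸ N) = adRep ρ h * π * adRep ρ h⁻¹ := fun h => rfl
    have hFact : ∀ (h : G) (q : G ⧸ N), Fq (h • q) = adRep ρ h * Fq q * adRep ρ h⁻¹ := by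
      intro h q
      obtain ⟨c, rfl⟩ := QuotientGroup.mk_surjective q
      show Fq ((h * c : G) : G ⧸ N) = _
      rw [hF, hF, map_mul, mul_inv_rev, map_mul]
      simp only [mul_assoc]
    set T := ∑ q, Fq q with hTdef
    have hTg : ∀ h, Commute T (adRep ρ h) := by
      intro h
      have e : adRep ρ h * T * adRep ρ h⁻¹ = T := by
        rw [hTdef, Finset.mul_sum, Finset.sum_mul]
        exact Fintype.sum_equiv (MulAction.toPerm h) _ _ fun q => (hFact h q).symm
      show T * adRep ρ h = adRep ρ h * T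
      conv_lhs => rw [← e, mul_assoc, rho_inv_mul, mul_one]
    have hbase : ∀ s : S, (s : G) • ((1 : G) : G ⧸ N) = ((1 : G) : G ⧸ N) := fun s => by
      show (((s : G) * 1 : G) : G ⧸ N) = _
      rw [mul_one]
      exact QuotientGroup.eq.2 (by simpa using hSN s.2)
    have hTfix : ∀ v, Em v = 0 → ∃ s : k, T v = π v + s • X ^ (n + 1) := by
      intro v hv
      have hvS := hfixS v ((hDE v).2 hv)
      have hfree : ∀ q ∈ (Finset.univ : Finset (G ⧸ N)).erase ((1 : G) : G ⧸ N), ∀ s : S,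
          (s : G) • q = q → s = 1 := by
        intro q hq s hs
        obtain ⟨c, rfl⟩ := QuotientGroup.mk_surjective q
        have hc : c ∉ N := fun h => (Finset.mem_erase.1 hq).1 (QuotientGroup.eq.2 (by simpa using h))
        replace hs : (((s : G) * c : G) : G ⧸ N) = (c : G ⧸ N) := hs
        rw [QuotientGroup.eq] at hs
        exact Subtype.ext (ti_of_prime S hS hsq c hc s s.2 (by simpa [mul_assoc] using N.inv_mem hs))
      obtain ⟨f, hf⟩ := orbit_sum (adRep ρ) (S := S) (fun q => Fq q v)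
        ((Finset.univ : Finset (G ⧸ N)).erase ((1 : G) : G ⧸ N)) (fun s q hq => by
          refine Finset.mem_erase.2 ⟨fun h => (Finset.mem_erase.1 hq).1 ?_, Finset.mem_univ _⟩
          have h' := congrArg (fun q => ((s⁻¹ : S) : G) • q) h
          simp only [smul_smul] at h'
          rwa [← Subgroup.coe_mul, inv_mul_cancel, OneMemClass.coe_one, one_smul, hbase] at h')
        (fun s q => by
          have h1 : adRep ρ (s : G)⁻¹ v = v := by rw [← Subgroup.coe_inv]; exact hvS s⁻¹
          show Fq ((s : G) • q) v = adRep ρ (s : G) (Fq q v)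
          rw [hFact, Module.End.mul_apply, Module.End.mul_apply, h1]) hfree
      obtain ⟨t, ht⟩ := kill_range ρ hS hy hy1 (by omega) f
      refine ⟨t, ?_⟩
      rw [hTdef, LinearMap.sum_apply, ← Finset.add_sum_erase _ _ (Finset.mem_univ ((1 : G) : G ⧸ N)), ← hf, ht,
        hn, show n + 2 - 1 = n + 1 by omega, ← hAdef, hXe', hF, inv_one, map_one, one_mul, mul_one]
    obtain ⟨s₀, hs₀⟩ := hTfix (X ^ 0) (hEX 0)
    obtain ⟨s₁, hs₁⟩ := hTfix (X ^ (n + 1)) (hEX _)
    have hzero : ∀ j, 0 < j → j < n + 1 → ∀ s : k, T (X ^ j) = π (X ^ j) + s • X ^ (n + 1) → s = 0 := by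
      intro j hj0 hj s hs
      have h1 := congrArg (adRep ρ (g l₀)) hs
      rw [← Module.End.mul_apply, ← (hTg (g l₀)).eq, Module.End.mul_apply, hXl, map_smul, hs, map_add, map_smul,
        hXl, hl₀] at h1
      have h2 : adRep ρ (g l₀) (π (X ^ j)) = θ ^ j • π (X ^ j) := by
        rw [← Module.End.mul_apply, ← (hπN _ (l₀ : N).2).eq, Module.End.mul_apply, hXl, hl₀, map_smul]
      rw [h2, smul_add, add_right_inj, smul_smul, smul_smul] at h1
      have h3 : θ ^ j * s = s * θ ^ (n + 1) := smul_left_injective k hXn' h1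
      by_contra hs0
      exact hθne j (n + 1) hj.le le_rfl hj.ne (by omega) (by omega)
        (mul_right_cancel₀ hs0 (h3.trans (mul_comm _ _)))
    refine ⟨T, s₀, s₁, hTg, ?_, ?_, ?_, fun j hj0 hj hjm => ?_, ?_, fun z' hz' => ?_⟩
    · rw [← pow_zero X, hs₀, hπj 0 (by omega) (by omega), zero_add]
    · rw [hs₁, hπj (n + 1) le_rfl (by omega), zero_add]
    · obtain ⟨s, hs⟩ := hTfix (X ^ m) (hEX m)
      rw [hs, hzero m (by omega) (by omega) s hs, zero_smul, add_zero, hπm]
    · obtain ⟨s, hs⟩ := hTfix (X ^ j) (hEX j)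
      rw [hs, hzero j hj0 hj s hs, zero_smul, add_zero, hπj j hj.le hjm]
    · obtain ⟨r, -, e⟩ := hDpow (2 * m)
      refine ⟨cm⁻¹ • w, ?_⟩
      rw [map_smul, e, LinearMap.add_apply, Module.End.mul_apply, hw1, map_zero, add_zero, ← hz, hzm, smul_smul,
        inv_mul_cancel₀ hcm0, one_smul]
    · obtain ⟨r, hr, e⟩ := hDpow (2 * m + 1)
      have h1 : π ((D ^ (2 * m + 1)) z') = (D ^ (2 * m + 1)) (π z') := by
        rw [← Module.End.mul_apply, (hπD.pow_right _).eq, Module.End.mul_apply]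
      have h2 : (Em ^ (2 * m + 1)) (π z') = 0 := by
        rw [← Module.End.mul_apply, htop, LinearMap.zero_apply]
      have h3 : (Em ^ (2 * m + 1 + 1)) (π z') = 0 := by rw [pow_succ', Module.End.mul_apply, h2, map_zero]
      rw [hz', hπm, e, LinearMap.add_apply, Module.End.mul_apply, h2, h3, map_zero, add_zero] at h1
      have : m ≤ n + 1 := by omega
      exact hXn' (by rw [← Nat.sub_add_cancel this, pow_add, h1, mul_zero])
  -- a combination killing every other power
  obtain ⟨T₁, p₀, p₁, hT₁g, hT₁1, hT₁L, hT₁X, hT₁j, hT₁w, hT₁z⟩ := hT 1 (Or.inl rfl)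
  obtain ⟨T₂, q₀, q₁, hT₂g, hT₂1, hT₂L, hT₂X, hT₂j, hT₂w, hT₂z⟩ := hT 2 (Or.inr rfl)
  obtain ⟨aT, m, hm12, hag, ham, haj⟩ : ∃ (a : Module.End k 𝕄) (m : ℕ), (m = 1 ∨ m = 2) ∧
      (∀ h, Commute a (adRep ρ h)) ∧ a (X ^ m) = X ^ m ∧ ∀ j ≤ n + 1, j ≠ m → a (X ^ j) = 0 := by
    have hmk : ∀ (T : Module.End k 𝕄) (m : ℕ) (s₀ s₁ : k), (m = 1 ∨ m = 2) → (∀ h, Commute T (adRep ρ h)) →
        T 1 = s₀ • X ^ (n + 1) → T (X ^ (n + 1)) = s₁ • X ^ (n + 1) → T (X ^ m) = X ^ m →
        (∀ j, 0 < j → j < n + 1 → j ≠ m → T (X ^ j) = 0) → s₁ ≠ 1 →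
        ∃ (a : Module.End k 𝕄) (m : ℕ), (m = 1 ∨ m = 2) ∧
          (∀ h, Commute a (adRep ρ h)) ∧ a (X ^ m) = X ^ m ∧ ∀ j ≤ n + 1, j ≠ m → a (X ^ j) = 0 := by
      intro T m s₀ s₁ hm hTg h1 hL hXm hj hs
      refine ⟨(1 - s₁)⁻¹ • (T * (T - s₁ • (1 : Module.End k 𝕄))), m, hm, fun h => ?_, ?_, fun j hj' hjm => ?_⟩
      · exact ((hTg h).mul_left ((hTg h).sub_left ((Commute.one_left _).smul_left _))).smul_left _
      · simp only [LinearMap.smul_apply, Module.End.mul_apply, LinearMap.sub_apply, Module.End.one_apply, hXm,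
          map_sub, map_smul]
        rw [smul_sub, smul_smul, ← sub_smul]
        convert one_smul k (X ^ m) using 2
        rw [← mul_one_sub, inv_mul_cancel₀ (sub_ne_zero.2 (Ne.symm hs))]
      · simp only [LinearMap.smul_apply, Module.End.mul_apply, LinearMap.sub_apply, Module.End.one_apply,
          map_sub, map_smul]
        rcases Nat.eq_zero_or_pos j with rfl | hj0
        · rw [pow_zero, h1, map_smul, hL, smul_smul, smul_smul, mul_comm s₀, sub_self, smul_zero]
        rcases eq_or_lt_of_le hj' with rfl | hlt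
        · rw [hL, map_smul, hL, sub_self, smul_zero]
        · rw [hj j hj0 hlt hjm, map_zero, smul_zero, sub_zero, smul_zero]
    by_cases hp1 : p₁ = 1
    · by_cases hq1 : q₁ = 1
      · refine ⟨(1 - T₂) * T₁, 1, Or.inl rfl, fun h => ((Commute.one_left _).sub_left (hT₂g h)).mul_left (hT₁g h),
          ?_, fun j hj' hjm => ?_⟩
        · rw [Module.End.mul_apply, hT₁X, LinearMap.sub_apply, Module.End.one_apply,
            hT₂j 1 one_pos (by omega) (by omega), sub_zero]
        · rw [Module.End.mul_apply, LinearMap.sub_apply, Module.End.one_apply]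
          rcases Nat.eq_zero_or_pos j with rfl | hj0
          · rw [pow_zero, hT₁1, map_smul, hT₂L, hq1, one_smul, sub_self]
          rcases eq_or_lt_of_le hj' with rfl | hlt
          · rw [hT₁L, map_smul, hT₂L, hq1, one_smul, sub_self]
          · rw [hT₁j j hj0 hlt hjm, map_zero, sub_zero]
      · exact hmk T₂ 2 q₀ q₁ (Or.inr rfl) hT₂g hT₂1 hT₂L hT₂X hT₂j hq1
    · exact hmk T₁ 1 p₀ p₁ (Or.inl rfl) hT₁g hT₁1 hT₁L hT₁X hT₁j hp1
  obtain ⟨⟨w', hw'⟩, hnz⟩ : (∃ w', (D ^ (2 * m)) w' = X ^ m) ∧ ∀ z, (D ^ (2 * m + 1)) z ≠ X ^ m := by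
    rcases hm12 with rfl | rfl
    exacts [⟨hT₁w, hT₁z⟩, ⟨hT₂w, hT₂z⟩]
  -- the summand
  obtain ⟨N₀, hN₀⟩ := Filter.eventually_atTop.1 aT.eventually_isCompl_ker_pow_range_pow
  set r := N₀ + 1 with hr
  have hcompl := hN₀ r (by omega)
  set W := LinearMap.range (aT ^ r) with hW
  have hWst : ∀ h, ∀ v ∈ W, adRep ρ h v ∈ W := by
    rintro h _ ⟨u, rfl⟩
    exact ⟨adRep ρ h u, by rw [← Module.End.mul_apply, ((hag h).pow_left r).eq, Module.End.mul_apply]⟩
  have har : (aT ^ r) (X ^ m) = X ^ m := by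
    induction r with
    | zero => rfl
    | succ i ih => rw [pow_succ, Module.End.mul_apply, ham, ih]
  have hXW : X ^ m ∈ W := ⟨_, har⟩
  have hfix : ∀ v ∈ W, D v = 0 → ∃ t : k, v = t • X ^ m := by
    intro v hvW hv
    obtain ⟨cv, hcv⟩ := hfixX v ((hDE v).1 hv)
    refine ⟨cv ⟨m, by omega⟩, ?_⟩
    have hav : (aT ^ r) v = cv ⟨m, by omega⟩ • X ^ m := by
      conv_lhs => rw [hcv]
      rw [map_sum, Finset.sum_eq_single (⟨m, by omega⟩ : Fin (n + 2)) (fun i _ hi => ?_)
        (fun h => absurd (Finset.mem_univ _) h), map_smul, har]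
      rw [map_smul, hr, pow_succ, Module.End.mul_apply, haj i (Nat.le_of_lt_succ i.2) (fun h => hi (Fin.ext h)),
        map_zero, smul_zero]
    refine sub_eq_zero.1 ((Submodule.disjoint_def.1 hcompl.disjoint) _ ?_ (sub_mem hvW (W.smul_mem _ hXW)))
    rw [LinearMap.mem_ker, map_sub, hav, map_smul, har, sub_self]
  let σW : Representation k G W :=
    { toFun := fun h => (adRep ρ h).restrict (hWst h)
      map_one' := LinearMap.ext fun v => Subtype.ext (by simp)
      map_mul' := fun h h' => LinearMap.ext fun v => Subtype.ext (by simp) }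
  have hσ : ∀ (i : ℕ) (v : W), (((σW y - 1) ^ i) v : 𝕄) = (D ^ i) (v : 𝕄) := by
    intro i
    induction i with
    | zero => intro v; rfl
    | succ i ih =>
      intro v
      rw [pow_succ', Module.End.mul_apply, pow_succ', Module.End.mul_apply, ← ih v, hD]
      rfl
  have hDp : D ^ p = 0 := by
    obtain ⟨r', -, e⟩ := hDpow p
    rw [e, pow_succ, hEp, zero_mul, mul_zero, add_zero]
  have hdim : Module.finrank k W ≤ 2 * m + 1 := by
    refine finrank_le_of_ker (D := σW y - 1) (LinearMap.ext fun v => Subtype.ext ?_) ?_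
    · rw [hσ, LinearMap.zero_apply, ZeroMemClass.coe_zero]
      by_contra hne
      obtain ⟨u, hu⟩ : ∃ u : W, (u : 𝕄) ≠ 0 ∧ D u = 0 ∧ ∃ z, (D ^ (2 * m + 1)) z = (u : 𝕄) := by
        have hex : ∃ i, (D ^ (2 * m + 1 + i)) (v : 𝕄) = 0 :=
          ⟨p, by rw [pow_add, hDp, mul_zero, LinearMap.zero_apply]⟩
        have hi0 : Nat.find hex ≠ 0 := fun h => hne (by simpa [h] using Nat.find_spec hex)
        obtain ⟨i, hi⟩ := Nat.exists_eq_succ_of_ne_zero hi0
        refine ⟨⟨(D ^ (2 * m + 1 + i)) v, by rw [← hσ]; exact Subtype.coe_prop _⟩,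
          Nat.find_min hex (by omega), ?_, (D ^ i) (v : 𝕄), ?_⟩
        · show D ((D ^ (2 * m + 1 + i)) (v : 𝕄)) = 0
          rw [← Module.End.mul_apply, ← pow_succ']
          have := Nat.find_spec hex
          rwa [hi] at this
        · rw [← Module.End.mul_apply, ← pow_add]
      obtain ⟨hu0, huD, z, hz⟩ := hu
      obtain ⟨t, ht⟩ := hfix _ u.2 huD
      have ht0 : t ≠ 0 := fun h => hu0 (by rw [ht, h, zero_smul])
      exact hnz (t⁻¹ • z) (by rw [map_smul, hz, ht, smul_smul, inv_mul_cancel₀ ht0, one_smul])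
    · refine (Submodule.finrank_mono (t := Submodule.span k {(⟨X ^ m, hXW⟩ : W)}) fun v hv => ?_).trans
        ((finrank_span_le_card _).trans (by simp))
      have hv' : D (v : 𝕄) = 0 := by
        have h := congrArg (fun u : W => (u : 𝕄)) (LinearMap.mem_ker.1 hv)
        rw [← pow_one (σW y - 1), hσ, pow_one] at h
        exact h
      obtain ⟨t, ht⟩ := hfix v v.2 hv'
      exact Submodule.mem_span_singleton.2 ⟨t, Subtype.ext ht.symm⟩
  have hWy : σW y ≠ 1 := by
    intro h
    have hmW : (aT ^ r) w' ∈ W := ⟨w', rfl⟩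
    have h1 : (D ^ (2 * m)) ((aT ^ r) w') = X ^ m := by
      rw [← Module.End.mul_apply, ← (((hag y).sub_right (Commute.one_right _)).pow_pow r (2 * m)).eq,
        Module.End.mul_apply, hw', har]
    rw [← hσ (2 * m) ⟨_, hmW⟩, show σW y - 1 = 0 from sub_eq_zero.2 h, zero_pow (by omega), LinearMap.zero_apply, ZeroMemClass.coe_zero] at h1
    exact hXn' (by rw [← Nat.sub_add_cancel (show m ≤ n + 1 by omega), pow_add, ← h1, mul_zero])
  exact exists_hom_small σW hS hsq hy hWy (by omega) (by omega)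

end Cfsg.Agent.Feit.Edge
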