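import Cfsg.Agent.Lib.Feit.Basic
import Cfsg.Agent.Lib.Feit.EdgeMod
import Cfsg.Agent.Lib.SmallDeg16.FewEigen

/-!
The degree `(p + 1) / 2`: a core group with the squares in the normaliser of an element of order `p` is a
central extension of `PSL₂(p)`.
-/

set_option autoImplicit false
set_option linter.unusedSectionVars false
set_option linter.style.haveILetI false

namespace Cfsg.Agent.Feit

open SmallDim
open scoped Classical MatrixGroups

universe u

variable {G : Type u} [Group G] [Finite G] {p : ℕ} [hpF : Fact p.Prime] {d : ℕ}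

/-- Degree `(p + 1) / 2`: the standard map to `PGL₂`. -/
theorem exists_std_hom_edge (hC : Core p G) (hp11 : 11 ≤ p) (ρ : Representation ℂ G (Fin d → ℂ))
    (hρ : Function.Injective ρ) (hd : 2 * d = p + 1) {y : G} (hy : orderOf y = p)
    (hsquare : ∀ t : (ZMod p)ˣ, ∃ n : G, n * y * n⁻¹ = y ^ (((t : ZMod p) ^ 2).val)) :
    ∃ (k : Type) (_ : Field k) (_ : IsAlgClosed k) (_ : CharP k p) (φ : G →* PGL(2, k)),
      φ.ker = Subgroup.center G ∧ φ.range = (iotaSL k p).range ∧
        φ y = Matrix.SpecialLinearGroup.toPGL (sU 1) := by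
  haveI : Fintype G := Fintype.ofFinite G
  obtain ⟨V, -, hch, -, σ, -, hinj, -⟩ :=
    exists_reduction (SmallDeg16.eq_bot_of_normal_pGroup hC.perf hC.sq hC.norm) ρ hρ
  haveI := hch
  haveI := isAlgClosed_residue V
  set S := Subgroup.zpowers y with hSd
  have hS : Nat.card S = p := by rw [Nat.card_zpowers, hy]
  haveI : Fintype S := Fintype.ofFinite _
  have hA : σ y ≠ 1 := fun h => by
    have h1 : y = 1 := hinj (by rw [h, map_one])
    exact hpF.out.ne_one (by rw [← hy, h1, orderOf_one])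
  obtain ⟨φ₀, hφ₀⟩ : ∃ φ : G →* PGL(2, IsLocalRing.ResidueField V), φ y = Matrix.ProjGenLinGroup.mk
      (Matrix.GeneralLinearGroup.mkOfDetNeZero !![1, 1; 0, 1] (by simp [Matrix.det_fin_two])) := by
    by_cases h0 : (σ y - 1) ^ (d - 1) = 0
    · exact SmallDeg16.exists_hom_nil σ hS hC.sq (Subgroup.mem_zpowers y) hA h0 (by omega)
        (by rw [Module.finrank_fin_fun]; omega) (by omega)
    · exact Edge.exists_hom_edge σ hS hC.sq (Subgroup.mem_zpowers y) hA
        (by rw [Module.finrank_fin_fun]; exact hd) hp11 (by rwa [Module.finrank_fin_fun]) hsquare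
  have hne : φ₀ y ≠ 1 := by
    rw [show φ₀ y = Matrix.SpecialLinearGroup.toPGL (sU 1) from hφ₀.trans
      (congrArg Matrix.ProjGenLinGroup.mk (Units.ext rfl)), Ne, ← MonoidHom.mem_ker,
      Matrix.SpecialLinearGroup.toPGL_ker]
    intro h
    rcases center_sl_eq h with h | h <;>
      simpa [sU] using congrFun (congrFun h 0) 1
  obtain ⟨φ, h1, h2, h3⟩ := SmallDeg16.exists_std_hom (by omega) hC.perf hC.sq hC.norm φ₀ hy hne
  exact ⟨_, inferInstance, inferInstance, hch, φ, h1, h2, h3⟩

/-- Degree `(p + 1) / 2`: the central quotient is `PSL₂(p)`. -/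
theorem psl_of_edge (hC : Core p G) (hp11 : 11 ≤ p) (ρ : Representation ℂ G (Fin d → ℂ))
    (hρ : Function.Injective ρ) (hd : 2 * d = p + 1) {y : G} (hy : orderOf y = p)
    (hsquare : ∀ t : (ZMod p)ˣ, ∃ n : G, n * y * n⁻¹ = y ^ (((t : ZMod p) ^ 2).val)) :
    Nonempty (G ⧸ Subgroup.center G ≃* Matrix.ProjectiveSpecialLinearGroup (Fin 2) (ZMod p)) := by
  obtain ⟨k, _, _, _, φ, hk, hr, -⟩ := exists_std_hom_edge hC hp11 ρ hρ hd hy hsquare
  exact ⟨((QuotientGroup.quotientMulEquivOfEq hk.symm).trans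
    (QuotientGroup.quotientKerEquivRange φ)).trans
    ((MulEquiv.subgroupCongr (hr.trans (iotaPSL_range k p).symm)).trans
      (MonoidHom.ofInjective (iotaPSL_injective k p)).symm)⟩

end Cfsg.Agent.Feit
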