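import Cfsg.Agent.Lib.Feit.Main
import Cfsg.Agent.Lib.Feit.Edge
import Cfsg.Agent.Lib.SmallDim.HalfDegree

/-!
The faithful irreducible representations of a core in degree less than `p - 2`.
-/

set_option autoImplicit false
set_option linter.unusedSectionVars false
set_option linter.style.haveILetI false

namespace Cfsg.Agent.Feit

open Cfsg Cfsg.Agent.Char Cfsg.Agent.Blocks Cfsg.Agent.CCSylow Cfsg.Agent.DefOne
open Cfsg.Agent.SmallDeg16 (Coord)

universe u

variable {G : Type u} [Group G] [Fintype G] {p : ℕ}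

/-- A Sylow subgroup of a core has order `p`. -/
theorem card_sylow (hcore : Core p G) [Fact p.Prime] (P : Sylow p G) :
    Nat.card (P : Subgroup G) = p := by
  have hfac : (Nat.card G).factorization p = 1 := by
    have a1 := (hcore.prime.dvd_iff_one_le_factorization Nat.card_pos.ne').1 hcore.dvd
    have a2 : ¬ 2 ≤ (Nat.card G).factorization p := fun h =>
      hcore.sq ((hcore.prime.pow_dvd_iff_le_factorization Nat.card_pos.ne').2 h)
    omega
  rw [Sylow.card_eq_multiplicity, hfac, pow_one]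

section Squares

variable [NeZero p] {P V N : Subgroup G} {e : ℕ} (K : Conf p P V N e)
  [Fintype P] [Fintype V] [Fintype N] [Fintype (P →* ℂˣ)]

include K

/-- The normaliser realises every square when `e` is half of `p - 1`. -/
theorem exists_square_conj [Fact p.Prime] (C : Coord p P) (he : 2 * e + 1 = p) (t : (ZMod p)ˣ) :
    ∃ n : G, n * (C.y : G) * n⁻¹ = (C.y : G) ^ (((t : ZMod p) ^ 2).val) := by
  have hpow : ((t : ZMod p) ^ 2) ^ e = 1 := by
    rw [← pow_mul, show 2 * e = p - 1 by omega]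
    exact ZMod.pow_card_sub_one_eq_one t.ne_zero
  obtain ⟨w, hw⟩ := (SmallDeg16.orbit_index K C (by have := (Fact.out : p.Prime).two_le; omega)).2 _ hpow
  refine ⟨w, ?_⟩
  have hl : C.lam 1 = C.l := by
    refine MonoidHom.ext fun z => ?_
    rw [Coord.lam, ZMod.val_one, MonoidHom.pow_apply, pow_one]
  have h := DFunLike.congr_fun hw C.y
  rw [lT_apply, hl, Coord.lam, MonoidHom.pow_apply, ← map_pow] at h
  have hinj : Function.Injective C.l := fun a b hab => by
    obtain ⟨i, rfl⟩ := C.el_surjective a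
    obtain ⟨j, rfl⟩ := C.el_surjective b
    rw [← hl] at hab
    have h2 := congrArg Units.val hab
    rw [C.lam_el, C.lam_el, mul_one, mul_one] at h2
    rw [ZMod.injective_stdAddChar h2]
  simpa using congrArg Subtype.val (hinj h)

end Squares

/-- The cases below degree `p - 2`. -/
theorem core_cases (hcore : Core p G) (hp11 : 11 ≤ p) [Fact p.Prime] {d : ℕ} (hd : d + 2 < p)
    (ρ : Representation ℂ G (Fin d → ℂ)) [ρ.IsIrreducible] (hρ : Function.Injective ρ) :
    ((2 * d = p + 1 ∨ 2 * d + 1 = p) ∧ Nonempty (G ⧸ Subgroup.center G ≃*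
      Matrix.ProjectiveSpecialLinearGroup (Fin 2) (ZMod p))) ∨
    ∃ t e : ℕ, p = t * e + 1 ∧ d + e = p ∧ 3 ≤ e ∧ 3 ≤ t ∧ Even (Nat.card (Subgroup.center G)) ∧
      Odd e ∧
      (e + 3 ≤ t ∨ (2 * t ≤ e + 1 ∧ ∀ r c : ZMod p, r ≠ 0 → c ≠ 0 → e + 1 ≤ t * R e r c + t)) := by
  haveI : NeZero p := ⟨hcore.prime.ne_zero⟩
  obtain ⟨P⟩ : Nonempty (Sylow p G) := inferInstance
  have hP := card_sylow hcore P
  by_cases hhalf : 2 * d + 1 = p
  · refine Or.inl ⟨Or.inr hhalf, SmallDim.center_quotient_psl (by omega) hcore.dvd hcore.sq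
      (fun W hW hc => sylow_not_normal hcore hc hW) ρ hρ hhalf⟩
  obtain ⟨V, e, K, -⟩ := exists_conf hcore.prime P hP
  haveI : Fintype ((P : Subgroup G) →* ℂˣ) := Fintype.ofFinite _
  obtain ⟨M, hM⟩ := exists_isPModular_witness p
  haveI := IsPModular.isPrime hM
  obtain ⟨hde, b, C, L⟩ := exists_exc K hcore hM (by omega) hhalf ρ hρ
    ⟨ρ.character, isIrrCharacter_of_rep ρ⟩ rfl
  have he3 : 3 ≤ e := by omega
  obtain ⟨t, ht⟩ : e ∣ p - 1 := by
    have h := dvd_card_sub_one K.D
    rwa [K.hP] at h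
  have hp : p = t * e + 1 := by rw [mul_comm, ← ht]; omega
  have ht2 : 2 ≤ t := by
    have := L.half
    rcases (show t = 0 ∨ t = 1 ∨ 2 ≤ t by omega) with h | h | h
    · rw [h, mul_zero] at ht; omega
    · rw [h, mul_one] at ht; omega
    · exact h
  rcases (show t = 2 ∨ 3 ≤ t by omega) with rfl | ht3
  · have hd2 : 2 * d = p + 1 := by omega
    have hy : orderOf (C.y : G) = p := by
      refine orderOf_P' K C.y.2 fun h => ?_
      have h1 := C.val
      rw [show C.y = 1 from Subtype.ext h, map_one, Units.val_one] at h1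
      exact one_ne_zero (ZMod.injective_stdAddChar ((AddChar.map_zero_eq_one _).trans h1)).symm
    exact Or.inl ⟨Or.inl hd2, psl_of_edge hcore hp11 ρ hρ hd2 hy
      (exists_square_conj K C (by omega))⟩
  · right
    refine ⟨t, e, hp, hde, he3, ht3, ?_, Nat.not_even_iff_odd.1 fun heven =>
      L.absurd_of_odd K hcore hM hp he3 ht3 (L.odd_center K hcore.perf heven),
      L.alt_bound K hcore hM hp he3 ht3⟩
    rw [← L.center]
    by_contra hk
    exact L.absurd_of_odd K hcore hM hp he3 ht3 (Nat.not_even_iff_odd.1 hk)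

/-- Below degree twenty-seven only the prime nineteen is left. -/
theorem small_left {p t e d : ℕ} [Fact p.Prime] (hd : d < 27) (hp : p = t * e + 1) (hde : d + e = p)
    (he : 3 ≤ e) (ht : 3 ≤ t) (hodd : Odd e)
    (h : e + 3 ≤ t ∨ (2 * t ≤ e + 1 ∧ ∀ r c : ZMod p, r ≠ 0 → c ≠ 0 → e + 1 ≤ t * R e r c + t)) :
    p = 19 ∧ d = 16 := by
  have hpr : p.Prime := Fact.out
  have hte : (t - 1) * e + 1 = d := by
    have h1 : (t - 1) * e + e = t * e := by
      rw [← Nat.succ_mul, Nat.succ_eq_add_one, Nat.sub_add_cancel (by omega)]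
    omega
  have hb : (t - 1) * e ≤ 25 := by omega
  have ht13 : t ≤ 9 := by
    have := Nat.mul_le_mul_left (t - 1) he
    omega
  have he12 : e ≤ 12 := by
    have h2 : 2 * e ≤ (t - 1) * e := Nat.mul_le_mul_right e (by omega)
    omega
  obtain ⟨q, rfl⟩ := hodd
  have hq : q ≤ 5 := by omega
  interval_cases t <;> interval_cases q <;> subst hp <;>
    first
    | (norm_num at hpr; done)
    | omega
    | skip
  rcases h with h | ⟨-, h⟩
  · omega
  · exfalso
    revert h
    decide +kernel +revert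

end Cfsg.Agent.Feit
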