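import Cfsg.Agent.Lib.Feit.CyclicMult
import Mathlib.GroupTheory.Sylow
import Mathlib.Algebra.Group.Conj
import Mathlib.GroupTheory.Coset.Card

/-!
The classes of elements of order `p` and the exponents realised by conjugation.
-/

set_option autoImplicit false
set_option linter.unusedSectionVars false
set_option linter.style.haveILetI false

namespace Cfsg.Agent.Feit

open scoped Classical Pointwise

universe u

variable {G : Type u} [Group G] [Finite G] {p : ℕ} [Fact p.Prime] [NeZero p]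

theorem pow_val_mul {y : G} (hy : y ^ p = 1) (a b : ZMod p) : (y ^ a.val) ^ b.val = y ^ (a * b).val := by
  rw [← pow_mul, ZMod.val_mul, ← pow_eq_pow_mod _ hy]

/-- The exponents realised by conjugation. -/
def expGroup (y : G) (hy : orderOf y = p) : Subgroup (ZMod p)ˣ where
  carrier := {a | ∃ g : G, g * y * g⁻¹ = y ^ (a : ZMod p).val}
  one_mem' := ⟨1, by simp [ZMod.val_one]⟩
  mul_mem' := by
    rintro a b ⟨g, hg⟩ ⟨h, hh⟩
    refine ⟨g * h, ?_⟩
    rw [Units.val_mul, ← pow_val_mul (by rw [← hy, pow_orderOf_eq_one]), ← hg, conj_pow, ← hh]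
    simp [mul_assoc]
  inv_mem' := by
    rintro a ⟨g, hg⟩
    refine ⟨g⁻¹, ?_⟩
    have hyp : y ^ p = 1 := by rw [← hy, pow_orderOf_eq_one]
    have h1 : g * y ^ ((a⁻¹ : (ZMod p)ˣ) : ZMod p).val * g⁻¹ = y := by
      rw [← conj_pow, hg, pow_val_mul hyp, ← Units.val_mul, mul_inv_cancel, Units.val_one, ZMod.val_one, pow_one]
    calc g⁻¹ * y * g⁻¹⁻¹ = g⁻¹ * (g * y ^ ((a⁻¹ : (ZMod p)ˣ) : ZMod p).val * g⁻¹) * g⁻¹⁻¹ := by rw [h1]
      _ = y ^ ((a⁻¹ : (ZMod p)ˣ) : ZMod p).val := by group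

variable {y : G} (hy : orderOf y = p)

include hy

/-- The classes of elements of order `p` are the cosets of the realised exponents. -/
theorem card_classes (P : Sylow p G) (hP : Nat.card P = p) :
    Nat.card {c : ConjClasses G // ∃ g : G, ConjClasses.mk g = c ∧ orderOf g = p} = (expGroup y hy).index := by
  have hp : p.Prime := Fact.out
  have hyp : y ^ p = 1 := by rw [← hy, pow_orderOf_eq_one]
  have hval : ∀ a : (ZMod p)ˣ, orderOf (y ^ (a : ZMod p).val) = p := fun a => by
    refine orderOf_eq_prime (by rw [← pow_mul, mul_comm, pow_mul, hyp, one_pow]) fun h => a.ne_zero ?_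
    have hd := orderOf_dvd_of_pow_eq_one h
    rw [hy, ← ZMod.natCast_eq_zero_iff, ZMod.natCast_zmod_val] at hd
    exact hd
  let f : (ZMod p)ˣ → {c : ConjClasses G // ∃ g : G, ConjClasses.mk g = c ∧ orderOf g = p} :=
    fun a => ⟨ConjClasses.mk (y ^ (a : ZMod p).val), _, rfl, hval a⟩
  have hiff : ∀ a b, f a = f b ↔ a⁻¹ * b ∈ expGroup y hy := by
    intro a b
    rw [Subtype.ext_iff]
    show ConjClasses.mk _ = ConjClasses.mk _ ↔ _
    rw [ConjClasses.mk_eq_mk_iff_isConj, isConj_iff]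
    constructor
    · rintro ⟨g, hg⟩
      refine ⟨g, ?_⟩
      have h1 := congrArg (· ^ ((a⁻¹ : (ZMod p)ˣ) : ZMod p).val) hg
      rw [conj_pow, pow_val_mul hyp, pow_val_mul hyp, ← Units.val_mul, mul_inv_cancel, Units.val_one,
        ZMod.val_one, pow_one] at h1
      rw [h1, Units.val_mul, mul_comm]
    · rintro ⟨g, hg⟩
      refine ⟨g, ?_⟩
      rw [← conj_pow, hg, pow_val_mul hyp, ← Units.val_mul, mul_comm, mul_inv_cancel_left]
  rw [Subgroup.index]
  refine (Nat.card_congr (Equiv.ofBijective (Quotient.lift f fun a b h => (hiff a b).2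
    (QuotientGroup.leftRel_apply.1 h)) ⟨?_, ?_⟩)).symm
  · rintro ⟨a⟩ ⟨b⟩ h
    exact Quotient.sound (QuotientGroup.leftRel_apply.2 ((hiff a b).1 h))
  · rintro ⟨_, g, rfl, hg⟩
    have hfac : (Nat.card G).factorization p = 1 := by
      have := P.card_eq_multiplicity
      rw [hP] at this
      exact (Nat.pow_right_injective hp.two_le (this.symm.trans (pow_one p).symm))
    let Sy : Sylow p G := Sylow.ofCard (Subgroup.zpowers y) (by rw [hfac, pow_one, Nat.card_zpowers, hy])
    let Sg : Sylow p G := Sylow.ofCard (Subgroup.zpowers g) (by rw [hfac, pow_one, Nat.card_zpowers, hg])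
    obtain ⟨c, hc⟩ := MulAction.exists_smul_eq G Sg Sy
    have hmem : c * g * c⁻¹ ∈ Subgroup.zpowers y := by
      have h : c * g * c⁻¹ ∈ ((c • Sg : Sylow p G) : Subgroup G) := by
        rw [Sylow.coe_subgroup_smul, Subgroup.mem_smul_pointwise_iff_exists]
        exact ⟨g, Subgroup.mem_zpowers g, by rw [MulAut.smul_def, MulAut.conj_apply]⟩
      rwa [hc] at h
    rw [← mem_powers_iff_mem_zpowers, Submonoid.mem_powers_iff] at hmem
    obtain ⟨k, hk⟩ := hmem
    have hk0 : (k : ZMod p) ≠ 0 := by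
      rw [Ne, ZMod.natCast_eq_zero_iff]
      rintro ⟨m, rfl⟩
      rw [pow_mul, hyp, one_pow, eq_comm, conj_eq_one_iff] at hk
      rw [hk, orderOf_one] at hg
      exact hp.ne_one hg.symm
    refine ⟨Quotient.mk _ (Units.mk0 _ hk0), Subtype.ext ?_⟩
    show ConjClasses.mk (y ^ (k : ZMod p).val) = ConjClasses.mk g
    rw [ZMod.val_natCast, ← pow_eq_pow_mod _ hyp, hk, ConjClasses.mk_eq_mk_iff_isConj, isConj_iff]
    exact ⟨c⁻¹, by group⟩

theorem mult_expGroup {d : ℕ} (ρ : Representation ℂ G (Fin d → ℂ)) {a : (ZMod p)ˣ} (ha : a ∈ expGroup y hy)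
    (j : ZMod p) : CMult.mult ρ p y ((a : ZMod p) * j) = CMult.mult ρ p y j := by
  have hyp : y ^ p = 1 := by rw [← hy, pow_orderOf_eq_one]
  obtain ⟨g, hg⟩ := ha
  refine CMult.mult_unit ρ hyp a (fun i => ?_) j
  rw [← pow_val_mul hyp, ← hg, conj_pow, ρ.char_conj]

/-- In degree less than `p - 1` not every exponent is realised. -/
theorem expGroup_ne_top {d : ℕ} (ρ : Representation ℂ G (Fin d → ℂ)) (hρ : Function.Injective ρ)
    (hd : d + 1 < p) : expGroup y hy ≠ ⊤ := by
  intro htop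
  have hp : p.Prime := Fact.out
  have hyp : y ^ p = 1 := by rw [← hy, pow_orderOf_eq_one]
  have hzero : ∀ j : ZMod p, CMult.mult ρ p y j ≠ 0 → j = 0 := by
    intro j hj
    by_contra hj0
    have hall : ∀ i ∈ (Finset.univ.erase (0 : ZMod p)), 1 ≤ CMult.mult ρ p y i := by
      intro i hi
      have hi0 := (Finset.mem_erase.1 hi).1
      have := mult_expGroup hy ρ (a := Units.mk0 (i * j⁻¹) (mul_ne_zero hi0 (inv_ne_zero hj0)))
        (htop ▸ Subgroup.mem_top _) j
      rw [Units.val_mk0, inv_mul_cancel_right₀ hj0] at this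
      omega
    have h1 := (Finset.card_nsmul_le_sum _ _ 1 hall).trans
      ((Finset.sum_le_sum_of_subset (Finset.erase_subset _ _)).trans_eq (CMult.sum_mult ρ hyp))
    rw [Finset.card_erase_of_mem (Finset.mem_univ _), Finset.card_univ, ZMod.card, smul_eq_mul, mul_one] at h1
    omega
  have h1 := CMult.rho_pow_eq_one ρ hyp (i := 1) fun j hj => by rw [hzero j hj, mul_zero]
  rw [pow_one] at h1
  have h2 : y = 1 := hρ (h1.trans (map_one ρ).symm)
  rw [h2, orderOf_one] at hy
  exact hp.ne_one hy.symm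

end Cfsg.Agent.Feit
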