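import Mathlib

/-!
Lower bounds for the sum of a class function over the conjugates of some elements.
-/

set_option autoImplicit false

namespace Cfsg.Agent.Feit

open Finset

universe u

variable {G : Type u} [Group G] [Fintype G]

open scoped Classical in
/-- The sum over the conjugates of a family, weighted by the elements permuting the family. -/
theorem conj_sum_le {ι : Type*} [Fintype ι] (f : G → ℝ) (hf0 : ∀ w, 0 ≤ f w)
    (hconj : ∀ a w, f (a * w * a⁻¹) = f w) (g : ι → G) (hg : Function.Injective g) (M : Finset G)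
    (hM : ∀ u i j, u * g i * u⁻¹ = g j → u ∈ M) :
    (Nat.card G : ℝ) * ∑ i, f (g i) ≤
      (M.card : ℝ) * ∑ w ∈ (univ : Finset (G × ι)).image (fun t => t.1 * g t.2 * t.1⁻¹), f w := by
  set Φ : G × ι → G := fun t => t.1 * g t.2 * t.1⁻¹
  have hfib : ∀ w, ((univ : Finset (G × ι)).filter fun t => Φ t = w).card ≤ M.card := by
    intro w
    rcases ((univ : Finset (G × ι)).filter fun t => Φ t = w).eq_empty_or_nonempty with
      he | ⟨⟨a₀, i₀⟩, h₀⟩
    · rw [he, card_empty]; exact Nat.zero_le _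
    have hw₀ : a₀ * g i₀ * a₀⁻¹ = w := (mem_filter.1 h₀).2
    have key : ∀ t ∈ (univ : Finset (G × ι)).filter fun t => Φ t = w,
        t.1⁻¹ * a₀ * g i₀ * (t.1⁻¹ * a₀)⁻¹ = g t.2 := by
      rintro ⟨a, i⟩ ht
      have hw : a * g i * a⁻¹ = w := (mem_filter.1 ht).2
      calc a⁻¹ * a₀ * g i₀ * (a⁻¹ * a₀)⁻¹ = a⁻¹ * (a₀ * g i₀ * a₀⁻¹) * a := by group
        _ = a⁻¹ * (a * g i * a⁻¹) * a := by rw [hw₀, hw]
        _ = g i := by group
    refine card_le_card_of_injOn (fun t => t.1⁻¹ * a₀) (fun t ht => hM _ _ _ (key t ht))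
      fun t ht t' ht' e => ?_
    have h1 : t.1 = t'.1 := inv_injective (mul_right_cancel e)
    refine Prod.ext h1 (hg ?_)
    rw [← key t ht, ← key t' ht', h1]
  have h1 : ∑ t : G × ι, f (Φ t) = (Nat.card G : ℝ) * ∑ i, f (g i) := by
    simp only [Φ, hconj]
    simp only [Fintype.sum_prod_type, sum_const, card_univ, nsmul_eq_mul, Nat.card_eq_fintype_card]
  rw [← h1, ← sum_fiberwise_of_maps_to (g := Φ) (t := (univ : Finset (G × ι)).image Φ)
    (fun t ht => mem_image_of_mem Φ ht), Finset.mul_sum]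
  refine sum_le_sum fun w _ => ?_
  rw [sum_congr rfl (g := fun _ => f w) fun t ht => by rw [(mem_filter.1 ht).2], sum_const,
    nsmul_eq_mul]
  exact mul_le_mul_of_nonneg_right (by exact_mod_cast hfib w) (hf0 w)

open scoped Classical in
/-- The normaliser of a cyclic group is bounded by the exponents it induces. -/
theorem card_normalising_le {p : ℕ} [NeZero p] {x : G} (hx : x ^ p = 1) (K : Finset (ZMod p))
    (hK : ∀ (u : G) (k : ℕ), u * x * u⁻¹ = x ^ k → (k : ZMod p) ∈ K) :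
    ((univ : Finset G).filter fun u => ∃ k : ℕ, u * x * u⁻¹ = x ^ k).card ≤
      K.card * ((univ : Finset G).filter fun c => c * x = x * c).card := by
  set M := (univ : Finset G).filter fun u => ∃ k : ℕ, u * x * u⁻¹ = x ^ k with hMd
  have hex : ∀ k : ZMod p, ∃ u : G,
      (∃ v : G, v * x * v⁻¹ = x ^ k.val) → u * x * u⁻¹ = x ^ k.val := fun k => by
    by_cases hc : ∃ v : G, v * x * v⁻¹ = x ^ k.val
    · exact ⟨hc.choose, fun _ => hc.choose_spec⟩
    · exact ⟨1, fun e => absurd e hc⟩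
  choose U hU using hex
  have hexp : ∀ u ∈ M, ∃ k : ZMod p, k ∈ K ∧ u * x * u⁻¹ = x ^ k.val := by
    intro u hu
    obtain ⟨k, hk⟩ := (mem_filter.1 hu).2
    refine ⟨k, hK u k hk, ?_⟩
    rw [hk, ZMod.val_natCast, ← pow_eq_pow_mod _ hx]
  choose e he using fun u : M => hexp u.1 u.2
  refine le_of_le_of_eq ?_ (card_product K ((univ : Finset G).filter fun c => c * x = x * c))
  rw [← card_attach]
  refine card_le_card_of_injOn (fun u => (e u, (U (e u))⁻¹ * u.1)) (fun u _ => ?_)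
    fun u _ u' _ h => ?_
  · refine mem_product.2 ⟨(he u).1, mem_filter.2 ⟨mem_univ _, ?_⟩⟩
    have hU' := hU _ ⟨_, (he u).2⟩
    show (U (e u))⁻¹ * u.1 * x = x * ((U (e u))⁻¹ * u.1)
    calc (U (e u))⁻¹ * u.1 * x = (U (e u))⁻¹ * (u.1 * x * (u.1)⁻¹) * u.1 := by group
      _ = (U (e u))⁻¹ * (U (e u) * x * (U (e u))⁻¹) * u.1 := by rw [(he u).2, hU']
      _ = x * ((U (e u))⁻¹ * u.1) := by group
  · obtain ⟨h1, h2⟩ := Prod.mk.injEq .. ▸ h
    rw [h1] at h2
    exact Subtype.ext (mul_left_cancel h2)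

end Cfsg.Agent.Feit
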