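import Mathlib

/-!
Cyclotomic numbers of the subgroup of order `e` of the multiplicative group of the field of `p` elements: the second
moment identity, and the two counting contradictions.
-/

set_option autoImplicit false
set_option linter.style.haveILetI false

namespace Cfsg.Agent.Feit

open Finset

variable {p : ℕ} [Fact p.Prime]

/-- The roots of unity of order dividing `e`. -/
def roots (e : ℕ) : Finset (ZMod p) := univ.filter fun h => h ^ e = 1

/-- The number of pairs of roots of unity `h`, `h'` with `h + j h' = c`. -/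
def R (e : ℕ) (j c : ZMod p) : ℕ :=
  ((roots e ×ˢ roots e).filter fun q => q.1 + j * q.2 = c).card

/-- The non-zero classes. -/
def nz : Finset (ZMod p) := univ.erase 0

theorem mem_roots {e : ℕ} {h : ZMod p} : h ∈ roots e ↔ h ^ e = 1 := by simp [roots]

theorem mem_nz {c : ZMod p} : c ∈ nz ↔ c ≠ 0 := by simp [nz]

variable {e t : ℕ}

theorem e_pos (hp : p = t * e + 1) : 0 < e := by
  rcases Nat.eq_zero_or_pos e with rfl | h
  · exact absurd (hp ▸ (Fact.out : p.Prime)) (by simp [Nat.not_prime_one])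
  · exact h

theorem roots_ne (hp : p = t * e + 1) {h : ZMod p} (hh : h ∈ roots e) : h ≠ 0 := by
  rintro rfl
  have he := e_pos hp
  rw [mem_roots, zero_pow he.ne'] at hh
  exact zero_ne_one hh

theorem card_roots (hp : p = t * e + 1) : (roots (p := p) e).card = e := by
  have he := e_pos hp
  obtain ⟨g, hg⟩ := IsCyclic.exists_generator (α := (ZMod p)ˣ)
  have hg' : IsPrimitiveRoot (g : ZMod p) (p - 1) := by
    have ho : orderOf (g : ZMod p) = p - 1 := by
      rw [orderOf_units, orderOf_eq_card_of_forall_mem_zpowers hg, Nat.card_eq_fintype_card, ZMod.card_units]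
    rw [← ho]
    exact IsPrimitiveRoot.orderOf _
  have hr : IsPrimitiveRoot ((g : ZMod p) ^ t) e :=
    hg'.pow (by have := (Fact.out : p.Prime).two_le; omega) (by omega)
  conv_rhs => rw [← hr.card_nthRootsFinset]
  congr 1
  ext h
  rw [mem_roots, Polynomial.mem_nthRootsFinset he]

theorem card_nz (hp : p = t * e + 1) : (nz (p := p)).card = t * e := by
  rw [nz, card_erase_of_mem (mem_univ _), card_univ, ZMod.card]
  omega

theorem sum_nz (f : ZMod p → ℤ) : ∑ c ∈ nz, f c = ∑ c, f c - f 0 :=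
  Finset.sum_erase_eq_sub (mem_univ _)

theorem R_zero (hp : p = t * e + 1) {j : ZMod p} (hj : j ≠ 0) :
    R e j 0 = if -j ∈ roots e then e else 0 := by
  split_ifs with h
  · refine (Finset.card_bij (fun q _ => q.2) (fun q hq => ?_) (fun a ha b hb eq => ?_) fun k hk => ?_).trans
      (card_roots hp)
    · simp only [mem_filter, mem_product] at hq
      exact hq.1.2
    · simp only [mem_filter, mem_product] at ha hb
      refine Prod.ext ?_ eq
      rw [eq] at ha
      exact add_right_cancel (ha.2.trans hb.2.symm)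
    · refine ⟨(-j * k, k), ?_, rfl⟩
      simp only [mem_filter, mem_product]
      refine ⟨⟨?_, hk⟩, by ring⟩
      rw [mem_roots] at h hk ⊢
      rw [mul_pow, h, hk, one_mul]
  · refine Finset.card_eq_zero.2 (filter_eq_empty_iff.2 fun q hq eq => h ?_)
    simp only [mem_product, mem_roots] at hq
    rw [mem_roots]
    have h2 : -j * q.2 = q.1 := by linear_combination -eq
    calc (-j) ^ e = (-j * q.2) ^ e := by rw [mul_pow, hq.2, mul_one]
      _ = 1 := by rw [h2, hq.1]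

theorem R_neg_one_zero (hp : p = t * e + 1) : R e (-1 : ZMod p) 0 = e := by
  rw [R_zero hp (neg_ne_zero.2 one_ne_zero), if_pos (mem_roots.2 (by simp))]

theorem sum_R (hp : p = t * e + 1) (j : ZMod p) : ∑ c, (R e j c : ℤ) = (e : ℤ) ^ 2 := by
  rw [← Nat.cast_sum]
  unfold R
  rw [← Finset.card_eq_sum_card_fiberwise (fun q _ => mem_univ _), card_product, card_roots hp]
  push_cast
  ring

theorem sum_R_sq {j : ZMod p} (hj : j ≠ 0) :
    ∑ c, (R e j c : ℤ) ^ 2 = ∑ c, (R e (-1) c : ℤ) * R e (-1) (c / j) := by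
  classical
  set P := (roots (p := p) e ×ˢ roots (p := p) e) with hP
  have h1 : ∑ c, (R e j c : ℤ) ^ 2 =
      (((P ×ˢ P).filter fun w => w.1.1 + j * w.1.2 = w.2.1 + j * w.2.2).card : ℤ) := by
    rw [Finset.card_eq_sum_card_fiberwise
      (f := fun w : (ZMod p × ZMod p) × (ZMod p × ZMod p) => w.1.1 + j * w.1.2) (t := univ) (fun w _ => mem_univ _)]
    push_cast
    refine Finset.sum_congr rfl fun c _ => ?_
    rw [sq, ← Nat.cast_mul]
    congr 1
    rw [R, ← card_product]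
    congr 1
    ext ⟨q, q'⟩
    simp only [mem_product, mem_filter, hP]
    constructor
    · rintro ⟨⟨h1, e1⟩, h2, e2⟩
      exact ⟨⟨⟨h1, h2⟩, e1.trans e2.symm⟩, e1⟩
    · rintro ⟨⟨⟨h1, h2⟩, e1⟩, e2⟩
      exact ⟨⟨h1, e2⟩, h2, e1.symm.trans e2⟩
  have h2 : ∑ c, (R e (-1) c : ℤ) * R e (-1) (c / j) =
      (((P ×ˢ P).filter fun w => w.1.1 - w.1.2 = j * (w.2.1 - w.2.2)).card : ℤ) := by
    rw [Finset.card_eq_sum_card_fiberwise
      (f := fun w : (ZMod p × ZMod p) × (ZMod p × ZMod p) => w.1.1 - w.1.2) (t := univ) (fun w _ => mem_univ _)]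
    push_cast
    refine Finset.sum_congr rfl fun c _ => ?_
    rw [← Nat.cast_mul]
    congr 1
    rw [R, R, ← card_product]
    congr 1
    ext ⟨q, q'⟩
    simp only [mem_product, mem_filter, hP, neg_one_mul, ← sub_eq_add_neg, eq_div_iff hj]
    constructor
    · rintro ⟨⟨h1, e1⟩, h2, e2⟩
      exact ⟨⟨⟨h1, h2⟩, by rw [e1, ← e2]; ring⟩, e1⟩
    · rintro ⟨⟨⟨h1, h2⟩, e1⟩, e2⟩
      exact ⟨⟨h1, e2⟩, h2, by rw [← e2, e1]; ring⟩
  rw [h1, h2]
  congr 1
  refine Finset.card_bij (fun w _ => ((w.1.1, w.2.1), (w.2.2, w.1.2))) (fun w hw => ?_)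
    (fun a _ b _ eq => ?_) fun w hw => ?_
  · simp only [mem_filter, mem_product, hP] at hw ⊢
    obtain ⟨⟨⟨a, b⟩, c, d⟩, eq⟩ := hw
    exact ⟨⟨⟨a, c⟩, d, b⟩, by linear_combination eq⟩
  · simp only [Prod.mk.injEq] at eq
    exact Prod.ext (Prod.ext eq.1.1 eq.2.2) (Prod.ext eq.1.2 eq.2.1)
  · simp only [mem_filter, mem_product, hP] at hw ⊢
    obtain ⟨⟨⟨a, b⟩, c, d⟩, eq⟩ := hw
    exact ⟨((w.1.1, w.2.2), (w.1.2, w.2.1)), ⟨⟨⟨a, d⟩, b, c⟩, by linear_combination eq⟩, rfl⟩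

/-- The identity of second moments at one `j`. -/
theorem moment (hp : p = t * e + 1) {j : ZMod p} (hj : j ≠ 0) :
    (∑ c ∈ nz, (R e j c : ℤ) ^ 2) + (R e j 0 : ℤ) ^ 2 =
      (e : ℤ) ^ 2 + ∑ c ∈ nz, (R e (-1) c : ℤ) * R e (-1) (c / j) := by
  rw [sum_nz, sum_nz, sum_R_sq hj, zero_div, R_neg_one_zero hp]
  ring

theorem sum_N (hp : p = t * e + 1) : ∑ c ∈ nz, (R e (-1 : ZMod p) c : ℤ) = (e : ℤ) ^ 2 - e := by
  rw [sum_nz, sum_R hp, R_neg_one_zero hp]

theorem card_neg_roots (hp : p = t * e + 1) : (nz.filter fun j : ZMod p => -j ∈ roots e).card = e := by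
  refine (Finset.card_bij (fun j _ => -j) (fun j hj => (mem_filter.1 hj).2) (fun a _ b _ eq => neg_inj.1 eq)
    fun h hh => ⟨-h, mem_filter.2 ⟨mem_nz.2 (neg_ne_zero.2 (roots_ne hp hh)), by rwa [neg_neg]⟩, neg_neg h⟩).trans
    (card_roots hp)

theorem total_R (hp : p = t * e + 1) :
    ∑ j ∈ nz, ∑ c ∈ nz, (R e (j : ZMod p) c : ℤ) = (e : ℤ) ^ 2 * (t * e - 1) := by
  have h : ∀ j ∈ nz (p := p), ∑ c ∈ nz, (R e j c : ℤ) =
      (e : ℤ) ^ 2 - if -j ∈ roots e then (e : ℤ) else 0 := fun j hj => by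
    rw [sum_nz, sum_R hp, R_zero hp (mem_nz.1 hj)]
    split_ifs <;> simp
  rw [Finset.sum_congr rfl h, Finset.sum_sub_distrib, Finset.sum_const, ← Finset.sum_filter, Finset.sum_const,
    card_nz hp, card_neg_roots hp]
  simp only [nsmul_eq_mul, Nat.cast_mul]
  ring

theorem total_sq (hp : p = t * e + 1) :
    ∑ j ∈ nz, ∑ c ∈ nz, (R e (j : ZMod p) c : ℤ) ^ 2 =
      (e : ℤ) ^ 2 * (t * e + ((e : ℤ) - 1) ^ 2 - e) := by
  have h : ∀ j ∈ nz (p := p), ∑ c ∈ nz, (R e j c : ℤ) ^ 2 = ((e : ℤ) ^ 2 +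
      ∑ c ∈ nz, (R e (-1) c : ℤ) * R e (-1) (c / j)) - if -j ∈ roots e then (e : ℤ) ^ 2 else 0 := fun j hj => by
    rw [← moment hp (mem_nz.1 hj), R_zero hp (mem_nz.1 hj)]
    split_ifs <;> simp
  have h2 : ∀ c ∈ nz (p := p), ∑ j ∈ nz, (R e (-1) (c / j) : ℤ) = (e : ℤ) ^ 2 - e := fun c hc => by
    rw [← sum_N hp]
    have hc' := mem_nz.1 hc
    refine Finset.sum_nbij' (fun j => c / j) (fun d => c / d) ?_ ?_ ?_ ?_ ?_
    · intro j hj; exact mem_nz.2 (div_ne_zero hc' (mem_nz.1 hj))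
    · intro j hj; exact mem_nz.2 (div_ne_zero hc' (mem_nz.1 hj))
    · intro j hj; rw [div_div_eq_mul_div, mul_div_cancel_left₀ _ hc']
    · intro j hj; rw [div_div_eq_mul_div, mul_div_cancel_left₀ _ hc']
    · intro j hj; rfl
  rw [Finset.sum_congr rfl h, Finset.sum_sub_distrib, Finset.sum_add_distrib, Finset.sum_const,
    ← Finset.sum_filter, Finset.sum_const, Finset.sum_comm]
  simp only [← Finset.mul_sum]
  rw [Finset.sum_congr rfl (fun c hc => by rw [h2 c hc]), ← Finset.sum_mul, sum_N hp, card_nz hp, card_neg_roots hp]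
  simp only [nsmul_eq_mul, Nat.cast_mul]
  ring

/-- Two bounds: a squeeze. -/
theorem L1 (hp : p = t * e + 1) (he : 3 ≤ e) (ht : 3 ≤ t) (m M : ℤ)
    (hR : ∀ j c : ZMod p, j ≠ 0 → c ≠ 0 → m ≤ R e j c ∧ (R e j c : ℤ) ≤ M)
    (h1 : (e : ℤ) - t * m ≤ t - 1) (h2 : (t : ℤ) * M - e ≤ t - 1) : False := by
  have hM : M ≤ m + 1 := by nlinarith
  have h0 : ∑ j ∈ nz, ∑ c ∈ nz, ((R e (j : ZMod p) c : ℤ) - m) * ((R e j c : ℤ) - (m + 1)) = 0 := by
    refine Finset.sum_eq_zero fun j hj => Finset.sum_eq_zero fun c hc => ?_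
    obtain ⟨l, u⟩ := hR j c (mem_nz.1 hj) (mem_nz.1 hc)
    rcases (by omega : (R e j c : ℤ) = m ∨ (R e j c : ℤ) = m + 1) with r | r <;> rw [r] <;> ring
  have h3 : ∑ j ∈ nz, ∑ c ∈ nz, ((R e (j : ZMod p) c : ℤ) - m) * ((R e j c : ℤ) - (m + 1)) =
      (∑ j ∈ nz, ∑ c ∈ nz, (R e (j : ZMod p) c : ℤ) ^ 2) - (2 * m + 1) * (∑ j ∈ nz, ∑ c ∈ nz, (R e (j : ZMod p) c : ℤ)) +
        (t * e : ℤ) ^ 2 * (m * (m + 1)) := by
    have hc : ((nz (p := p)).card : ℤ) = t * e := by rw [card_nz hp]; push_cast; ring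
    simp only [Finset.mul_sum]
    rw [← hc, sq ((nz (p := p)).card : ℤ)]
    simp only [← Finset.sum_sub_distrib]
    rw [show ((nz (p := p)).card : ℤ) * (nz (p := p)).card * (m * (m + 1)) =
      ∑ _j ∈ nz (p := p), ∑ _c ∈ nz (p := p), m * (m + 1) by simp [Finset.sum_const]; ring]
    simp only [← Finset.sum_add_distrib]
    refine Finset.sum_congr rfl fun j _ => Finset.sum_congr rfl fun c _ => ?_
    ring
  rw [h0, total_R hp, total_sq hp] at h3
  have he' : (3 : ℤ) ≤ e := by exact_mod_cast he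
  have ht' : (3 : ℤ) ≤ t := by exact_mod_cast ht
  have key : m * ((t - 1) * (t - 2) : ℤ) + ((e : ℤ) - t * m - 1) * ((e : ℤ) - t * m - 2) = 0 := by
    have : (e : ℤ) ^ 2 * (m * ((t - 1) * (t - 2) : ℤ) + ((e : ℤ) - t * m - 1) * ((e : ℤ) - t * m - 2)) = 0 := by
      linear_combination -h3
    exact (mul_eq_zero.1 this).resolve_left (pow_ne_zero _ (by omega))
  have hm : 0 ≤ m := by nlinarith
  have hU : 0 ≤ ((e : ℤ) - t * m - 1) * ((e : ℤ) - t * m - 2) := by
    rcases (by omega : (e : ℤ) - t * m ≤ 1 ∨ 2 ≤ (e : ℤ) - t * m) with h | h <;> nlinarith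
  have hm0 : m = 0 := by
    by_contra h
    have : 0 < m * ((t - 1) * (t - 2) : ℤ) := mul_pos (by omega) (mul_pos (by omega) (by omega))
    omega
  subst hm0
  simp at key
  omega

theorem R_one_eq_N (hp : p = t * e + 1) {j : ZMod p} (hj : j ≠ 0) : R e j 1 = R e (-1) j := by
  refine Finset.card_bij (fun q _ => (q.2⁻¹, q.1 * q.2⁻¹)) (fun q hq => ?_) (fun a ha b hb eq => ?_) fun q hq => ?_
  · simp only [mem_filter, mem_product, mem_roots] at hq ⊢
    obtain ⟨⟨a, b⟩, eq⟩ := hq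
    have hb : q.2 ≠ 0 := roots_ne hp (mem_roots.2 b)
    refine ⟨⟨by rw [inv_pow, b, inv_one], by rw [mul_pow, inv_pow, a, b, inv_one, mul_one]⟩, ?_⟩
    field_simp
    linear_combination -eq
  · simp only [mem_filter, mem_product] at ha hb
    simp only [Prod.mk.injEq, inv_inj] at eq
    refine Prod.ext ?_ eq.1
    have hb2 := roots_ne hp hb.1.2
    have := eq.2
    rw [eq.1] at this
    exact mul_right_cancel₀ (inv_ne_zero hb2) this
  · simp only [mem_filter, mem_product, mem_roots] at hq ⊢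
    obtain ⟨⟨a, b⟩, eq⟩ := hq
    have ha : q.1 ≠ 0 := roots_ne hp (mem_roots.2 a)
    refine ⟨(q.2 / q.1, q.1⁻¹), ⟨⟨by rw [div_pow, a, b, div_one], by rw [inv_pow, a, inv_one]⟩, ?_⟩, ?_⟩
    · field_simp
      linear_combination -eq
    · rw [inv_inv, div_mul_cancel₀ _ ha]

/-- One bound from above. -/
theorem L2 (hp : p = t * e + 1) (he : 3 ≤ e) (ht : 3 ≤ t) (M : ℤ)
    (hR : ∀ j c : ZMod p, j ≠ 0 → c ≠ 0 → (R e j c : ℤ) ≤ M)
    (h2 : (t : ℤ) * M - e ≤ t - 2)
    (hA : Even e → ∃ a : ℤ, ∃ s : ℤ, (s = 1 ∨ s = -1) ∧ ∀ c : ZMod p, c ≠ 0 →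
      (R e 1 c : ℤ) + s * (if (c / 2) ^ e = 1 then 1 else 0) = a) : False := by
  have he' : (3 : ℤ) ≤ e := by exact_mod_cast he
  have ht' : (3 : ℤ) ≤ t := by exact_mod_cast ht
  have hM : 0 ≤ M := (Int.natCast_nonneg _).trans (hR 1 1 one_ne_zero one_ne_zero)
  have h0 : 0 ≤ ∑ j ∈ nz, ∑ c ∈ nz, (M * (R e (j : ZMod p) c : ℤ) - (R e j c : ℤ) ^ 2) :=
    Finset.sum_nonneg fun j hj => Finset.sum_nonneg fun c hc => by
      have := hR j c (mem_nz.1 hj) (mem_nz.1 hc)
      nlinarith [Int.natCast_nonneg (R e j c)]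
  simp only [Finset.sum_sub_distrib, ← Finset.mul_sum] at h0
  rw [total_R hp, total_sq hp] at h0
  have h0' : 0 ≤ M * ((t : ℤ) * e - 1) - (t * e + ((e : ℤ) - 1) ^ 2 - e) := by
    by_contra h
    push Not at h
    have := mul_neg_of_pos_of_neg (show (0 : ℤ) < (e : ℤ) ^ 2 by positivity) h
    linarith [this, h0]
  have hV : (t : ℤ) * M - e = t - 2 := by
    by_contra h
    have h3 : (t : ℤ) * M - e - t + 3 ≤ 0 := by omega
    nlinarith [mul_nonpos_of_nonneg_of_nonpos (show (0 : ℤ) ≤ e by omega) h3]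
  have hM2 : 2 ≤ M := by nlinarith
  -- parity
  have hp2 : p ≠ 2 := by
    have : 9 ≤ t * e := by nlinarith
    omega
  have heven : Even e := by
    by_contra hodd
    obtain ⟨k, hk⟩ := Nat.not_even_iff_odd.1 hodd
    have ht2 : Even t := by
      have hpo := (Fact.out : p.Prime).odd_of_ne_two hp2
      rw [hp, Nat.odd_add_one, Nat.not_odd_iff_even, Nat.even_mul] at hpo
      exact hpo.resolve_right hodd
    obtain ⟨l, hl⟩ := ht2
    subst hk hl
    push_cast at hV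
    have : (2 : ℤ) ∣ 1 := ⟨(l : ℤ) * M - l - k + 1, by linarith⟩
    omega
  obtain ⟨a, s, hs, hN⟩ := hA heven
  have h2z : (2 : ZMod p) ≠ 0 := by
    intro h
    have h' : ((2 : ℕ) : ZMod p) = 0 := by exact_mod_cast h
    rw [ZMod.natCast_eq_zero_iff] at h'
    exact hp2 (((Nat.prime_two.eq_one_or_self_of_dvd p h').resolve_left (Fact.out : p.Prime).one_lt.ne'))
  have hneg : (-1 : ZMod p) ∈ roots e := mem_roots.2 heven.neg_one_pow
  -- N = R 1
  have hR1 : ∀ c : ZMod p, R e (-1) c = R e 1 c := fun c => by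
    refine Finset.card_bij (fun q _ => (q.1, -q.2)) (fun q hq => ?_) (fun a _ b _ eq => ?_) fun q hq => ?_
    · simp only [mem_filter, mem_product, mem_roots] at hq ⊢
      exact ⟨⟨hq.1.1, by rw [neg_pow, heven.neg_one_pow, one_mul, hq.1.2]⟩, by linear_combination hq.2⟩
    · simp only [Prod.mk.injEq, neg_inj] at eq
      exact Prod.ext eq.1 eq.2
    · simp only [mem_filter, mem_product, mem_roots] at hq ⊢
      exact ⟨(q.1, -q.2), ⟨⟨hq.1.1, by rw [neg_pow, heven.neg_one_pow, one_mul, hq.1.2]⟩,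
        by linear_combination hq.2⟩, by rw [neg_neg]⟩
  set D := nz.filter fun c : ZMod p => (c / 2) ^ e = 1 with hD
  have hDc : D.card = e := by
    refine (Finset.card_bij (fun c _ => c / 2) (fun c hc => mem_roots.2 (mem_filter.1 hc).2)
      (fun a _ b _ eq => (div_left_inj' h2z).1 eq) fun h hh => ⟨h * 2, mem_filter.2
      ⟨mem_nz.2 (mul_ne_zero (roots_ne hp hh) h2z), by rw [mul_div_cancel_right₀ _ h2z]; exact mem_roots.1 hh⟩,
        mul_div_cancel_right₀ _ h2z⟩).trans (card_roots hp)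
  have hsum : (t : ℤ) * e * a - s * e = (e : ℤ) ^ 2 - e := by
    rw [← sum_N hp]
    have : ∀ c ∈ nz (p := p), (R e (-1) c : ℤ) = a - s * (if (c / 2) ^ e = 1 then 1 else 0) := fun c hc => by
      rw [hR1, ← hN c (mem_nz.1 hc)]; ring
    rw [Finset.sum_congr rfl this, Finset.sum_sub_distrib, ← Finset.mul_sum, Finset.sum_boole, ← hD, hDc,
      Finset.sum_const, card_nz hp]
    simp only [nsmul_eq_mul, Nat.cast_mul]
  have hsum' : (t : ℤ) * a - s = e - 1 := by
    refine mul_left_cancel₀ (show (e : ℤ) ≠ 0 by omega) ?_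
    linear_combination hsum
  have hs1 : s = -1 ∧ a = M - 1 := by
    rcases hs with rfl | rfl
    · exfalso
      rcases (by omega : a - (M - 1) ≤ 0 ∨ 1 ≤ a - (M - 1)) with h | h <;> nlinarith
    · refine ⟨rfl, ?_⟩
      have : (t : ℤ) * (a - (M - 1)) = 0 := by linarith
      rcases mul_eq_zero.1 this with h | h <;> omega
  obtain ⟨rfl, rfl⟩ := hs1
  have hNv : ∀ c : ZMod p, c ≠ 0 → (R e (-1) c : ℤ) = (M - 1) + if (c / 2) ^ e = 1 then 1 else 0 := fun c hc => by
    rw [hR1, ← hN c hc]; ring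
  -- a third class
  obtain ⟨j, hj, hjH, hjD⟩ : ∃ j : ZMod p, j ≠ 0 ∧ j ∉ roots e ∧ (j / 2) ^ e ≠ 1 := by
    by_contra hall
    push Not at hall
    have hsub : nz ⊆ roots e ∪ D := fun j hj => by
      by_cases h : j ∈ roots e
      · exact mem_union_left _ h
      · exact mem_union_right _ (mem_filter.2 ⟨hj, hall j (mem_nz.1 hj) h⟩)
    have := (card_le_card hsub).trans (card_union_le _ _)
    rw [card_nz hp, card_roots hp, hDc] at this
    nlinarith
  have hnj : -j ∉ roots e := fun h => hjH (by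
    rw [mem_roots] at h ⊢
    rwa [neg_pow, heven.neg_one_pow, one_mul] at h)
  have hR0 : R e j 0 = 0 := by rw [R_zero hp hj, if_neg hnj]
  have hrow : ∑ c ∈ nz, (R e j c : ℤ) = (e : ℤ) ^ 2 := by
    rw [sum_nz, sum_R hp, hR0]; simp
  have hprod : ∑ c ∈ nz, (R e (-1) c : ℤ) * R e (-1) (c / j) =
      (t : ℤ) * e * (M - 1) ^ 2 + 2 * e * (M - 1) := by
    have hpt : ∀ c ∈ nz (p := p), (R e (-1) c : ℤ) * R e (-1) (c / j) = (M - 1) ^ 2 +
        ((M - 1) * (if (c / 2) ^ e = 1 then 1 else 0) + (M - 1) * (if (c / j / 2) ^ e = 1 then 1 else 0)) :=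
      fun c hc => by
        have hc' := mem_nz.1 hc
        rw [hNv c hc', hNv _ (div_ne_zero hc' hj)]
        have hex : ¬ ((c / 2) ^ e = 1 ∧ (c / j / 2) ^ e = 1) := by
          rintro ⟨u, v⟩
          apply hjH
          rw [mem_roots]
          have : (c / 2) ^ e = (c / j / 2) ^ e * j ^ e := by
            rw [← mul_pow]; congr 1; field_simp
          rw [u, v, one_mul] at this
          exact this.symm
        split_ifs with u v v
        · exact absurd ⟨u, v⟩ hex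
        all_goals ring
    have hDj : (nz.filter fun c : ZMod p => (c / j / 2) ^ e = 1).card = e := by
      refine (Finset.card_bij (fun c _ => c / j) (fun c hc => mem_filter.2
        ⟨mem_nz.2 (div_ne_zero (mem_nz.1 (mem_filter.1 hc).1) hj), (mem_filter.1 hc).2⟩)
        (fun a _ b _ eq => (div_left_inj' hj).1 eq) fun d hd => ⟨d * j, mem_filter.2
          ⟨mem_nz.2 (mul_ne_zero (mem_nz.1 (mem_filter.1 hd).1) hj),
            by rw [mul_div_cancel_right₀ _ hj]; exact (mem_filter.1 hd).2⟩, mul_div_cancel_right₀ _ hj⟩).trans hDc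
    rw [Finset.sum_congr rfl hpt, Finset.sum_add_distrib, Finset.sum_add_distrib, ← Finset.mul_sum,
      ← Finset.mul_sum, Finset.sum_boole, Finset.sum_boole, ← hD, hDc, hDj, Finset.sum_const, card_nz hp]
    simp only [nsmul_eq_mul, Nat.cast_mul]
    ring
  have hzero : ∑ c ∈ nz, (M * (R e j c : ℤ) - (R e j c : ℤ) ^ 2) = 0 := by
    rw [Finset.sum_sub_distrib, ← Finset.mul_sum, hrow]
    have hm := moment hp hj (e := e)
    rw [hR0, hprod] at hm
    simp only [Nat.cast_zero, ne_eq, OfNat.ofNat_ne_zero, not_false_eq_true, zero_pow, add_zero] at hm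
    rw [hm]
    linear_combination (-(e : ℤ) * (M - 1)) * hV
  have h1 := (Finset.sum_eq_zero_iff_of_nonneg (fun c hc => by
    have := hR j c hj (mem_nz.1 hc)
    nlinarith [Int.natCast_nonneg (R e j c)])).1 hzero 1 (mem_nz.2 one_ne_zero)
  rw [R_one_eq_N hp hj, hNv j hj, if_neg hjD] at h1
  nlinarith

end Cfsg.Agent.Feit
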