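import Cfsg.Agent.Lib.Feit.Half
import Mathlib.RepresentationTheory.Character
import Mathlib.LinearAlgebra.Matrix.Rank
import Mathlib.LinearAlgebra.Trace
import Mathlib.NumberTheory.LegendreSymbol.AddCharacter
import Mathlib.Data.ZMod.Units

/-!
Projections of a matrix of finite order and eigenvalue multiplicities, and the excluded orders of a
group whose character is fixed by many powers.
-/

set_option autoImplicit false
set_option linter.unusedSectionVars false

namespace Cfsg.Agent.Feit.CMult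

open Finset Module
open scoped Classical Matrix

universe u

section Proj

variable {R : Type*} [CommRing R] {n : ℕ} [NeZero n]

/-- An additive character with the orthogonality relations and the inverse of `n`. -/
structure Orth (ψ : AddChar (ZMod n) R) (c : R) : Prop where
  inv : c * n = 1
  zero : ∀ b : ZMod n, b ≠ 0 → ∑ i, ψ (b * i) = 0

theorem Orth.map {S : Type*} [CommRing S] {ψ : AddChar (ZMod n) R} {c : R} (h : Orth ψ c) (f : R →+* S) :
    Orth (f.toMonoidHom.compAddChar ψ) (f c) where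
  inv := by rw [← map_natCast f, ← map_mul, h.inv, map_one]
  zero b hb := by
    have := congrArg f (h.zero b hb)
    rw [map_sum, map_zero] at this
    simpa using this

variable {ι : Type*} [Fintype ι] [DecidableEq ι]

/-- The projection to an eigenspace of a matrix of order dividing `n`. -/
noncomputable def proj (ψ : AddChar (ZMod n) R) (c : R) (Y : Matrix ι ι R) (b : ZMod n) : Matrix ι ι R :=
  c • ∑ i : ZMod n, ψ (-(i * b)) • Y ^ i.val

theorem proj_map {S : Type*} [CommRing S] (f : R →+* S) (ψ : AddChar (ZMod n) R) (c : R) (Y : Matrix ι ι R)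
    (b : ZMod n) :
    (proj ψ c Y b).map f = proj (f.toMonoidHom.compAddChar ψ) (f c) (Y.map f) b := by
  have h : ∀ i : ℕ, f.mapMatrix (Y ^ i) = f.mapMatrix Y ^ i := fun i => map_pow _ _ _
  simp only [RingHom.mapMatrix_apply] at h
  ext a a'
  simp [proj, Matrix.sum_apply, ← h]

variable {ψ : AddChar (ZMod n) R} {c : R} (h : Orth ψ c) {Y : Matrix ι ι R} (hY : Y ^ n = 1)

include h

theorem card_smul (M : Matrix ι ι R) : c • ((n : ℕ) • M) = M := by
  rw [← Nat.cast_smul_eq_nsmul R, smul_smul, h.inv, one_smul]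

theorem sum_proj : ∑ b, proj ψ c Y b = 1 := by
  simp only [proj]
  rw [← Finset.smul_sum, Finset.sum_comm, Finset.sum_eq_single 0]
  · simp only [zero_mul, neg_zero, AddChar.map_zero_eq_one, one_smul, ZMod.val_zero, pow_zero,
      Finset.sum_const, Finset.card_univ, ZMod.card]
    exact card_smul h 1
  · intro i _ hi
    rw [← Finset.sum_smul]
    simp only [← neg_mul]
    rw [h.zero _ (neg_ne_zero.2 hi), zero_smul]
  · exact fun hh => absurd (Finset.mem_univ _) hh

include hY

omit h in
theorem pow_proj (b j : ZMod n) : Y ^ j.val * proj ψ c Y b = ψ (j * b) • proj ψ c Y b := by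
  have hYadd : ∀ i j : ZMod n, Y ^ i.val * Y ^ j.val = Y ^ (i + j).val := fun i j => by
    rw [← pow_add, ZMod.val_add, ← pow_eq_pow_mod _ hY]
  simp only [proj, mul_smul_comm, Finset.mul_sum, hYadd, Finset.smul_sum, smul_smul]
  refine Fintype.sum_equiv (Equiv.addLeft j) _ _ fun i => ?_
  rw [Equiv.coe_addLeft]
  congr 1
  rw [show -(i * b) = j * b + -((j + i) * b) by ring, AddChar.map_add_eq_mul]
  ring

omit h in
theorem self_proj (b : ZMod n) : Y * proj ψ c Y b = ψ b • proj ψ c Y b := by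
  rcases eq_or_ne n 1 with h1 | h1
  · subst h1
    rw [pow_one] at hY
    rw [hY, one_mul, show b = 0 from Subsingleton.elim _ _, AddChar.map_zero_eq_one, one_smul]
  · haveI : Fact (1 < n) := ⟨by have := NeZero.ne n; omega⟩
    have h2 := pow_proj (ψ := ψ) (c := c) hY b 1
    rwa [ZMod.val_one, pow_one, one_mul] at h2

theorem proj_idem (b : ZMod n) : proj ψ c Y b * proj ψ c Y b = proj ψ c Y b := by
  conv_lhs => arg 1; rw [proj]
  rw [smul_mul_assoc, Finset.sum_mul, Finset.sum_congr rfl (g := fun _ => proj ψ c Y b) fun i _ => ?_]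
  · rw [Finset.sum_const, Finset.card_univ, ZMod.card]
    exact card_smul h _
  · rw [smul_mul_assoc, pow_proj hY, smul_smul, ← AddChar.map_add_eq_mul, neg_add_cancel,
      AddChar.map_zero_eq_one, one_smul]

theorem pow_eq_sum (i : ZMod n) : Y ^ i.val = ∑ b, ψ (i * b) • proj ψ c Y b := by
  rw [← mul_one (Y ^ i.val), ← sum_proj h (Y := Y), Finset.mul_sum]
  exact Finset.sum_congr rfl fun b _ => pow_proj hY b i

omit hY in
theorem proj_mulVec_of_eigen {b : ZMod n} {v : ι → R} (hv : Y *ᵥ v = ψ b • v) :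
    proj ψ c Y b *ᵥ v = v := by
  have hp : ∀ i : ℕ, (Y ^ i) *ᵥ v = ψ (i • b) • v := fun i => by
    induction i with
    | zero => simp
    | succ i ih =>
      rw [pow_succ, ← Matrix.mulVec_mulVec, hv, Matrix.mulVec_smul, ih, smul_smul, succ_nsmul',
        AddChar.map_add_eq_mul]
  rw [proj, Matrix.smul_mulVec, Matrix.sum_mulVec, Finset.sum_congr rfl (g := fun _ => v) fun i _ => ?_]
  · rw [Finset.sum_const, Finset.card_univ, ZMod.card, ← Nat.cast_smul_eq_nsmul R, smul_smul, h.inv, one_smul]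
  · rw [Matrix.smul_mulVec, hp, smul_smul, nsmul_eq_mul, ZMod.natCast_zmod_val, ← AddChar.map_add_eq_mul,
      neg_add_cancel, AddChar.map_zero_eq_one, one_smul]

end Proj

theorem orth_std (n : ℕ) [NeZero n] : Orth (ZMod.stdAddChar (N := n)) (n : ℂ)⁻¹ where
  inv := inv_mul_cancel₀ (Nat.cast_ne_zero.2 (NeZero.ne n))
  zero b hb := by
    have h := AddChar.sum_mulShift b (ZMod.isPrimitive_stdAddChar n)
    simp only [mul_comm b]
    simpa [hb] using h

theorem trace_eq_rank {d : ℕ} {M : Matrix (Fin d) (Fin d) ℂ} (h : M * M = M) :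
    M.trace = (M.rank : ℂ) := by
  have hl : IsIdempotentElem (Matrix.toLin' M) := by
    show _ * _ = _
    rw [Module.End.mul_eq_comp, ← Matrix.toLin'_mul, h]
  have h1 := (LinearMap.IsIdempotentElem.isProj_range _ hl).trace
  rw [Matrix.trace_toLin'_eq] at h1
  rw [Matrix.rank, ← Matrix.toLin'_apply', ← h1]

variable {L : Type u} [Group L] {d : ℕ} (ρ : Representation ℂ L (Fin d → ℂ))

theorem trace_pow (g : L) (i : ℕ) :
    ((LinearMap.toMatrixAlgEquiv' (ρ g)) ^ i).trace = ρ.character (g ^ i) := by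
  rw [← map_pow, ← map_pow]
  exact (LinearMap.trace_eq_matrix_trace ℂ (Pi.basisFun ℂ (Fin d)) (ρ (g ^ i))).symm

variable (n : ℕ) [NeZero n]

/-- The multiplicity of an eigenvalue of an element of order dividing `n`. -/
noncomputable def mult (g : L) (j : ZMod n) : ℕ :=
  (proj ZMod.stdAddChar (n : ℂ)⁻¹ (LinearMap.toMatrixAlgEquiv' (ρ g)) j).rank

variable {n} {g : L} (hg : g ^ n = 1)

include hg

theorem toMatrix_pow_eq_one : (LinearMap.toMatrixAlgEquiv' (ρ g)) ^ n = 1 := by
  rw [← map_pow, ← map_pow, hg, map_one, map_one]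

theorem mult_eq (j : ZMod n) : (mult ρ n g j : ℂ) =
    (n : ℂ)⁻¹ * ∑ i : ZMod n, ZMod.stdAddChar (-(i * j)) * ρ.character (g ^ i.val) := by
  rw [mult, ← trace_eq_rank (proj_idem (orth_std n) (toMatrix_pow_eq_one ρ hg) j)]
  simp [proj, Matrix.trace_sum, trace_pow]

theorem char_pow (i : ℕ) :
    ρ.character (g ^ i) = ∑ j, (mult ρ n g j : ℂ) * ZMod.stdAddChar ((i : ZMod n) * j) := by
  have h := congrArg Matrix.trace (pow_eq_sum (orth_std n) (toMatrix_pow_eq_one ρ hg) (i : ZMod n))
  rw [trace_pow, Matrix.trace_sum, ZMod.val_natCast, ← pow_eq_pow_mod _ hg] at h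
  rw [h]
  refine Finset.sum_congr rfl fun j _ => ?_
  rw [Matrix.trace_smul, trace_eq_rank (proj_idem (orth_std n) (toMatrix_pow_eq_one ρ hg) j), smul_eq_mul,
    mul_comm, mult]

theorem sum_mult : ∑ j, mult ρ n g j = d := by
  have h := char_pow ρ hg 0
  rw [pow_zero, Representation.char_one, Module.finrank_fin_fun] at h
  simp only [Nat.cast_zero, zero_mul, AddChar.map_zero_eq_one, mul_one] at h
  exact_mod_cast h.symm

theorem one_le_mult {j : ZMod n} {v : Fin d → ℂ} (hv0 : v ≠ 0) (hv : ρ g v = ZMod.stdAddChar j • v) :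
    1 ≤ mult ρ n g j := by
  by_contra hlt
  set M := proj ZMod.stdAddChar (n : ℂ)⁻¹ (LinearMap.toMatrixAlgEquiv' (ρ g)) j with hM
  have h0 : M.rank = 0 := by rw [mult, ← hM] at hlt; omega
  rw [Matrix.rank, Submodule.finrank_eq_zero, LinearMap.range_eq_bot] at h0
  have h1 := proj_mulVec_of_eigen (orth_std n) (Y := LinearMap.toMatrixAlgEquiv' (ρ g)) (b := j) (v := v) (by
    rw [← Matrix.toLinAlgEquiv'_apply, Matrix.toLinAlgEquiv'_toMatrixAlgEquiv']; exact hv)
  rw [← hM, ← Matrix.mulVecLin_apply, h0] at h1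
  exact hv0 h1.symm

theorem rho_pow_eq_one {i : ℕ} (h : ∀ j, mult ρ n g j ≠ 0 → (i : ZMod n) * j = 0) :
    ρ (g ^ i) = 1 := by
  apply LinearMap.toMatrixAlgEquiv'.injective
  rw [map_one, show g ^ i = g ^ (i : ZMod n).val by rw [ZMod.val_natCast, ← pow_eq_pow_mod _ hg], map_pow,
    map_pow, pow_eq_sum (orth_std n) (toMatrix_pow_eq_one ρ hg)]
  refine (Finset.sum_congr rfl fun j _ => ?_).trans
    (sum_proj (Y := LinearMap.toMatrixAlgEquiv' (ρ g)) (orth_std n))
  by_cases hj : mult ρ n g j = 0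
  · rw [mult, Matrix.rank, Submodule.finrank_eq_zero, LinearMap.range_eq_bot] at hj
    have : proj ZMod.stdAddChar (n : ℂ)⁻¹ (LinearMap.toMatrixAlgEquiv' (ρ g)) j = 0 := by
      apply Matrix.toLin'.injective
      rw [map_zero, Matrix.toLin'_apply', hj]
    rw [this, smul_zero]
  · rw [h j hj, AddChar.map_zero_eq_one, one_smul]

theorem mult_unit (v : (ZMod n)ˣ) (h : ∀ i : ZMod n, ρ.character (g ^ ((v : ZMod n) * i).val) = ρ.character (g ^ i.val))
    (j : ZMod n) : mult ρ n g ((v : ZMod n) * j) = mult ρ n g j := by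
  have e : (mult ρ n g ((v : ZMod n) * j) : ℂ) = mult ρ n g j := by
    rw [mult_eq ρ hg, mult_eq ρ hg]
    congr 1
    refine Fintype.sum_equiv v.mulLeft _ _ fun i => ?_
    simp only [Units.mulLeft_apply]
    rw [h]
    congr 2
    ring
  exact_mod_cast e

end Cfsg.Agent.Feit.CMult
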