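import Cfsg.Agent.Lib.SmallDim.Adj

/-!
The boundary degree `(p + 1) / 2`, local ingredients: a map onto one block of a nilpotent operator, equivariant
for a group scaling it, the trace number of the block of size five, free orbit sums, a dimension bound.
-/

set_option autoImplicit false
set_option linter.unusedSectionVars false
set_option linter.style.haveILetI false

namespace Cfsg.Agent.Feit.Edge

open Finset Module

section Block

variable {k : Type*} [Field k] {M : Type*} [AddCommGroup M] [Module k M]
variable (B : M →ₗ[k] M →ₗ[k] k) (E : Module.End k M) (w : M) (m : ℕ)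

/-- The map onto the block generated by `w`. -/
def blockMap : Module.End k M :=
  ∑ i ∈ range (2 * m + 1), ((B w).comp (E ^ i)).smulRight ((E ^ (2 * m - i)) w)

theorem blockMap_apply (f : M) :
    blockMap B E w m f = ∑ i ∈ range (2 * m + 1), B w ((E ^ i) f) • (E ^ (2 * m - i)) w := by
  simp [blockMap, LinearMap.sum_apply]

variable {B E w m}

theorem blockMap_top (hw : (E ^ (2 * m + 1)) w = 0) (f : M) :
    (E ^ (2 * m + 1)) (blockMap B E w m f) = 0 := by
  rw [blockMap_apply, map_sum]
  refine sum_eq_zero fun i _ => ?_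
  rw [map_smul, ← Module.End.mul_apply, ← pow_add, add_comm, pow_add, Module.End.mul_apply, hw, map_zero,
    smul_zero]

theorem blockMap_fix {v : M} (hv : E v = 0) :
    blockMap B E w m v = B w v • (E ^ (2 * m)) w := by
  rw [blockMap_apply, sum_eq_single 0]
  · simp
  · intro i _ hi
    obtain ⟨j, rfl⟩ := Nat.exists_eq_succ_of_ne_zero hi
    rw [pow_succ, Module.End.mul_apply, hv, map_zero, map_zero, zero_smul]
  · intro h; simp at h

theorem blockMap_comm (hskew : ∀ x z, B (E x) z = - B x (E z)) (hw : (E ^ (2 * m + 1)) w = 0) :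
    Commute (blockMap B E w m) E := by
  have hskew' : ∀ i x z, B ((E ^ i) x) z = (-1 : k) ^ i * B x ((E ^ i) z) := by
    intro i
    induction i with
    | zero => simp
    | succ i ih =>
      intro x z
      rw [pow_succ' E, Module.End.mul_apply, hskew, ih, ← Module.End.mul_apply, ← pow_succ, pow_succ' E,
        pow_succ]
      ring
  refine LinearMap.ext fun f => ?_
  rw [Module.End.mul_apply, Module.End.mul_apply, blockMap_apply, blockMap_apply, map_sum,
    sum_range_succ, sum_range_succ' (fun i => E (B w ((E ^ i) f) • (E ^ (2 * m - i)) w))]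
  have h1 : B w ((E ^ (2 * m)) (E f)) = 0 := by
    have h := hskew' (2 * m + 1) w f
    rw [hw, map_zero, LinearMap.zero_apply, eq_comm, mul_eq_zero] at h
    rw [← Module.End.mul_apply, ← pow_succ]
    exact h.resolve_left (pow_ne_zero _ (neg_ne_zero.2 one_ne_zero))
  rw [h1, zero_smul, add_zero]
  simp only [pow_zero, Module.End.one_apply, Nat.sub_zero, map_smul]
  rw [← Module.End.mul_apply, ← pow_succ', hw, smul_zero, add_zero]
  refine sum_congr rfl fun i hi => ?_
  rw [← Module.End.mul_apply (E ^ i), ← pow_succ, ← Module.End.mul_apply E, ← pow_succ',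
    show 2 * m - (i + 1) + 1 = 2 * m - i by have := mem_range.1 hi; omega]

theorem blockMap_scale (σ : Module.End k M) {a : k} (ha : a ≠ 0)
    (hσB : ∀ x z, B (σ x) (σ z) = B x z) (hσE : ∀ x, σ (E x) = a • E (σ x))
    (hσw : σ w = (a ^ m)⁻¹ • w) : Commute (blockMap B E w m) σ := by
  have hpow : ∀ i x, σ ((E ^ i) x) = a ^ i • (E ^ i) (σ x) := by
    intro i
    induction i with
    | zero => simp
    | succ i ih =>
      intro x
      rw [pow_succ' E, Module.End.mul_apply, Module.End.mul_apply, hσE, ih, map_smul, smul_smul, pow_succ']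
  have hB : ∀ f, B w (σ f) = a ^ m * B w f := fun f => by
    have h := hσB w f
    rw [hσw, map_smul, LinearMap.smul_apply, smul_eq_mul] at h
    rw [← h, ← mul_assoc, mul_inv_cancel₀ (pow_ne_zero _ ha), one_mul]
  refine LinearMap.ext fun f => ?_
  rw [Module.End.mul_apply, Module.End.mul_apply, blockMap_apply, blockMap_apply, map_sum]
  refine sum_congr rfl fun i hi => ?_
  have hi' : i ≤ 2 * m := by have := mem_range.1 hi; omega
  have e1 : (E ^ i) (σ f) = (a ^ i)⁻¹ • σ ((E ^ i) f) := by
    rw [hpow, smul_smul, inv_mul_cancel₀ (pow_ne_zero _ ha), one_smul]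
  rw [map_smul, hpow, hσw, map_smul, e1, map_smul, hB, smul_smul, smul_smul]
  congr 1
  have e2 : a ^ (2 * m - i) * a ^ i = a ^ m * a ^ m := by
    rw [← pow_add, ← pow_add]; congr 1; omega
  have h1 := pow_ne_zero i ha
  have h2 := pow_ne_zero m ha
  rw [smul_eq_mul]
  field_simp
  linear_combination -(B w ((E ^ i) f)) * e2

/-- A weight different from the one of the block is orthogonal to it. -/
theorem orth_of_weight (σ : Module.End k M) {a : k} (ha : a ≠ 0) (hσB : ∀ x z, B (σ x) (σ z) = B x z)
    (hσw : σ w = (a ^ m)⁻¹ • w) {v : M} {j : ℕ} (hv : σ v = a ^ j • v) (hne : a ^ j ≠ a ^ m) :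
    B w v = 0 := by
  have h := hσB w v
  rw [hσw, hv, map_smul, map_smul, LinearMap.smul_apply, smul_eq_mul, smul_eq_mul] at h
  by_contra h0
  refine hne ?_
  have h' : (a ^ m)⁻¹ * a ^ j = 1 := mul_right_cancel₀ h0 (by rw [one_mul]; linear_combination h)
  rw [inv_mul_eq_iff_eq_mul₀ (pow_ne_zero _ ha), mul_one] at h'
  exact h'

/-- A nilpotent map with a line as kernel. -/
theorem finrank_le_of_ker [FiniteDimensional k M] {D : Module.End k M} {h : ℕ} (hD : D ^ h = 0)
    (h1 : finrank k (LinearMap.ker D) ≤ 1) : finrank k M ≤ h := by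
  have key : ∀ i, finrank k (LinearMap.ker (D ^ i)) ≤ i := by
    intro i
    induction i with
    | zero =>
      rw [pow_zero, Module.End.one_eq_id, LinearMap.ker_id, finrank_bot]
    | succ i ih =>
      let φ : LinearMap.ker (D ^ (i + 1)) →ₗ[k] LinearMap.ker (D ^ i) :=
        (D.comp (LinearMap.ker (D ^ (i + 1))).subtype).codRestrict _ fun x => by
          rw [LinearMap.mem_ker, LinearMap.comp_apply, ← Module.End.mul_apply, ← pow_succ]
          exact x.2
      let ψ : LinearMap.ker φ →ₗ[k] LinearMap.ker D :=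
        ((LinearMap.ker (D ^ (i + 1))).subtype.comp (LinearMap.ker φ).subtype).codRestrict _ fun x =>
          congrArg Subtype.val x.2
      have hψ : Function.Injective ψ := fun a b e => Subtype.ext (Subtype.ext (congrArg Subtype.val e :))
      have e := φ.finrank_range_add_finrank_ker
      have r := (LinearMap.range φ).finrank_le
      have q := LinearMap.finrank_le_finrank_of_injective hψ
      omega
  have := key h
  rwa [hD, LinearMap.ker_zero, finrank_top] at this

end Block

section FiveSum

open SmallDim SmallDim.Frame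

variable {k : Type*} [Field k] {U : Type*} [AddCommGroup U] [Module k U] [FiniteDimensional k U]
variable {X Q : Module.End k U} {n : ℕ}

theorem five_sum (a : ℤ) (m : ℕ) :
    30 * ∑ i ∈ range m, (((i : ℤ) + 1) * (i + 2) * ((a - (i + 3)) * (a - (i + 3) - 1))) =
      10 * a * (a - 1) * (m * (m + 1) * (m + 2)) - 15 * a * (m * (m + 1) * (m + 2) * (m + 3)) +
        6 * (m * (m + 1) * (m + 2) * (m + 3) * (m + 4)) := by
  induction m with
  | zero => simp
  | succ m ih =>
    rw [sum_range_succ, mul_add, ih]
    push_cast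
    ring

theorem trace_sq (F : Frame X Q n) {p : ℕ} [hp : Fact p.Prime] [CharP k p] (hn : n + 4 < p) (hn1 : 1 ≤ n)
    (ht : LinearMap.trace k U (Q * X ^ (n + 1)) ≠ 0) :
    LinearMap.trace k U (bY X Q n * bY X Q n * (bX X Q n * bX X Q n)) ≠ 0 := by
  set h : ℕ → k := fun i => ((i : k) + 1) * (n + 1 - i) with hh
  have eX : bX X Q n * bX X Q n = ∑ i ∈ range n, eU X Q n (i + 2) i := by
    have hrow : ∀ i ∈ range n, ∑ j ∈ range (n + 1), eU X Q n (i + 1 + 1) (i + 1) * eU X Q n (j + 1) j =
        eU X Q n (i + 2) i := by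
      intro i hi
      rw [sum_eq_single i (fun j _ hj => by
        rw [F.eU_mul (by have := mem_range.1 hi; omega), if_neg (by omega)])
        (fun h => absurd (mem_range.2 (by have := mem_range.1 hi; omega)) h),
        F.eU_mul (by have := mem_range.1 hi; omega), if_pos rfl]
    rw [bX, sum_mul_sum, sum_range_succ' (fun i => ∑ j ∈ range (n + 1), eU X Q n (i + 1) i * eU X Q n (j + 1) j),
      sum_eq_zero (s := range (n + 1)) fun j _ => by rw [F.eU_mul (Nat.zero_le _), if_neg (by omega)], add_zero]
    exact sum_congr rfl hrow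
  have eY : bY X Q n * bY X Q n = ∑ i ∈ range n, (h i * h (i + 1)) • eU X Q n i (i + 2) := by
    rw [bY, sum_mul_sum, sum_range_succ, sum_eq_zero (s := range (n + 1)) fun j hj => by
      rw [smul_mul_smul_comm, F.eU_mul le_rfl, if_neg (by have := mem_range.1 hj; omega), smul_zero], add_zero]
    refine sum_congr rfl fun i hi => ?_
    rw [sum_eq_single (i + 1) (fun j _ hj => by
      rw [smul_mul_smul_comm, F.eU_mul (by have := mem_range.1 hi; omega), if_neg (by omega), smul_zero])
      (fun h => absurd (mem_range.2 (by have := mem_range.1 hi; omega)) h),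
      smul_mul_smul_comm, F.eU_mul (by have := mem_range.1 hi; omega), if_pos rfl]
  have e : bY X Q n * bY X Q n * (bX X Q n * bX X Q n) = ∑ i ∈ range n, (h i * h (i + 1)) • eU X Q n i i := by
    rw [eX, eY, sum_mul_sum]
    refine sum_congr rfl fun i hi => ?_
    rw [sum_eq_single i (fun j _ hj => by
      rw [smul_mul_assoc, F.eU_mul (by have := mem_range.1 hi; omega), if_neg (by omega), smul_zero])
      (fun h => absurd hi h), smul_mul_assoc, F.eU_mul (by have := mem_range.1 hi; omega), if_pos rfl]
  rw [e, map_sum, sum_congr rfl fun i hi => by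
    rw [map_smul, trace_eU i (by have := mem_range.1 hi; omega), smul_eq_mul], ← sum_mul]
  refine mul_ne_zero (fun h0 => ?_) ht
  have hc : ((∑ i ∈ range n, (((i : ℤ) + 1) * (i + 2) * (((n : ℤ) + 4 - (i + 3)) * ((n : ℤ) + 4 - (i + 3) - 1))) : ℤ) : k) = 0 := by
    rw [← h0]
    push_cast
    refine sum_congr rfl fun i _ => ?_
    simp only [hh]
    push_cast
    ring
  have h30 := congrArg (Int.cast (R := k)) (five_sum ((n : ℤ) + 4) n)
  rw [Int.cast_mul, hc, mul_zero] at h30
  have hval : ((n * (n + 1) * (n + 2) * (n + 3) * (n + 4) : ℕ) : k) = 0 := by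
    rw [h30]
    push_cast
    ring
  rw [CharP.cast_eq_zero_iff k p] at hval
  simp only [hp.out.dvd_mul] at hval
  rcases hval with (((h | h) | h) | h) | h <;> (have := Nat.le_of_dvd (by omega) h; omega)

end FiveSum

end Cfsg.Agent.Feit.Edge
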