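import Cfsg.Agent.Lib.Feit.Basic
import Cfsg.Agent.Lib.SmallDeg16.Local

/-!
A faithful irreducible character of degree `d < p - 1` of a core: either `2 d + 1 = p`, or it is
exceptional of degree `p - e` for a linear character of the centre, and its restriction to `P` is
the regular character less one orbit.
-/

set_option autoImplicit false
set_option linter.unusedSectionVars false
set_option linter.style.haveILetI false

namespace Cfsg.Agent.Feit

open Cfsg Cfsg.Agent.Char Cfsg.Agent.Blocks Cfsg.Agent.CCSylow Cfsg.Agent.DefOne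
open Cfsg.Agent.DegreePTwo
open Cfsg.Agent.SmallDeg16 (mult Cen Coord HasMult Fam exists_coord lam_bijective)
open scoped ComplexConjugate

universe u

/-- The regular character less the orbit of `j`. -/
def aJ (p e : ℕ) (j i : ZMod p) : ℤ := if (i * j⁻¹) ^ e = 1 then 0 else 1

variable {G : Type u} [Group G] [Fintype G] {p : ℕ}

/-- The Sylow subgroup of a core is not normal. -/
theorem sylow_not_normal (hcore : Core p G) {P : Subgroup G} (hP : Nat.card P = p) : ¬ P.Normal := by
  haveI := Fact.mk hcore.prime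
  intro hn
  have hne : P ≠ ⊤ := fun h => by
    haveI : IsCyclic G := isCyclic_of_prime_card (p := p) (by rw [← Subgroup.card_top, ← h, hP])
    have hb : commutator G = ⊥ := by
      rw [commutator_def, eq_bot_iff, Subgroup.commutator_le]
      intro a _ b _
      rw [Subgroup.mem_bot, commutatorElement_eq_one_iff_mul_comm]
      exact (IsCyclic.commGroup (α := G)).mul_comm a b
    have hp1 := hcore.dvd
    rw [← Subgroup.card_top (G := G), ← hcore.perf, hb, Subgroup.card_bot] at hp1
    exact hcore.prime.one_lt.not_ge (Nat.le_of_dvd one_pos hp1)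
  exact SmallDeg16.not_dvd_center_of_perfect hcore.perf hcore.sq
    (hP ▸ Subgroup.card_dvd_of_le (hcore.norm _ hn hne))

variable {P V N : Subgroup G} {e : ℕ} (K : Conf p P V N e)
  [Fintype P] [Fintype V] [Fintype N] [Fintype (P →* ℂˣ)] {M : Ideal AlgInt} [M.IsPrime]

include K

open scoped Classical in
set_option maxHeartbeats 1000000 in
/-- The form of a faithful character of degree less than `p - 1`. -/
theorem exceptional_form (hcore : Core p G) (hM : IsPModular p M) {d : ℕ} (hd : d + 1 < p)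
    (ρ : Representation ℂ G (Fin d → ℂ)) [ρ.IsIrreducible] (hρ : Function.Injective ρ)
    (ζ : IrrCharacter G) (hζ : (ζ : G → ℂ) = ρ.character) :
    (2 * d + 1 = p ∧ 2 * e + 1 = p) ∨
      (d + e = p ∧ 2 * e + 1 ≤ p ∧ 2 ≤ e ∧ V = Subgroup.center G ∧
        ∃ b : IrrCharacter V, (b : V → ℂ) 1 = 1 ∧ InR K ζ b ∧
          ∃ (X Y : Finset (IrrCharacter G)) (δ : ℤ) (sg : IrrCharacter G → ℤ),
            Fam K (M := M) b X Y δ sg ∧ ζ ∈ Y ∧ δ = 1) := by
  haveI := Fact.mk K.hp
  haveI : NeZero p := ⟨K.hp.ne_zero⟩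
  have hbig := hcore.big
  haveI : Nontrivial (Fin d → ℂ) := nontrivial_of_irreducible ρ
  have hd0 : 0 < d := by
    have := Module.finrank_pos (R := ℂ) (M := Fin d → ℂ)
    rwa [Module.finrank_fin_fun] at this
  have hPn := sylow_not_normal hcore K.hP
  have hdeg1 : (ζ : G → ℂ) 1 = d := by
    rw [hζ, Representation.char_one]; simp
  have hdz : charDegree (ζ : G → ℂ) = d := by
    have h := irr_one_eq_charDegree ζ
    rw [hdeg1] at h
    exact_mod_cast h.symm
  have hf : ∀ g, (ζ : G → ℂ) g = (ζ : G → ℂ) 1 → g = 1 := by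
    intro g hg
    rw [hζ, Representation.char_one] at hg
    refine hρ ?_
    rw [char_eq_degree_iff] at hg
    rw [hg, map_one, Module.End.one_eq_id]
  have hdp : ¬ p ∣ charDegree (ζ : G → ℂ) := by
    rw [hdz]; intro h; have := Nat.le_of_dvd hd0 h; omega
  obtain ⟨b, hb⟩ := exists_inR K hM hdp
  have hζc := IsIrrCharacter.isCharacter ζ.2
  have hbdeg : 0 < charDegree (b : V → ℂ) := CharX.irr_deg_pos b
  -- outside the orbit
  have hout : ∀ γ, γ ∉ orbB K b → ∀ l, nco K.D hζc l γ = 0 := by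
    intro γ hγ l
    have hnR : ¬ InR K ζ γ := fun h => hγ ((mem_orbB K).2 (exists_conj_of_block K hM hb h rfl))
    rw [const_of_not_inR K hnR l]
    by_contra hne
    have h1 := deg_eq_nat K ζ
    have h2 : (∑ m, nco K.D hζc m γ) * charDegree (γ : V → ℂ) ≤ charDegree (ζ : G → ℂ) :=
      (Finset.single_le_sum (f := fun δ : IrrCharacter V => (∑ m, nco K.D hζc m δ) *
        charDegree (δ : V → ℂ)) (fun _ _ => Nat.zero_le _) (Finset.mem_univ γ)).trans h1.le
    rw [Finset.sum_congr rfl (g := fun _ => nco K.D hζc 1 γ) (fun m _ => const_of_not_inR K hnR m),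
      Finset.sum_const, Finset.card_univ, card_dual_eq K, smul_eq_mul, hdz] at h2
    have h3 : p * 1 * 1 ≤ p * nco K.D hζc 1 γ * charDegree (γ : V → ℂ) :=
      Nat.mul_le_mul (Nat.mul_le_mul le_rfl (Nat.pos_of_ne_zero hne)) (CharX.irr_deg_pos γ)
    omega
  set S := ∑ l, nco K.D hζc l b with hS
  have hdeg : (orbB K b).card * (S * charDegree (b : V → ℂ)) = d := by
    rw [← hdz, ← deg_eq_nat K ζ, ← Finset.sum_subset (Finset.subset_univ (orbB K b))
      (fun γ _ hγ => by simp [hout γ hγ]), Finset.sum_congr rfl (g := fun _ => S * charDegree (b : V → ℂ))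
      (fun γ hγ => ?_), Finset.sum_const, smul_eq_mul]
    obtain ⟨w, rfl⟩ := (mem_orbB K).1 hγ
    rw [charDegree_bT K, hS, ← Fintype.sum_bijective _ (lT_bijective K w)
      (fun l => nco K.D hζc (lT K.D w l) (bT K.D w b)) (fun l => nco K.D hζc l (bT K.D w b)) fun _ => rfl,
      Finset.sum_congr rfl fun l _ => nco_inv K.D hζc w l b]
  obtain ⟨eb, X, Y, δ, sg, F⟩ := DefOne.exists_families K hM b
  set k := nco K.D hζc 1 b with hk
  have hnco : ∀ l, (nco K.D hζc l b : ℤ) = (k : ℤ) - acoef K ζ b l := fun l => by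
    simp only [acoef, hk]; ring
  have hSz : (S : ℤ) = (p : ℤ) * k - ∑ l, acoef K ζ b l := by
    rw [hS, Nat.cast_sum, Finset.sum_congr rfl fun l _ => hnco l, Finset.sum_sub_distrib,
      Finset.sum_const, Finset.card_univ, card_dual_eq K, nsmul_eq_mul]
  have horb : 0 < (orbB K b).card := Finset.card_pos.2 ⟨b, (mem_orbB K).2 ⟨1, bT_one K b⟩⟩
  have hSle : S ≤ d := by
    rw [← hdeg]
    calc S = 1 * (S * 1) := by ring
      _ ≤ _ := Nat.mul_le_mul horb (Nat.mul_le_mul le_rfl hbdeg)
  have htriv : (∀ l, l ≠ 1 → nco K.D hζc l b = 0) → False := by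
    intro h0
    obtain ⟨y, hy⟩ := exists_ne_one_P K
    refine hy (Subtype.ext (hf y ?_))
    have e1 := expansion K.D (IsCharacter.isClassFunction hζc) y 1
    have e2 := expansion K.D (IsCharacter.isClassFunction hζc) 1 1
    rw [OneMemClass.coe_one, mul_one] at e1
    simp only [OneMemClass.coe_one, mul_one] at e2
    rw [e1, e2]
    refine Finset.sum_congr rfl fun l _ => Finset.sum_congr rfl fun γ _ => ?_
    by_cases hl : l = 1
    · simp [hl]
    · have hz : nco K.D hζc l γ = 0 := by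
        by_cases hγ : γ ∈ orbB K b
        · obtain ⟨w, rfl⟩ := (mem_orbB K).1 hγ
          obtain ⟨l', rfl⟩ := (lT_bijective K w).2 l
          rw [nco_inv K.D hζc w l' b]
          exact h0 l' fun e => hl (by rw [e, lT_triv])
        · exact hout γ hγ l
      simp [co_eq K.D hζc, hz]
  have hkp : ∀ m : ℕ, 2 ≤ m → 2 * (p : ℤ) ≤ (p : ℤ) * m := fun m hm => by
    have : (p : ℤ) * 2 ≤ (p : ℤ) * m := mul_le_mul_of_nonneg_left (by omega) (by omega)
    omega
  have hY : ζ ∈ Y := by
    rcases (mem_iff_inR K F ζ).2 hb with hX | hY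
    · exfalso
      rw [Families.sum_X K F hX] at hSz
      rcases F.signX ζ hX with hs | hs <;> rw [hs] at hSz
      · rcases (show k = 0 ∨ k = 1 ∨ 2 ≤ k by omega) with h | h | h
        · rw [h] at hSz; push_cast at hSz; omega
        · refine htriv fun l hl => ?_
          have h1 := hnco l
          rw [F.rowX ζ hX l hl, hs, h] at h1
          omega
        · have := hkp k h
          omega
      · have h' : 0 ≤ (p : ℤ) * k := by positivity
        omega
    · exact hY
  have hNcard : Nat.card N = e * (p * Nat.card V) := by rw [K.D.hcard, K.hP]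
  have he_orb : (orbB K b).card * eb = e := by
    have h := card_orbB K b
    rw [F.card_stab, hNcard, ← mul_assoc] at h
    exact Nat.eq_of_mul_eq_mul_right (Nat.mul_pos K.hp.pos Nat.card_pos) h
  have hep : e ∣ p - 1 := by
    have h := dvd_card_sub_one K.D
    rwa [K.hP] at h
  have hebd : eb ∣ p - 1 := Families.eb_dvd K F
  have heble : eb ≤ p - 1 := Nat.le_of_dvd (by omega) hebd
  have hebp := Families.eb_pos K F
  rw [F.sumY ζ hY] at hSz
  rcases F.sign with hδ | hδ
  swap
  · -- few eigenvalues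
    left
    rw [hδ] at hSz
    have hk0 : k = 0 := by
      by_contra h
      have : (p : ℤ) * 1 ≤ (p : ℤ) * k := mul_le_mul_of_nonneg_left (by omega) (by omega)
      omega
    rw [hk0] at hSz
    push_cast at hSz
    have hSeb : S = eb := by omega
    have hde : d = e * charDegree (b : V → ℂ) := by
      rw [← hdeg, hSeb, ← mul_assoc, he_orb]
    have heq : e ≤ d := by
      rw [hde]
      exact Nat.le_mul_of_pos_right _ hbdeg
    obtain ⟨y, hy⟩ := exists_ne_one_P K
    set L := Finset.univ.filter (fun l : P →* ℂˣ => ∃ γ, nco K.D hζc l γ ≠ 0) with hL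
    have hLcard : L.card ≤ e := by
      have hsub : L ⊆ (orbB K b).biUnion fun γ =>
          Finset.univ.filter fun l => nco K.D hζc l γ ≠ 0 := by
        intro l hl
        obtain ⟨γ, hγ⟩ := (Finset.mem_filter.1 hl).2
        exact Finset.mem_biUnion.2 ⟨γ, by_contra fun h => hγ (hout γ h l),
          Finset.mem_filter.2 ⟨Finset.mem_univ _, hγ⟩⟩
      refine (Finset.card_le_card hsub).trans ((Finset.card_biUnion_le).trans ?_)
      refine (Finset.sum_le_sum (g := fun _ => S) fun γ hγ => ?_).trans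
        (by rw [Finset.sum_const, smul_eq_mul, hSeb, he_orb])
      obtain ⟨w, rfl⟩ := (mem_orbB K).1 hγ
      have hSw : ∑ l, nco K.D hζc l (bT K.D w b) = S := by
        rw [hS, ← Fintype.sum_bijective _ (lT_bijective K w)
          (fun l => nco K.D hζc (lT K.D w l) (bT K.D w b)) (fun l => nco K.D hζc l (bT K.D w b))
            fun _ => rfl, Finset.sum_congr rfl fun l _ => nco_inv K.D hζc w l b]
      rw [← hSw, Finset.card_eq_sum_ones, Finset.sum_filter]
      exact Finset.sum_le_sum fun l _ => by split_ifs <;> omega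
    obtain ⟨q, hq⟩ := hep
    have he' : e ≠ p - 1 := by omega
    have h2e : 2 * e + 1 ≤ p := by
      have hq2 : 2 ≤ q := by
        rcases (show q = 0 ∨ q = 1 ∨ 2 ≤ q by omega) with h | h | h
        · rw [h, mul_zero] at hq; omega
        · rw [h, mul_one] at hq; omega
        · exact h
      have := Nat.mul_le_mul (le_refl e) hq2
      omega
    have hyp : orderOf (y : G) = p := orderOf_P' K y.2 (fun h => hy (Subtype.ext h))
    set E := L.image (fun l : P →* ℂˣ => ((l y : ℂˣ) : ℂ)) with hE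
    have hEcard : 2 * E.card ≤ p := by
      have := (Finset.card_image_le (s := L) (f := fun l : P →* ℂˣ => ((l y : ℂˣ) : ℂ))).trans hLcard
      rw [hE]
      omega
    have hker := SmallDeg16.aeval_prod_eq_zero K ρ y E (fun l hl γ => by
      rw [← hζ, co_eq K.D hζc]
      have : nco K.D hζc l γ = 0 := by_contra fun h =>
        hl (Finset.mem_image.2 ⟨l, Finset.mem_filter.2 ⟨Finset.mem_univ _, γ, h⟩, rfl⟩)
      rw [this, Nat.cast_zero]) hy
    obtain ⟨k', _, _, _, φ, hkφ, hrφ, hφy⟩ := SmallDeg16.exists_hom_few (by omega) hcore.perf hcore.sq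
      hcore.norm ρ hρ (by omega) hyp E hEcard hker
    obtain ⟨hC, hidx, -⟩ :=
      SmallDeg16.centralizer_of_std (by omega) hcore.perf hcore.sq φ hyp hkφ hrφ hφy
    have hzP : Subgroup.zpowers (y : G) = P := Subgroup.eq_of_le_of_card_ge
      (Subgroup.zpowers_le.2 y.2) (by rw [Nat.card_zpowers, hyp, K.hP])
    rw [hzP, centralizer_singleton_eq K.hp K.hP y.2 (fun h => hy (Subtype.ext h)), ← K.hN,
      Subgroup.relIndex, K.D.he] at hidx
    obtain ⟨r, hr⟩ := K.hp.odd_of_ne_two (by omega)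
    have he2 : 2 * e + 1 = p := by omega
    refine ⟨?_, he2⟩
    -- the degree of `b` is one
    have hb1 : charDegree (b : V → ℂ) = 1 := by
      by_contra h
      have : e * 2 ≤ d := by
        rw [hde]
        exact Nat.mul_le_mul le_rfl (by omega)
      omega
    rw [hde, hb1]
    omega
  right
  rw [hδ] at hSz
  have hk1 : k = 1 := by
    rcases (show k = 0 ∨ k = 1 ∨ 2 ≤ k by omega) with h | h | h
    · rw [h] at hSz; push_cast at hSz; omega
    · exact h
    · have := hkp k h
      omega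
  rw [hk1] at hSz
  push_cast at hSz
  have hSeb : S + eb = p := by omega
  have heb2 : eb ≠ p - 1 := by
    intro h
    refine htriv fun l hl => ?_
    have h1 : nco K.D hζc 1 b + nco K.D hζc l b ≤ S := by
      rw [hS, ← Finset.sum_pair hl.symm (f := fun m => nco K.D hζc m b)]
      exact Finset.sum_le_sum_of_subset (Finset.subset_univ _)
    omega
  have h2eb : 2 * eb ≤ p - 1 := by
    obtain ⟨q, hq⟩ := hebd
    rw [hq]
    have hq2 : 2 ≤ q := by
      rcases (show q = 0 ∨ q = 1 ∨ 2 ≤ q by omega) with h | h | h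
      · rw [h, mul_zero] at hq; omega
      · rw [h, mul_one] at hq; omega
      · exact h
    calc 2 * eb = eb * 2 := mul_comm _ _
      _ ≤ eb * q := Nat.mul_le_mul le_rfl hq2
  have hmul1 : (orbB K b).card * charDegree (b : V → ℂ) = 1 := by
    by_contra hne
    have h2 : 2 ≤ (orbB K b).card * charDegree (b : V → ℂ) := by
      have := Nat.mul_pos horb hbdeg
      omega
    have h3 : 2 * S ≤ d := by
      rw [← hdeg, show (orbB K b).card * (S * charDegree (b : V → ℂ)) =
        (orbB K b).card * charDegree (b : V → ℂ) * S by ring]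
      exact Nat.mul_le_mul h2 le_rfl
    omega
  obtain ⟨horb1, hb1⟩ := mul_eq_one.1 hmul1
  rw [horb1, hb1, one_mul, mul_one] at hdeg
  have hb1' : (b : V → ℂ) 1 = 1 := by rw [irr_one_eq_charDegree, hb1, Nat.cast_one]
  have hres : ∀ v : V, (ζ : G → ℂ) v = (ζ : G → ℂ) 1 * (b : V → ℂ) v := by
    intro v
    have h1 := expansion_one K.D (IsCharacter.isClassFunction hζc) v
    rw [h1, Finset.sum_eq_single b (fun γ _ hγ => ?_) (fun h => absurd (Finset.mem_univ _) h),
      irr_one_eq_charDegree, hdz, ← hdeg, hS, Nat.cast_sum]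
    · congr 1
      exact Finset.sum_congr rfl fun l _ => co_eq K.D hζc l b
    · have hγ' : γ ∉ orbB K b := fun h => hγ (Finset.card_le_one.1 horb1.le γ h b
        ((mem_orbB K).2 ⟨1, bT_one K b⟩))
      simp [co_eq K.D hζc, hout γ hγ']
  have hVc : V = Subgroup.center G := by
    refine le_antisymm (fun v hv => ?_) fun z hz =>
      mem_V_of_regular K (Subgroup.center_le_centralizer _ hz) fun h => ?_
    · refine mem_center_of_norm ζ.2 hf (d := d) (by rw [hdeg1]) ?_
      obtain ⟨f, hf'⟩ := exists_hom_of_degree_one (IsIrrCharacter.isCharacter b.2) hb1'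
      have hone : ‖(b : V → ℂ) ⟨v, hv⟩‖ = 1 := by
        rw [hf']
        refine norm_eq_one_of_pow (m := Nat.card V) Nat.card_pos.ne' ?_
        rw [← Units.val_pow_eq_pow_val, ← map_pow, pow_card_eq_one', map_one, Units.val_one]
      rw [hres ⟨v, hv⟩, norm_mul, hone, mul_one, hdeg1, Complex.norm_natCast]
    · exact not_dvd_center K.hp K.hP K.hsq hPn
        (h.trans (Subgroup.orderOf_dvd_natCard _ hz))
  have hVle : V ≤ Subgroup.center G := hVc.le
  obtain rfl : e = eb := (Faithful.eb_eq K hVle F).symm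
  exact ⟨by omega, by omega, by omega, hVc, b, hb1', hb, X, Y, δ, sg,
    ⟨hM, hVle, hb1', F⟩, hY, hδ⟩

/-- The coefficients of an exceptional character form an orbit. -/
theorem fibre_form [NeZero p] {μ : IrrCharacter V} {X Y : Finset (IrrCharacter G)} {δ : ℤ}
    {sg : IrrCharacter G → ℤ} (F : Fam K (M := M) μ X Y δ sg) (C : Coord p P) (he : 0 < e)
    {θ : IrrCharacter G} (hθ : θ ∈ Y) {j : ZMod p} (hj : j ≠ 0)
    (hne : acoef K θ μ (C.lam j) ≠ 0) (i : ZMod p) :
    acoef K θ μ (C.lam i) = if (i * j⁻¹) ^ e = 1 then δ else 0 := by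
  classical
  haveI := Fact.mk K.hp
  set S := Finset.univ.filter (fun i : ZMod p => acoef K θ μ (C.lam i) ≠ 0) with hS
  set T := Finset.univ.filter (fun i : ZMod p => (i * j⁻¹) ^ e = 1) with hT
  have hsub : T ⊆ S := fun x hx => Finset.mem_filter.2 ⟨Finset.mem_univ _, by
    have h := SmallDeg16.nonneg_acoef_support K F.hV C θ he hne (i := x * j⁻¹)
      (Finset.mem_filter.1 hx).2
    rwa [mul_assoc, inv_mul_cancel₀ hj, mul_one] at h⟩
  have hScard : S.card = e := by
    refine Eq.trans ?_ (F.card_fibre hθ)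
    refine Finset.card_bij (fun i _ => C.lam i) (fun i hi => ?_) (fun a _ b _ h => C.lam_injective h)
      fun m hm => ?_
    · exact Finset.mem_filter.2 ⟨Finset.mem_univ _, (Finset.mem_filter.1 hi).2⟩
    · obtain ⟨i, rfl⟩ := (lam_bijective K C).2 m
      exact ⟨i, Finset.mem_filter.2 ⟨Finset.mem_univ _, (Finset.mem_filter.1 hm).2⟩, rfl⟩
  have hTcard : e ≤ T.card := by
    have hne' : C.lam (1 : ZMod p) ≠ 1 := fun h => one_ne_zero (C.lam_eq_one.1 h)
    rw [← CCSylow.card_orb K.D hne']
    refine Finset.card_le_card_of_surjOn (fun i => C.lam (i * j⁻¹)) fun m hm => ?_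
    obtain ⟨w, rfl⟩ := (CCSylow.mem_orb K.D).1 (Finset.mem_coe.1 hm)
    obtain ⟨r, hr⟩ := (lam_bijective K C).2 (lT K.D w (C.lam 1))
    refine ⟨r * j, Finset.mem_coe.2 (Finset.mem_filter.2 ⟨Finset.mem_univ _, ?_⟩), ?_⟩
    · rw [mul_assoc, mul_inv_cancel₀ hj, mul_one]
      exact (SmallDeg16.orbit_index K C he).1 w r hr.symm
    · show C.lam (r * j * j⁻¹) = _
      rw [mul_assoc, mul_inv_cancel₀ hj, mul_one, hr]
  have hST : S = T := (Finset.eq_of_subset_of_card_le hsub (hScard.le.trans hTcard)).symm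
  by_cases hi : (i * j⁻¹) ^ e = 1
  · rw [if_pos hi]
    have hm : i ∈ S := hST ▸ Finset.mem_filter.2 ⟨Finset.mem_univ _, hi⟩
    exact (F.fam.valY θ hθ _).resolve_left (Finset.mem_filter.1 hm).2
  · rw [if_neg hi]
    by_contra hne'
    have hm : i ∈ T := hST ▸ Finset.mem_filter.2 ⟨Finset.mem_univ _, hne'⟩
    exact hi (Finset.mem_filter.1 hm).2

omit K in
/-- The standing facts about an exceptional faithful character of degree `p - e`. -/
structure Exc [NeZero p] {P V N : Subgroup G} {e : ℕ} (K : Conf p P V N e) [Fintype V]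
    (ζ : IrrCharacter G) (b : IrrCharacter V) (C : Coord p P) : Prop where
  center : V = Subgroup.center G
  deg : charDegree (ζ : G → ℂ) + e = p
  half : 2 * e + 1 ≤ p
  two_le : 2 ≤ e
  faith : ∀ g, (ζ : G → ℂ) g = (ζ : G → ℂ) 1 → g = 1
  lin : (b : V → ℂ) 1 = 1
  cen : Cen V (ζ : G → ℂ) b
  mz : HasMult C (ζ : G → ℂ) (aJ p e 1)
  fibre : ∀ j : ZMod p, j ≠ 0 → ∃ η : IrrCharacter G, Cen V (η : G → ℂ) b ∧
    (∀ g : G, ¬ p ∣ orderOf g → (η : G → ℂ) g = (ζ : G → ℂ) g) ∧ HasMult C (η : G → ℂ) (aJ p e j)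

/-- The exceptional characters of degree `p - e`. -/
theorem hasMult_fibre [NeZero p] {b : IrrCharacter V} {X Y : Finset (IrrCharacter G)} {δ : ℤ}
    {sg : IrrCharacter G → ℤ} (F : Fam K (M := M) b X Y δ sg) (C : Coord p P) (hδ : δ = 1)
    (he : 0 < e) {θ : IrrCharacter G} (hθ : θ ∈ Y) (hdeg : charDegree (θ : G → ℂ) + e = p)
    {j : ZMod p} (hj : j ≠ 0) (hne : acoef K θ b (C.lam j) ≠ 0) :
    HasMult C (θ : G → ℂ) (aJ p e j) := by
  have h0 := SmallDeg16.hasMult_irr K C θ F.lin F.hV (F.cen_of_inR (F.inR_Y hθ))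
  set k : ℕ := nco K.D (IsIrrCharacter.isCharacter θ.2) 1 b with hk
  have hn : ∀ i : ZMod p, (nco K.D (IsIrrCharacter.isCharacter θ.2) (C.lam i) b : ℤ) =
      (k : ℤ) - acoef K θ b (C.lam i) := fun i => by simp only [acoef, hk]; ring
  have hk1 : (k : ℤ) = 1 := by
    have hdeg' := h0.degree
    rw [irr_one_eq_charDegree] at hdeg'
    have h16' : (charDegree (θ : G → ℂ) : ℤ) = ∑ i : ZMod p, ((k : ℤ) - acoef K θ b (C.lam i)) := by
      rw [← Finset.sum_congr rfl fun i _ => hn i]
      exact_mod_cast hdeg'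
    rw [Finset.sum_sub_distrib, Finset.sum_const, Finset.card_univ, ZMod.card, nsmul_eq_mul,
      (lam_bijective K C).sum_comp (fun m => acoef K θ b m), F.fam.sumY θ hθ, hδ, one_mul] at h16'
    exact mul_left_cancel₀ (show (p : ℤ) ≠ 0 by exact_mod_cast K.hp.ne_zero)
      (show (p : ℤ) * k = p * 1 by omega)
  refine h0.congr fun i => ?_
  rw [hn i, hk1, fibre_form K F C he hθ hj hne i, hδ, aJ]
  split_ifs <;> norm_num

/-- The standing facts. -/
theorem exists_exc [NeZero p] (hcore : Core p G) (hM : IsPModular p M) {d : ℕ} (hd : d + 1 < p)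
    (hd2 : 2 * d + 1 ≠ p) (ρ : Representation ℂ G (Fin d → ℂ)) [ρ.IsIrreducible]
    (hρ : Function.Injective ρ) (ζ : IrrCharacter G) (hζ : (ζ : G → ℂ) = ρ.character) :
    d + e = p ∧ ∃ (b : IrrCharacter V) (C : Coord p P), Exc K ζ b C := by
  haveI := Fact.mk K.hp
  rcases exceptional_form K hcore hM hd ρ hρ ζ hζ with ⟨h, -⟩ |
    ⟨hde, h2e, he2, hVc, b, hb1, hb, X, Y, δ, sg, F, hζY, hδ⟩
  · exact absurd h hd2
  refine ⟨hde, b, ?_⟩
  have hdz : charDegree (ζ : G → ℂ) = d := by
    have h := irr_one_eq_charDegree ζ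
    rw [hζ, Representation.char_one, Module.finrank_fin_fun] at h
    rw [hζ]
    exact_mod_cast h.symm
  obtain ⟨l, hl⟩ : ∃ l, acoef K ζ b l ≠ 0 := hb
  have hl1 : l ≠ 1 := fun h => hl (by rw [h, acoef_one])
  obtain ⟨C, hC⟩ := exists_coord K hl1
  have hlam1 : C.lam 1 = l := by
    refine MonoidHom.ext fun z => ?_
    rw [Coord.lam, ZMod.val_one, MonoidHom.pow_apply, pow_one, hC]
  have he : 0 < e := by omega
  have hf : ∀ g, (ζ : G → ℂ) g = (ζ : G → ℂ) 1 → g = 1 := by
    intro g hg
    rw [hζ, Representation.char_one] at hg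
    refine hρ ?_
    rw [char_eq_degree_iff] at hg
    rw [hg, map_one, Module.End.one_eq_id]
  refine ⟨C, hVc, by omega, h2e, he2, hf, hb1, F.cen_of_inR (F.inR_Y hζY),
    hasMult_fibre K F C hδ he hζY (by omega) one_ne_zero (by rwa [hlam1]), fun j hj => ?_⟩
  obtain ⟨η, hηY, hηv⟩ := F.exists_th (l := C.lam j) (fun h => hj (C.lam_eq_one.1 h))
  have hηne : acoef K η b (C.lam j) ≠ 0 := by
    rw [hηv η hηY, if_pos rfl, hδ]; norm_num
  have hag : ∀ g : G, ¬ p ∣ orderOf g → (η : G → ℂ) g = (ζ : G → ℂ) g :=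
    fun g hg => Families.agree K F.fam hηY hζY hg
  have hdη : charDegree (η : G → ℂ) = charDegree (ζ : G → ℂ) := by
    have h := hag 1 (by simpa using K.hp.ne_one)
    rw [irr_one_eq_charDegree, irr_one_eq_charDegree] at h
    exact_mod_cast h
  exact ⟨η, F.cen_of_inR (F.inR_Y hηY), hag, hasMult_fibre K F C hδ he hηY (by omega) hj hηne⟩

end Cfsg.Agent.Feit
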