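import Cfsg.Agent.Lib.Feit.Edge
import Mathlib.LinearAlgebra.Eigenspace.Triangularizable

/-!
An element of order `p` acts with one block on a faithful module of degree less than `p - 1` of a core
group, and the endomorphisms are generated over it by `d` weight vectors.
-/

set_option autoImplicit false
set_option linter.unusedSectionVars false
set_option linter.style.haveILetI false

namespace Cfsg.Agent.Feit.Gap

open Finset Module
open SmallDim SmallDim.Frame
open scoped Classical MatrixGroups

variable {k : Type} [Field k] {p : ℕ} [hpF : Fact p.Prime] [CharP k p]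

section Alg

variable {R : Type*} [Ring R] [Algebra k R]

/-- `texp x - 1` against `x`. -/
theorem texp_sub_pow (x : R) (i : ℕ) :
    ∃ r, Commute x r ∧ (texp k p x - 1) ^ i = x ^ i + r * x ^ (i + 1) := by
  obtain ⟨s, hs, es⟩ := texp_eq (k := k) (p := p) hpF.out.two_le x
  have hxs : Commute x s := Algebra.commute_of_mem_adjoin_self hs
  induction i with
  | zero => exact ⟨0, Commute.zero_right x, by simp⟩
  | succ i ih =>
    obtain ⟨r, hr, e⟩ := ih
    refine ⟨r + s + r * x * s, (hr.add_right hxs).add_right ((hr.mul_right (Commute.refl x)).mul_right hxs), ?_⟩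
    have hc : ∀ j, x ^ j * s = s * x ^ j := fun j => (hxs.pow_left j).eq
    rw [pow_succ (texp k p x - 1), e, es, show (1 + x + x ^ 2 * s - 1) = x + x ^ 2 * s by abel]
    calc (x ^ i + r * x ^ (i + 1)) * (x + x ^ 2 * s)
        = x ^ (i + 1) + x ^ (i + 2) * s + r * x ^ (i + 2) + r * (x ^ (i + 3) * s) := by
          simp only [pow_succ, pow_zero, one_mul]; noncomm_ring
      _ = x ^ (i + 1) + (r + s + r * x * s) * x ^ (i + 2) := by
          rw [pow_succ' x (i + 2), mul_assoc x, hc]; noncomm_ring

end Alg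

variable {U : Type*} [AddCommGroup U] [Module k U] [FiniteDimensional k U]
variable {G : Type*} [Group G] [Finite G] (ρ : Representation k G U)

local notation "𝕄" => Module.End k U

/-- The logarithm of an element of order `p`, scaled by its normaliser. -/
theorem exists_scaled_log {S : Subgroup G} [Fintype S] {y : G} (hS : Nat.card S = p) (hy : y ∈ S)
    (hd : finrank k U ≤ p) :
    ∃ X : 𝕄, InN (k := k) (ρ y - 1) X ∧ texp k p X = ρ y ∧ texp k p (-X) = ρ y⁻¹ ∧
      X ^ finrank k U = 0 ∧ (∀ j, X ^ j = 0 → (ρ y - 1) ^ j = 0) ∧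
      (∀ v, (ρ y - 1) v = 0 → X v = 0) ∧
      ∀ g : G, ∀ b : ℕ, g * y * g⁻¹ = y ^ b → adAlg ρ g X = (b : k) • X := by
  set A := ρ y - 1 with hAdef
  have hAd : A ^ finrank k U = 0 := A_pow_eq_zero ρ hS hy
  obtain ⟨X, hX, hXe⟩ := exists_log (k := k) (p := p) hAd hd
  have hu : texp k p X = ρ y := by rw [hXe, hAdef, add_sub_cancel]
  refine ⟨X, hX, hu, ?_, ?_, fun j hj => ?_, fun v hv => ?_, fun g b hb => ?_⟩
  · have h := congrArg (ρ y⁻¹ * ·) (texp_mul_neg (p := p) hAd hd hX)
    simp only [hu, ← mul_assoc, rho_inv_mul, one_mul, mul_one] at h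
    exact h
  · have := hX.pow_mul_pow hAd hX (finrank k U) 0 (by omega)
    rwa [pow_zero, mul_one] at this
  · obtain ⟨r, -, e⟩ := texp_sub_pow (k := k) (p := p) X j
    rw [hu, ← hAdef] at e
    rw [e, pow_succ, hj, zero_mul, mul_zero, add_zero]
  · obtain ⟨r, hr, e⟩ := hX
    rw [e, (InN.commute_adjoin (Algebra.self_mem_adjoin_singleton k A) hr).eq, Module.End.mul_apply, hv, map_zero]
  · have hσA : adAlg ρ g A = (1 + A) ^ b - 1 := by
      rw [hAdef, map_sub, map_one, adAlg_apply, adRep_apply, ← map_mul, ← map_mul, hb,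
        add_sub_cancel, map_pow]
    have hσAm : InN (k := k) A (adAlg ρ g A) := by
      rw [hσA]
      refine ⟨∑ i ∈ range b, (1 + A) ^ i, Subalgebra.sum_mem _ fun i _ =>
        Subalgebra.pow_mem _ (add_mem (one_mem _) (Algebra.self_mem_adjoin_singleton k A)) i, ?_⟩
      rw [← mul_geom_sum, add_sub_cancel_left]
    have hσX : InN (k := k) A (adAlg ρ g X) := by
      obtain ⟨r, hr, e⟩ := hX
      rw [e, map_mul]
      refine hσAm.mul ?_
      have hle : Algebra.adjoin k {A} ≤ (Algebra.adjoin k {A}).comap (adAlg ρ g) :=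
        Algebra.adjoin_le (Set.singleton_subset_iff.2 hσAm.mem)
      exact hle hr
    refine texp_injective (p := p) hAd hd hσX (hX.smul _) ?_
    rw [← texp_map, ← texp_pow hAd hd hX, hu, adAlg_apply, adRep_apply, ← map_mul, ← map_mul,
      hb, map_pow]

/-- A weight on a cyclic subgroup of the normaliser. -/
theorem exists_weight {y w : G} (hy : orderOf y = p) {r : ℕ} (hw : w * y * w⁻¹ = y ^ r) :
    ∃ b : Subgroup.zpowers w → ℕ, (∀ l : Subgroup.zpowers w, (l : G) * y * (l : G)⁻¹ = y ^ b l) ∧ (∀ l : Subgroup.zpowers w, (b l : k) ≠ 0) ∧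
      b ⟨w, Subgroup.mem_zpowers w⟩ = r := by
  have hS : Nat.card (Subgroup.zpowers y) = p := by rw [Nat.card_zpowers, hy]
  have hy1 : y ≠ 1 := fun h => hpF.out.ne_one (by rw [← hy, h, orderOf_one])
  have hwN : w ∈ Subgroup.normalizer (Subgroup.zpowers y : Set G) :=
    Subgroup.mem_normalizer_fintype fun z hz => by
      obtain ⟨j, rfl⟩ := exists_pow_eq hS (Subgroup.mem_zpowers y) hy1 hz
      rw [← conj_pow, hw]
      exact pow_mem (pow_mem (Subgroup.mem_zpowers y) _) _
  have hex : ∀ l : Subgroup.zpowers w, ∃ a : ℕ, (l : G) * y * (l : G)⁻¹ = y ^ a ∧ ((l : G) = w → a = r) := by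
    intro l
    by_cases h : (l : G) = w
    · exact ⟨r, by rw [h, hw], fun _ => rfl⟩
    · obtain ⟨a, ha⟩ := exists_pow_eq hS (Subgroup.mem_zpowers y) hy1
        ((Subgroup.mem_normalizer_iff.1 (Subgroup.zpowers_le.2 hwN l.2) y).1 (Subgroup.mem_zpowers y))
      exact ⟨a, ha, fun h' => absurd h' h⟩
  choose b hb hbw using hex
  refine ⟨b, fun l => hb l, fun l h => ?_, hbw _ rfl⟩
  rw [CharP.cast_eq_zero_iff k p] at h
  obtain ⟨t, ht⟩ := h
  have := hb l
  rw [ht, pow_mul, ← hy, pow_orderOf_eq_one, one_pow, conj_eq_one_iff] at this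
  exact hy1 this

/-- In a core group outside the two-dimensional case an element of order `p` acts with one block. -/
theorem regular [IsAlgClosed k] (hC : Core p G) (hinj : Function.Injective ρ)
    (hfr : finrank k U + 1 < p) {y w : G} (hy : orderOf y = p) (hyc : y ∉ Subgroup.center G) {r : ℕ}
    (hw : w * y * w⁻¹ = y ^ r) (hwo : ¬ p ∣ orderOf w)
    (hN : ∀ n ∈ Subgroup.normalizer (Subgroup.zpowers y : Set G),
      ∃ i j : ℕ, ∃ z ∈ Subgroup.center G, n = y ^ i * w ^ j * z)
    (hzc : ∀ z ∈ Subgroup.center G, ∃ c : k, ρ z = c • 1) (hZ : Subgroup.center G ≠ ⊥)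
    (hidx : (Subgroup.centralizer ({y} : Set G)).relIndex
      (Subgroup.normalizer (Subgroup.zpowers y : Set G)) ≠ (p - 1) / 2) :
    (ρ y - 1) ^ (finrank k U - 1) ≠ 0 := by
  haveI : Fintype G := Fintype.ofFinite G
  set S := Subgroup.zpowers y with hSd
  have hS : Nat.card S = p := by rw [Nat.card_zpowers, hy]
  haveI : Fintype S := Fintype.ofFinite _
  have hyS : y ∈ S := Subgroup.mem_zpowers y
  have hy1 : y ≠ 1 := fun h => hpF.out.ne_one (by rw [← hy, h, orderOf_one])
  have hp5 : 5 ≤ p := by have := hC.big; omega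
  obtain ⟨z₀, hz₀, hz₀1⟩ : ∃ z ∈ Subgroup.center G, z ≠ 1 := by
    by_contra h
    push Not at h
    exact hZ (Subgroup.eq_bot_iff_forall _ |>.2 h)
  -- the endomorphisms of the module are scalars
  have hscalar : ∀ T : 𝕄, (∀ g, Commute T (ρ g)) → ∃ c : k, T = c • 1 := by
    intro T hT
    have hnt : Nontrivial U := by
      by_contra h
      rw [not_nontrivial_iff_subsingleton] at h
      haveI := h
      exact hz₀1 (hinj (Subsingleton.elim _ _))
    obtain ⟨c, hc⟩ := Module.End.exists_eigenvalue T
    refine ⟨c, sub_eq_zero.1 ?_⟩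
    set T' := T - c • (1 : 𝕄) with hT'
    by_contra hne
    have hker : LinearMap.ker T' ≠ ⊥ := by
      rw [hT', ← Module.End.eigenspace_def]
      exact hc
    have hran : LinearMap.range T' ≠ ⊥ := fun h => hne (LinearMap.range_eq_bot.1 h)
    have hT'g : ∀ g, Commute T' (ρ g) := fun g => (hT g).sub_left ((Commute.one_left _).smul_left c)
    obtain ⟨W, hW0, hWst, hWd⟩ : ∃ W : Submodule k U, W ≠ ⊥ ∧ (∀ g, ∀ v ∈ W, ρ g v ∈ W) ∧
        2 * finrank k W ≤ finrank k U := by
      have h := T'.finrank_range_add_finrank_ker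
      rcases le_total (finrank k (LinearMap.range T')) (finrank k (LinearMap.ker T')) with h' | h'
      · refine ⟨_, hran, ?_, by omega⟩
        rintro g _ ⟨u, rfl⟩
        exact ⟨ρ g u, by rw [← Module.End.mul_apply, (hT'g g).eq, Module.End.mul_apply]⟩
      · refine ⟨_, hker, fun g v hv => ?_, by omega⟩
        rw [LinearMap.mem_ker] at hv ⊢
        rw [← Module.End.mul_apply, (hT'g g).eq, Module.End.mul_apply, hv, map_zero]
    let σ : Representation k G W :=
      { toFun := fun g => (ρ g).restrict (hWst g)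
        map_one' := LinearMap.ext fun v => Subtype.ext (by simp)
        map_mul' := fun g g' => LinearMap.ext fun v => Subtype.ext (by simp) }
    obtain ⟨v₀, hv₀, hv₀0⟩ := (Submodule.ne_bot_iff _).1 hW0
    have hσy : σ y ≠ 1 := by
      intro h
      have hker : σ.ker = ⊤ := by
        by_contra h'
        exact hyc (hC.norm _ inferInstance h' (MonoidHom.mem_ker.2 h))
      obtain ⟨c', hc'⟩ := hzc z₀ hz₀
      have h1 : σ z₀ = 1 := MonoidHom.mem_ker.1 (hker ▸ Subgroup.mem_top _)
      have h2 : (ρ z₀) v₀ = v₀ := congrArg Subtype.val (LinearMap.congr_fun h1 (⟨v₀, hv₀⟩ : W))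
      rw [hc', LinearMap.smul_apply, Module.End.one_apply] at h2
      have h3 : c' = 1 := smul_left_injective k hv₀0 (by simpa using h2)
      exact hz₀1 (hinj (by rw [hc', h3, one_smul, map_one]))
    obtain ⟨φ₀, hφ₀⟩ := SmallDeg16.exists_hom_nil σ hS hC.sq hyS hσy (A_pow_eq_zero σ hS hyS)
      (by omega) (by omega) hp5
    have hne' : φ₀ y ≠ 1 := by
      rw [show φ₀ y = Matrix.SpecialLinearGroup.toPGL (sU 1) from hφ₀.trans
        (congrArg Matrix.ProjGenLinGroup.mk (Units.ext rfl)), Ne, ← MonoidHom.mem_ker,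
        Matrix.SpecialLinearGroup.toPGL_ker]
      intro h
      rcases center_sl_eq h with h | h <;>
        simpa [sU] using congrFun (congrFun h 0) 1
    obtain ⟨φ, h1, h2, h3⟩ := SmallDeg16.exists_std_hom hp5 hC.perf hC.sq hC.norm φ₀ hy hne'
    exact hidx (SmallDeg16.centralizer_of_std hp5 hC.perf hC.sq φ hy h1 h2 h3).2.1
  intro hA0
  obtain ⟨X, hXN, hu, -, hXd, hXA, hXker, hscale⟩ := exists_scaled_log ρ hS hyS (by omega)
  set A := ρ y - 1 with hAdef
  have hA : A ≠ 0 := fun h => hy1 (hinj (by rw [map_one]; exact sub_eq_zero.1 h))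
  have hex : ∃ j, X ^ j = 0 := ⟨_, hXd⟩
  have h2j : 2 ≤ Nat.find hex := by
    by_contra h
    have h1 := hXA _ (Nat.find_spec hex)
    rcases (show Nat.find hex = 0 ∨ Nat.find hex = 1 by omega) with e | e <;> rw [e] at h1
    · rw [pow_zero] at h1
      exact hA (by rw [← mul_one A, h1, mul_zero])
    · exact hA (by rwa [pow_one] at h1)
  obtain ⟨n, hn⟩ : ∃ n, Nat.find hex = n + 2 := ⟨Nat.find hex - 2, by omega⟩
  have hXn : X ^ (n + 2) = 0 := hn ▸ Nat.find_spec hex
  have hXn' : X ^ (n + 1) ≠ 0 := Nat.find_min hex (by omega)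
  have hnd : n + 2 < finrank k U := by
    have hAn := hXA _ hXn
    by_contra hle
    have hX' : X ^ (finrank k U - 1) = 0 := by
      have := hXN.pow_mul_pow hA0 hXN (finrank k U - 1) 0 (by omega)
      rwa [pow_zero, mul_one] at this
    exact hXn' (pow_eq_zero_of_le (by omega) hX')
  -- the weights
  set L := Subgroup.zpowers w with hL
  haveI : Fintype L := Fintype.ofFinite _
  obtain ⟨b, hb, hb0, hbw⟩ := exists_weight (k := k) hy hw
  let c : L → k := fun l => (b l : k)
  have hcX : ∀ l : L, adAlg ρ (l : G) X = c l • X := fun l => hscale _ _ (hb l)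
  have hLc : (Nat.card L : k) ≠ 0 := by
    rw [Ne, CharP.cast_eq_zero_iff k p, Nat.card_zpowers]; exact hwo
  obtain ⟨Q, F, htr, hQ⟩ := exists_frame (p := p) (hdp := by omega) (L := L) hLc
    (fun l => adAlg ρ (l : G)) (fun l m x => by
      show adAlg ρ ((l * m : L) : G) x = adAlg ρ (l : G) (adAlg ρ (m : G) x)
      simp only [adAlg_apply, Subgroup.coe_mul, map_mul]
      rfl)
    c hb0 X hcX hXn hXn'
  -- the transfer of a block sum
  have htransfer : ∀ R : 𝕄, (∀ l : L, adAlg ρ (l : G) R = (c l ^ (n + 1))⁻¹ • R) →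
      ∃ s : k, ∀ v, A v = 0 → (X ^ (n + 1)) (R v) = s • v := by
    intro R hR
    set π : 𝕄 := ∑ i ∈ range (n + 2), X ^ i * R * X ^ (n + 1 - i) with hπ
    have hπX : Commute π X := by
      show π * X = X * π
      rw [hπ, Finset.mul_sum, Finset.sum_mul, sum_range_succ', sum_range_succ (fun i => X * (X ^ i * R * X ^ (n + 1 - i)))]
      rw [show X ^ 0 * R * X ^ (n + 1 - 0) * X = 0 by
        rw [mul_assoc _ _ X, ← pow_succ, Nat.sub_zero, hXn, mul_zero], add_zero,
        show X * (X ^ (n + 1) * R * X ^ (n + 1 - (n + 1))) = 0 by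
          rw [← mul_assoc, ← mul_assoc, ← pow_succ', hXn, zero_mul, zero_mul], add_zero]
      refine sum_congr rfl fun i hi => ?_
      have := mem_range.1 hi
      rw [mul_assoc _ _ X, ← pow_succ, ← mul_assoc X, ← mul_assoc X, ← pow_succ',
        show n + 1 - (i + 1) + 1 = n + 1 - i by omega]
    have hπy : Commute π (ρ y) := by
      rw [← hu, texp]
      exact Commute.sum_right _ _ _ fun i _ => (hπX.pow_right i).smul_right _
    have hπw : Commute π (ρ w) := by
      have h1 : adAlg ρ ((⟨w, Subgroup.mem_zpowers w⟩ : L) : G) π = π := by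
        rw [hπ, map_sum]
        refine sum_congr rfl fun i hi => ?_
        have := mem_range.1 hi
        rw [map_mul, map_mul, map_pow, map_pow, hR, hcX, smul_pow, smul_pow, smul_mul_smul_comm,
          smul_mul_smul_comm]
        convert one_smul k (X ^ i * R * X ^ (n + 1 - i)) using 2
        rw [mul_comm (_ ^ i), mul_assoc, ← pow_add, show i + (n + 1 - i) = n + 1 by omega,
          inv_mul_cancel₀ (pow_ne_zero _ (hb0 _))]
      rw [adAlg_apply, adRep_apply] at h1
      show π * ρ w = ρ w * π
      conv_lhs => rw [← h1, mul_assoc, rho_inv_mul, mul_one]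
    set N := Subgroup.normalizer (S : Set G) with hNdef
    have hSN : S ≤ N := Subgroup.le_normalizer
    have hπN : ∀ h ∈ N, Commute π (ρ h) := by
      intro h hh
      obtain ⟨i, j, z, hz, rfl⟩ := hN h hh
      obtain ⟨cz, hcz⟩ := hzc z hz
      rw [map_mul, map_mul, map_pow, map_pow, hcz]
      exact ((hπy.pow_right i).mul_right (hπw.pow_right j)).mul_right ((Commute.one_right _).smul_right cz)
    haveI : Fintype (G ⧸ N) := Fintype.ofFinite _
    let Fq : G ⧸ N → 𝕄 := Quotient.lift (fun h => ρ h * π * ρ h⁻¹) fun h h' hgg => by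
      have h1 : h⁻¹ * h' ∈ N := QuotientGroup.leftRel_apply.1 hgg
      show ρ h * π * ρ h⁻¹ = ρ h' * π * ρ h'⁻¹
      obtain ⟨m, rfl⟩ : ∃ m, h' = h * m := ⟨h⁻¹ * h', (mul_inv_cancel_left h h').symm⟩
      rw [inv_mul_cancel_left] at h1
      rw [mul_inv_rev, map_mul, map_mul, mul_assoc (ρ h) (ρ m) π, ← (hπN _ h1).eq]
      simp only [mul_assoc]
      rw [← mul_assoc (ρ m) (ρ m⁻¹), rho_mul_inv, one_mul]
    have hF : ∀ h : G, Fq (h : G ⧸ N) = ρ h * π * ρ h⁻¹ := fun h => rfl
    have hFact : ∀ (h : G) (q : G ⧸ N), Fq (h • q) = ρ h * Fq q * ρ h⁻¹ := by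
      intro h q
      obtain ⟨a, rfl⟩ := QuotientGroup.mk_surjective q
      show Fq ((h * a : G) : G ⧸ N) = _
      rw [hF, hF, map_mul, mul_inv_rev, map_mul]
      simp only [mul_assoc]
    obtain ⟨s, hs⟩ := hscalar (∑ q, Fq q) fun h => by
      have e : ρ h * (∑ q, Fq q) * ρ h⁻¹ = ∑ q, Fq q := by
        rw [Finset.mul_sum, Finset.sum_mul]
        exact Fintype.sum_equiv (MulAction.toPerm h) _ _ fun q => (hFact h q).symm
      show (∑ q, Fq q) * ρ h = ρ h * ∑ q, Fq q
      conv_lhs => rw [← e, mul_assoc, rho_inv_mul, mul_one]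
    refine ⟨s, fun v hv => ?_⟩
    have hbase : ∀ t : S, (t : G) • ((1 : G) : G ⧸ N) = ((1 : G) : G ⧸ N) := fun t => by
      show (((t : G) * 1 : G) : G ⧸ N) = _
      rw [mul_one]
      exact QuotientGroup.eq.2 (by simpa using hSN t.2)
    obtain ⟨f, hf⟩ := Edge.orbit_sum (adRep ρ) (S := S) Fq
      ((Finset.univ : Finset (G ⧸ N)).erase ((1 : G) : G ⧸ N)) (fun t q hq => by
        refine Finset.mem_erase.2 ⟨fun h => (Finset.mem_erase.1 hq).1 ?_, Finset.mem_univ _⟩
        have h' := congrArg (fun q => ((t⁻¹ : S) : G) • q) h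
        simp only [smul_smul] at h'
        rwa [← Subgroup.coe_mul, inv_mul_cancel, OneMemClass.coe_one, one_smul, hbase] at h')
      (fun t q => hFact (t : G) q) (fun q hq t ht => by
        obtain ⟨a, rfl⟩ := QuotientGroup.mk_surjective q
        have ha : a ∉ N := fun h => (Finset.mem_erase.1 hq).1 (QuotientGroup.eq.2 (by simpa using h))
        replace ht : (((t : G) * a : G) : G ⧸ N) = (a : G ⧸ N) := ht
        rw [QuotientGroup.eq] at ht
        exact Subtype.ext (ti_of_prime S hS hC.sq a ha t t.2 (by simpa [mul_assoc] using N.inv_mem ht)))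
    have hfix : ∀ t ∈ S, ρ t v = v := by
      intro t ht
      obtain ⟨i, rfl⟩ := exists_pow_eq hS hyS hy1 ht
      rw [map_pow]
      clear ht
      induction i with
      | zero => rfl
      | succ i ih =>
        rw [pow_succ, Module.End.mul_apply, show ρ y v = v from sub_eq_zero.1 hv, ih]
    have hkill : (∑ q ∈ (Finset.univ : Finset (G ⧸ N)).erase ((1 : G) : G ⧸ N), Fq q) v = 0 := by
      rw [← hf, LinearMap.sum_apply, LinearMap.sum_apply]
      have h0 : (∑ t : S, ρ (t : G)) (f v) = 0 := by
        rw [sum_rep_eq ρ hS hyS hy1, pow_eq_zero_of_le (show finrank k U ≤ p - 1 by omega)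
          (A_pow_eq_zero ρ hS hyS), LinearMap.zero_apply]
      rw [LinearMap.sum_apply] at h0
      refine Eq.trans (sum_congr rfl fun t _ => ?_) h0
      rw [adRep_apply, Module.End.mul_apply, Module.End.mul_apply, hfix _ (S.inv_mem t.2)]
    have hXi : ∀ j, 1 ≤ j → (X ^ j) v = 0 := fun j hj => by
      rw [← Nat.sub_add_cancel hj, pow_succ, Module.End.mul_apply, hXker v hv, map_zero]
    have hπv : π v = (X ^ (n + 1)) (R v) := by
      rw [hπ, LinearMap.sum_apply, sum_eq_single (n + 1)]
      · rw [Nat.sub_self, pow_zero, mul_one, Module.End.mul_apply]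
      · intro i hi hne
        have := mem_range.1 hi
        rw [Module.End.mul_apply, Module.End.mul_apply, hXi _ (by omega), map_zero, map_zero]
      · intro h
        exact absurd (mem_range.2 (by omega)) h
    have h2 := LinearMap.congr_fun hs v
    rw [← Finset.add_sum_erase _ _ (Finset.mem_univ ((1 : G) : G ⧸ N)), LinearMap.add_apply, hkill,
      add_zero, hF, inv_one, map_one, one_mul, mul_one, LinearMap.smul_apply, Module.End.one_apply,
      hπv] at h2
    exact h2
  -- the fixed space is the top of the largest blocks, and a line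
  obtain ⟨s, hs⟩ := htransfer Q hQ
  have hkerA : ∀ v, X v = 0 → A v = 0 := fun v hv => by
    obtain ⟨r', hr', e⟩ := texp_sub_pow (k := k) (p := p) X 1
    rw [hu, ← hAdef, pow_one, pow_one, pow_two, ← mul_assoc] at e
    rw [e, LinearMap.add_apply, Module.End.mul_apply, hv, map_zero, add_zero]
  have htopA : ∀ u, A ((X ^ (n + 1)) u) = 0 := fun u => hkerA _ (by
    rw [← Module.End.mul_apply, ← pow_succ', hXn, LinearMap.zero_apply])
  have hkerX : ∀ v, A v = 0 → (X ^ (n + 1)) (Q v) = v := by
    intro v hv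
    set E := X ^ (n + 1) * Q * X ^ (n + 1) with hE
    have h1 : Q * X ^ (n + 1) * Q = Q := by simpa using F.rel (n + 1)
    have hE0 : E ≠ 0 := fun h => htr (by
      have h2 : Q * X ^ (n + 1) = Q * E := by rw [hE, ← mul_assoc, ← mul_assoc, h1]
      rw [h2, h, mul_zero, map_zero])
    obtain ⟨u, hu'⟩ : ∃ u, E u ≠ 0 := by
      by_contra h'
      push Not at h'
      exact hE0 (LinearMap.ext fun u => by simpa using h' u)
    have h3 : E u = s • E u := by
      refine Eq.trans ?_ (hs (E u) ?_)
      · rw [← Module.End.mul_apply, ← Module.End.mul_apply]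
        refine LinearMap.congr_fun ?_ u
        calc E = X ^ (n + 1) * (Q * X ^ (n + 1) * Q) * X ^ (n + 1) := by rw [h1, hE]
          _ = _ := by rw [hE]; simp only [mul_assoc]
      · rw [hE, Module.End.mul_apply, Module.End.mul_apply]
        exact htopA _
    have hs1 : s = 1 := smul_left_injective k hu' (by simpa using h3.symm)
    rw [hs v hv, hs1, one_smul]
  -- the normaliser is scalar on the fixed space
  have hmulR : ∀ Z : 𝕄, (∀ l : L, adAlg ρ (l : G) Z = Z) →
      ∃ t : k, ∀ v, A v = 0 → A (Z v) = 0 → Z v = t • v := by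
    intro Z hZl
    obtain ⟨t, ht⟩ := htransfer (Q * Z) fun l => by rw [map_mul, hQ, hZl, smul_mul_assoc]
    exact ⟨t, fun v hv hZv => by rw [← hkerX _ hZv]; exact ht v hv⟩
  have hLker : ∀ l : L, ∀ v, A v = 0 → A (ρ (l : G) v) = 0 := by
    intro l v hv
    obtain ⟨i, hi⟩ : ∃ i, (l : G)⁻¹ * y * (l : G) = y ^ i := by
      refine ⟨b l⁻¹, ?_⟩
      have h := hb l⁻¹
      rwa [Subgroup.coe_inv, inv_inv] at h
    have hfy : ∀ i, ρ (y ^ i) v = v := by
      intro i
      induction i with
      | zero => rw [pow_zero, map_one]; rfl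
      | succ i ih => rw [pow_succ, map_mul, Module.End.mul_apply, show ρ y v = v from sub_eq_zero.1 hv, ih]
    show ρ y (ρ (l : G) v) - ρ (l : G) v = 0
    rw [sub_eq_zero, ← Module.End.mul_apply, ← map_mul,
      show y * (l : G) = (l : G) * ((l : G)⁻¹ * y * (l : G)) by group, hi, map_mul, Module.End.mul_apply, hfy]
  have hLscal : ∀ l : L, ∃ t : k, ∀ v, A v = 0 → ρ (l : G) v = t • v := by
    intro l
    obtain ⟨t, ht⟩ := hmulR (ρ (l : G)) fun m => by
      rw [adAlg_apply, adRep_apply, ← map_mul, ← map_mul]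
      congr 1
      obtain ⟨i, hi⟩ := Subgroup.mem_zpowers_iff.1 m.2
      obtain ⟨j, hj⟩ := Subgroup.mem_zpowers_iff.1 l.2
      rw [← hi, ← hj, ((Commute.refl w).zpow_zpow i j).eq, mul_inv_cancel_right]
    exact ⟨t, fun v hv => ht v hv (hLker l v hv)⟩
  choose a ha using hLscal
  obtain ⟨v₀, hv₀, hv₀0⟩ : ∃ v, A v = 0 ∧ v ≠ 0 := by
    obtain ⟨u, hu'⟩ : ∃ u, (X ^ (n + 1)) u ≠ 0 := by
      by_contra h
      push Not at h
      exact hXn' (LinearMap.ext fun v => by simpa using h v)
    exact ⟨_, htopA u, hu'⟩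
  have hline : ∀ v, A v = 0 → v ∈ Submodule.span k {v₀} := by
    intro v hv
    by_contra hvs
    obtain ⟨f, hf⟩ : ∃ f : U →ₗ[k] k, f v₀ = 1 := by
      obtain ⟨f, hf⟩ := Module.Projective.exists_dual_ne_zero k hv₀0
      exact ⟨(f v₀)⁻¹ • f, by simp [hf]⟩
    set Z : 𝕄 := (Nat.card L : k)⁻¹ • ∑ l : L, adAlg ρ (l : G) (f.smulRight v) with hZdef
    have hZl : ∀ m : L, adAlg ρ (m : G) Z = Z := by
      intro m
      rw [hZdef, map_smul, map_sum]
      congr 1
      refine Fintype.sum_equiv (Equiv.mulLeft m) _ _ fun l => ?_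
      simp only [Equiv.coe_mulLeft, adAlg_apply, Subgroup.coe_mul, map_mul]
      rfl
    have hZv : Z v₀ = v := by
      rw [hZdef, LinearMap.smul_apply, LinearMap.sum_apply, sum_congr rfl (g := fun _ => v) fun l _ => ?_,
        sum_const, card_univ, ← Nat.card_eq_fintype_card, ← Nat.cast_smul_eq_nsmul k, smul_smul,
        inv_mul_cancel₀ hLc, one_smul]
      have h1 : a l * a l⁻¹ = 1 := smul_left_injective k hv₀0 (by
        show (a l * a l⁻¹) • v₀ = (1 : k) • v₀
        rw [one_smul, ← smul_smul, ← ha l⁻¹ v₀ hv₀, ← ha l _ (hLker l⁻¹ v₀ hv₀),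
          ← Module.End.mul_apply, ← map_mul, ← Subgroup.coe_mul, mul_inv_cancel, OneMemClass.coe_one, map_one]
        rfl)
      rw [adAlg_apply, adRep_apply, Module.End.mul_apply, Module.End.mul_apply, ← Subgroup.coe_inv,
        ha _ v₀ hv₀, map_smul, LinearMap.smulRight_apply, hf, one_smul, map_smul, ha _ v hv, smul_smul,
        mul_comm, h1, one_smul]
    obtain ⟨t, ht⟩ := hmulR Z hZl
    exact hvs (Submodule.mem_span_singleton.2 ⟨t, (hZv ▸ ht v₀ hv₀ (hZv.symm ▸ hv)).symm⟩)
  have hle : finrank k U ≤ n + 2 := by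
    refine Edge.finrank_le_of_ker (D := X) hXn ((Submodule.finrank_mono (t := Submodule.span k {v₀})
      fun v hv => hline v (hkerA v hv)).trans ((finrank_span_le_card _).trans (by simp)))
  omega

section Generators

/-- The sums of the products of two binomial coefficients. -/
theorem sum_choose_mul (a b m : ℕ) :
    ∑ i ∈ range (m + 1), (i + a).choose a * (m - i + b).choose b = (m + a + b + 1).choose (a + b + 1) := by
  induction a generalizing m with
  | zero =>
    simp only [Nat.choose_zero_right, one_mul, zero_add, add_zero]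
    rw [← Nat.sum_range_add_choose m b, ← sum_range_reflect (fun j => (j + b).choose b) (m + 1)]
    refine sum_congr rfl fun i hi => ?_
    have := mem_range.1 hi
    rw [show m + 1 - 1 - i = m - i by omega]
  | succ a iha =>
    induction m with
    | zero => simp
    | succ m ihm =>
      rw [sum_range_succ']
      simp only [Nat.succ_sub_succ, Nat.zero_add, Nat.choose_self, Nat.sub_zero, one_mul]
      rw [sum_congr rfl (g := fun i => (i + (a + 1)).choose (a + 1) * (m - i + b).choose b +
        (i + 1 + a).choose a * (m - i + b).choose b) fun i _ => by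
          rw [show i + 1 + (a + 1) = (i + 1 + a) + 1 by omega, Nat.choose_succ_succ, add_mul, add_comm,
            show i + 1 + a = i + (a + 1) by omega], sum_add_distrib, ihm, add_assoc]
      have h := iha (m + 1)
      rw [sum_range_succ'] at h
      simp only [Nat.succ_sub_succ, Nat.zero_add, Nat.choose_self, Nat.sub_zero, one_mul] at h
      rw [h, show m + (a + 1) + b + 1 = m + 1 + a + b + 1 by omega, show a + 1 + b + 1 = a + b + 1 + 1 by omega,
        show m + 1 + (a + 1) + b + 1 = (m + 1 + a + b + 1) + 1 by omega, Nat.choose_succ_succ' (m + 1 + a + b + 1),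
        add_comm]

/-- A derivation and products of nilpotent vectors. -/
theorem deriv_pow_mul {R : Type*} [Ring R] [Algebra k R] (E : R →ₗ[k] R)
    (hE : ∀ f g, E (f * g) = E f * g + f * E g) :
    ∀ s a b : ℕ, a + b = s → ∀ f g, (E ^ (a + 1)) f = 0 → (E ^ (b + 1)) g = 0 →
      (E ^ (a + b + 1)) (f * g) = 0 := by
  intro s
  induction s using Nat.strong_induction_on with
  | _ s ih =>
    intro a b hab f g hf hg
    rw [pow_succ, Module.End.mul_apply, hE, map_add]
    have h1 : (E ^ (a + b)) (E f * g) = 0 := by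
      rcases a with _ | a
      · rw [zero_add, pow_one] at hf
        rw [hf, zero_mul, map_zero]
      · rw [show a + 1 + b = a + b + 1 by omega]
        exact ih (a + b) (by omega) a b rfl _ g (by rwa [← Module.End.mul_apply, ← pow_succ]) hg
    have h2 : (E ^ (a + b)) (f * E g) = 0 := by
      rcases b with _ | b
      · rw [zero_add, pow_one] at hg
        rw [hg, mul_zero, map_zero]
      · rw [show a + (b + 1) = a + b + 1 by omega]
        exact ih (a + b) (by omega) a b rfl f _ hf (by rwa [← Module.End.mul_apply, ← pow_succ])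
    rw [h1, h2, add_zero]

variable {X Q : Module.End k U} {n : ℕ}

/-- The coefficients of the powers of the lowering vector. -/
def yCoef (k : Type) [Field k] (n : ℕ) : ℕ → ℕ → k
  | 0, _ => 1
  | h + 1, i => yCoef k n h i * (((i + h : ℕ) : k) + 1) * ((n + 1 : k) - (i + h : ℕ))

theorem bY_pow (F : Frame X Q n) (h : ℕ) :
    bY X Q n ^ (h + 1) = ∑ i ∈ range (n + 2 - (h + 1)), yCoef k n (h + 1) i • eU X Q n i (i + (h + 1)) := by
  induction h with
  | zero =>
    rw [pow_one, bY]
    refine sum_congr rfl fun i _ => ?_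
    simp [yCoef]
  | succ h ih =>
    rw [pow_succ, ih, bY, sum_mul_sum, show n + 2 - (h + 1) = (n + 2 - (h + 1 + 1)) + (n + 2 - (h + 1) -
      (n + 2 - (h + 1 + 1))) by omega, sum_range_add]
    rw [sum_eq_zero (s := range (n + 2 - (h + 1) - (n + 2 - (h + 1 + 1)))) fun i hi => ?_, add_zero]
    · refine sum_congr rfl fun i hi => ?_
      have := mem_range.1 hi
      rw [sum_eq_single (i + (h + 1))]
      · rw [smul_mul_smul_comm, F.eU_mul (by omega), if_pos rfl]
        rw [show yCoef k n (h + 1 + 1) i = yCoef k n (h + 1) i *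
          (((i + (h + 1) : ℕ) : k) + 1) * ((n + 1 : k) - (i + (h + 1) : ℕ)) from rfl, mul_assoc]
        rfl
      · intro j _ hj
        rw [smul_mul_smul_comm, F.eU_mul (by omega), if_neg (by omega), smul_zero]
      · intro hn
        exact absurd (mem_range.2 (by omega)) hn
    · refine sum_eq_zero fun j hj => ?_
      have := mem_range.1 hi
      have := mem_range.1 hj
      rw [smul_mul_smul_comm, F.eU_mul (by omega), if_neg (by omega), smul_zero]

theorem yCoef_eq (n : ℕ) : ∀ h i, i + h ≤ n + 1 →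
    yCoef k n h i = ((h.factorial * h.factorial * ((i + h).choose h * (n + 1 - i).choose h) : ℕ) : k) := by
  intro h
  induction h with
  | zero => simp [yCoef]
  | succ h ih =>
    intro i hi
    rw [yCoef, ih i (by omega)]
    have e1 : (i + (h + 1)).choose (h + 1) * (h + 1) = (i + h).choose h * (i + h + 1) := by
      rw [← add_assoc, ← Nat.add_one_mul_choose_eq (i + h) h, mul_comm]
    have e2 : (n + 1 - i).choose (h + 1) * (h + 1) = (n + 1 - i).choose h * (n + 1 - (i + h)) := by
      rw [Nat.choose_succ_right_eq, show n + 1 - i - h = n + 1 - (i + h) by omega]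
    have e : (h + 1).factorial * (h + 1).factorial * ((i + (h + 1)).choose (h + 1) * (n + 1 - i).choose (h + 1)) =
        h.factorial * h.factorial * ((i + h).choose h * (n + 1 - i).choose h) * (i + h + 1) * (n + 1 - (i + h)) := by
      calc _ = h.factorial * h.factorial * (((i + (h + 1)).choose (h + 1) * (h + 1)) *
            ((n + 1 - i).choose (h + 1) * (h + 1))) := by rw [Nat.factorial_succ]; ring
        _ = _ := by rw [e1, e2]; ring
    rw [e]
    push_cast [Nat.cast_sub (show i + h ≤ n + 1 by omega)]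
    ring

/-- The trace of a frame element against a power. -/
theorem trace_eU_pow (F : Frame X Q n) {i h j : ℕ} (hi : i + h ≤ n + 1) :
    LinearMap.trace k U (eU X Q n i (i + h) * X ^ j) =
      if j = h then LinearMap.trace k U (Q * X ^ (n + 1)) else 0 := by
  have hQQ : Q * X ^ (n + 1) * Q = Q := by simpa using F.rel (n + 1)
  have e : LinearMap.trace k U (eU X Q n i (i + h) * X ^ j) =
      LinearMap.trace k U (Q * X ^ (n + 1 - (i + h) + j + i)) := by
    rw [eU, mul_assoc, mul_assoc, LinearMap.trace_mul_comm, ← pow_add, mul_assoc, ← pow_add]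
  rw [e]
  split_ifs with hj
  · rw [show n + 1 - (i + h) + j + i = n + 1 by omega]
  · set m := n + 1 - (i + h) + j + i with hm
    rw [show Q * X ^ m = Q * (X ^ (n + 1) * (Q * X ^ m)) by rw [← mul_assoc Q (X ^ (n + 1)), ← mul_assoc, hQQ],
      LinearMap.trace_mul_comm, mul_assoc, F.rel, if_neg (show m ≠ n + 1 by omega), mul_zero, map_zero]

/-- Weight vectors generating the endomorphisms over `y`. -/
theorem exists_generators {y w : G} (hy : orderOf y = p) (hy1 : ρ y ≠ 1) (hfr : finrank k U + 1 < p)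
    (hreg : (ρ y - 1) ^ (finrank k U - 1) ≠ 0) {r : ℕ} (hw : w * y * w⁻¹ = y ^ r) (hwo : ¬ p ∣ orderOf w)
    {e : ℕ} (he0 : 0 < e) (hde : finrank k U + e ≤ p) (hed : e ≤ finrank k U) :
    ∃ f : ℕ → 𝕄, Submodule.span k (f '' Set.Iio (finrank k U)) ⊔ LinearMap.range (adRep ρ y - 1) = ⊤ ∧
      (∀ h < finrank k U, adRep ρ w (f h) = ((r : k)⁻¹) ^ h • f h) ∧
      ∀ h < e, ((adRep ρ y - 1) ^ (2 * h + 1)) (f h) = 0 := by
  haveI : Fintype G := Fintype.ofFinite G
  set S := Subgroup.zpowers y with hSd
  have hS : Nat.card S = p := by rw [Nat.card_zpowers, hy]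
  haveI : Fintype S := Fintype.ofFinite _
  have hyS : y ∈ S := Subgroup.mem_zpowers y
  obtain ⟨X, hXN, hu, hu', hXd, hXA, hXker, hscale⟩ := exists_scaled_log ρ hS hyS (by omega)
  obtain ⟨n, hn⟩ : ∃ n, finrank k U = n + 2 := by
    refine ⟨finrank k U - 2, ?_⟩
    by_contra h
    have h1 := A_pow_eq_zero ρ hS hyS
    rcases (show finrank k U = 0 ∨ finrank k U = 1 by omega) with e' | e' <;> rw [e'] at h1
    · rw [pow_zero] at h1
      exact hy1 (sub_eq_zero.1 (by rw [← mul_one (ρ y - 1), h1, mul_zero]))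
    · rw [pow_one] at h1
      exact hy1 (sub_eq_zero.1 h1)
  set A := ρ y - 1 with hAdef
  have hXn : X ^ (n + 2) = 0 := hn ▸ hXd
  have hXn' : X ^ (n + 1) ≠ 0 := fun h => hreg (by
    rw [hn, show n + 2 - 1 = n + 1 by omega]; exact hXA _ h)
  haveI : Fintype (Subgroup.zpowers w) := Fintype.ofFinite _
  obtain ⟨b, hb, hb0, hbw⟩ := exists_weight (k := k) hy hw
  set l₀ : Subgroup.zpowers w := ⟨w, Subgroup.mem_zpowers w⟩ with hl₀
  have hLc : (Nat.card (Subgroup.zpowers w) : k) ≠ 0 := by
    rw [Ne, CharP.cast_eq_zero_iff k p, Nat.card_zpowers]; exact hwo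
  obtain ⟨Q, F, htr, hQ⟩ := exists_frame (p := p) (hdp := by omega) (L := Subgroup.zpowers w) hLc
    (fun l => adAlg ρ (l : G)) (fun l m x => by
      show adAlg ρ ((l * m : Subgroup.zpowers w) : G) x = adAlg ρ (l : G) (adAlg ρ (m : G) x)
      simp only [adAlg_apply, Subgroup.coe_mul, map_mul]
      rfl)
    (fun l => (b l : k)) hb0 X (fun l => hscale _ _ (hb l)) hXn hXn'
  have hcw : adAlg ρ w X = (r : k) • X := hscale _ _ hw
  have hr0 : (r : k) ≠ 0 := hbw ▸ hb0 l₀
  have hQw : adAlg ρ w Q = ((r : k) ^ (n + 1))⁻¹ • Q := by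
    have h := hQ l₀
    rwa [hbw] at h
  -- the derivation
  set Em : Module.End k 𝕄 := LinearMap.mulLeft k X - LinearMap.mulRight k X with hEm
  have hE : ∀ f, Em f = X * f - f * X := fun f => rfl
  have hder : ∀ f g : 𝕄, Em (f * g) = Em f * g + f * Em g := fun f g => by
    rw [hE, hE, hE]; noncomm_ring
  have c2 : Em (bX X Q n) = 0 := F.bX_comm
  have c1 : Em (bH X Q n) = (-2 : k) • bX X Q n := F.bH_comm
  have c0 : Em (bY X Q n) = bH X Q n := F.bY_comm
  have hY : ∀ h, (Em ^ (2 * h + 1)) (bY X Q n ^ h) = 0 := by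
    intro h
    induction h with
    | zero => rw [pow_zero, mul_zero, zero_add, pow_one, hE, mul_one, one_mul, sub_self]
    | succ h ih =>
      rw [pow_succ (bY X Q n), show 2 * (h + 1) + 1 = 2 * h + 2 + 1 by omega]
      refine deriv_pow_mul Em hder _ (2 * h) 2 rfl _ _ ih ?_
      simp [pow_succ', Module.End.mul_apply, c0, c1, c2]
  set D : Module.End k 𝕄 := adRep ρ y - 1 with hD
  have hDker : ∀ (m : ℕ) (f : 𝕄), (Em ^ m) f = 0 → (D ^ m) f = 0 := by
    intro m f hf
    set L' := LinearMap.mulLeft k X with hL'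
    set R' := LinearMap.mulRight k X with hR'
    have hLR : Commute L' R' := LinearMap.commute_mulLeft_right X X
    set T : Module.End k 𝕄 := ∑ i ∈ range p, ((Nat.factorial i : k)⁻¹) •
      ∑ j ∈ range i, L' ^ j * R' ^ (i - 1 - j) with hT
    have hTE : LinearMap.mulLeft k A - LinearMap.mulRight k A = Em * T := by
      have e1 : ∀ f : 𝕄, (LinearMap.mulLeft k A - LinearMap.mulRight k A) f = texp k p X * f - f * texp k p X := by
        intro f
        rw [LinearMap.sub_apply, LinearMap.mulLeft_apply, LinearMap.mulRight_apply, hu, hAdef]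
        noncomm_ring
      refine LinearMap.ext fun f => ?_
      rw [e1, hT, mul_sum, texp, sum_mul, mul_sum, ← sum_sub_distrib, LinearMap.sum_apply]
      refine sum_congr rfl fun i _ => ?_
      rw [mul_smul_comm _ Em, LinearMap.smul_apply, hEm, hLR.mul_geom_sum₂, LinearMap.sub_apply,
        LinearMap.pow_mulLeft, LinearMap.pow_mulRight, LinearMap.mulLeft_apply, LinearMap.mulRight_apply,
        smul_sub, smul_mul_assoc, mul_smul_comm]
    have hc : Commute (Em * T) (LinearMap.mulRight k (ρ y⁻¹)) := by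
      rw [← hTE]
      refine (LinearMap.commute_mulLeft_right _ _).sub_left ?_
      refine LinearMap.ext fun g => ?_
      simp [hAdef, mul_assoc, sub_mul, mul_sub, rho_inv_mul, rho_mul_inv]
    have hET : Commute Em T := by
      rw [hT]
      refine Commute.sum_right _ _ _ fun i _ => (Commute.sum_right _ _ _ fun j _ => ?_).smul_right _
      exact (((Commute.refl L').sub_left hLR.symm).pow_right j).mul_right
        ((hLR.sub_left (Commute.refl R')).pow_right _)
    rw [hD, adRep_sub_one, ← hAdef, hTE, hc.mul_pow, (hc.pow_pow m m).eq, hET.mul_pow, (hET.pow_pow m m).eq,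
      Module.End.mul_apply, Module.End.mul_apply, hf, map_zero, map_zero]
  -- the vectors
  refine ⟨fun h => if h < e then bY X Q n ^ h else eU X Q n 0 h, ?_, fun h hh => ?_, fun h hh => ?_⟩
  · set Φ : 𝕄 →ₗ[k] (Fin (finrank k U) → k) := LinearMap.pi fun j => trForm.flip (X ^ (j : ℕ)) with hΦ
    have hΦa : ∀ f (j : Fin (finrank k U)), Φ f j = LinearMap.trace k U (f * X ^ (j : ℕ)) := fun f j => rfl
    have hτ : ∀ h < finrank k U, ∃ t : k, t ≠ 0 ∧ ∀ j : ℕ, LinearMap.trace k U
        ((if h < e then bY X Q n ^ h else eU X Q n 0 h) * X ^ j) = if j = h then t else 0 := by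
      intro h hh
      rcases Nat.eq_zero_or_pos h with h0 | h0
      · subst h0
        refine ⟨(finrank k U : k), fun h' => ?_, fun j => ?_⟩
        · rw [CharP.cast_eq_zero_iff k p] at h'
          have := Nat.le_of_dvd (by omega) h'
          omega
        · have h1 : (if 0 < e then bY X Q n ^ 0 else eU X Q n 0 0) * X ^ j = X ^ j := by
            rw [if_pos he0, pow_zero, one_mul]
          rw [h1]
          split_ifs with hj
          · subst hj
            rw [pow_zero, LinearMap.trace_one]
          · exact (LinearMap.isNilpotent_trace_of_isNilpotent ⟨n + 2, by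
              rw [← pow_mul, pow_eq_zero_of_le (Nat.le_mul_of_pos_left _ (Nat.pos_of_ne_zero hj)) hXn]⟩).eq_zero
      by_cases he : h < e
      · refine ⟨(∑ i ∈ range (n + 2 - h), yCoef k n h i) * LinearMap.trace k U (Q * X ^ (n + 1)),
          mul_ne_zero ?_ htr, fun j => ?_⟩
        · rw [sum_congr rfl fun i hi => yCoef_eq (k := k) n h i (by have := mem_range.1 hi; omega),
            ← Nat.cast_sum, ← mul_sum]
          have hV : ∑ i ∈ range (n + 2 - h), (i + h).choose h * (n + 1 - i).choose h =
              (n + 2 + h).choose (2 * h + 1) := by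
            rw [show n + 2 - h = (n + 1 - h) + 1 by omega,
              sum_congr rfl (g := fun i => (i + h).choose h * (n + 1 - h - i + h).choose h) fun i hi => by
                rw [show n + 1 - h - i + h = n + 1 - i by have := mem_range.1 hi; omega],
              sum_choose_mul, show n + 1 - h + h + h + 1 = n + 2 + h by omega, two_mul]
          rw [hV, Ne, CharP.cast_eq_zero_iff k p, hpF.out.dvd_mul, hpF.out.dvd_mul]
          rintro ((h' | h') | h')
          · have := (Nat.Prime.dvd_factorial hpF.out).1 h'; omega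
          · have := (Nat.Prime.dvd_factorial hpF.out).1 h'; omega
          · have h2 : p ∣ (n + 2 + h).factorial := by
              rw [← Nat.choose_mul_factorial_mul_factorial (show 2 * h + 1 ≤ n + 2 + h by omega)]
              exact (h'.mul_right _).mul_right _
            have := (Nat.Prime.dvd_factorial hpF.out).1 h2
            omega
        · rw [if_pos he]
          obtain ⟨h', rfl⟩ := Nat.exists_eq_succ_of_ne_zero h0.ne'
          rw [bY_pow F, sum_mul, map_sum]
          simp only [smul_mul_assoc, map_smul, smul_eq_mul]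
          rw [sum_congr rfl fun i hi => by rw [trace_eU_pow F (by have := mem_range.1 hi; omega)], ← sum_mul]
          split_ifs <;> simp
      · refine ⟨_, htr, fun j => ?_⟩
        rw [if_neg he]
        simpa using trace_eU_pow F (i := 0) (h := h) (j := j) (by omega)
    have hsurj : ∀ g, ∃ x ∈ Submodule.span k ((fun h => if h < e then bY X Q n ^ h else eU X Q n 0 h) ''
        Set.Iio (finrank k U)), Φ x = g := by
      intro g
      choose t ht htj using fun j : Fin (finrank k U) => hτ j j.2
      refine ⟨∑ j : Fin (finrank k U), (g j / t j) • (if (j : ℕ) < e then bY X Q n ^ (j : ℕ) else eU X Q n 0 j),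
        Submodule.sum_mem _ fun j _ => Submodule.smul_mem _ _ (Submodule.subset_span ⟨j, j.2, rfl⟩),
        funext fun i => ?_⟩
      rw [map_sum, Finset.sum_apply, sum_eq_single i]
      · rw [map_smul, Pi.smul_apply, hΦa, htj, if_pos rfl, smul_eq_mul, div_mul_cancel₀ _ (ht i)]
      · intro j _ hj
        rw [map_smul, Pi.smul_apply, hΦa, htj, if_neg (fun h' => hj (Fin.ext h'.symm)), smul_zero]
      · exact fun h' => absurd (Finset.mem_univ i) h'
    have hDran : LinearMap.range D ≤ LinearMap.ker Φ := by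
      rintro _ ⟨u, rfl⟩
      rw [LinearMap.mem_ker]
      funext j
      rw [hΦa, hD, LinearMap.sub_apply, Module.End.one_apply, sub_mul, map_sub, Pi.zero_apply,
        sub_eq_zero, ← trForm_apply, ← trForm_apply]
      have hc : Commute (ρ y) (X ^ (j : ℕ)) := by
        rw [← hu, texp]
        exact Commute.sum_left _ _ _ fun i _ => ((Commute.refl X).pow_pow i j).smul_left _
      rw [trForm_apply, trForm_apply, adRep_apply, mul_assoc, LinearMap.trace_mul_comm, ← mul_assoc,
        mul_assoc (ρ y⁻¹), ← hc.eq, ← mul_assoc, rho_inv_mul, one_mul, LinearMap.trace_mul_comm]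
    obtain ⟨v₀, hv₀⟩ : ∃ v, (A ^ (n + 1)) v ≠ 0 := by
      by_contra h
      push Not at h
      refine hreg ?_
      rw [hn, show n + 2 - 1 = n + 1 by omega]
      exact LinearMap.ext fun v => by simpa using h v
    have hAn : A ^ (n + 2) = 0 := hn ▸ A_pow_eq_zero ρ hS hyS
    have hspan : Submodule.span k (Set.range fun i : Fin (n + 2) => (A ^ (i : ℕ)) v₀) = ⊤ := by
      refine LinearIndependent.span_eq_top_of_card_eq_finrank' ?_ (by simp [hn])
      rw [Fintype.linearIndependent_iff]
      intro c hc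
      by_contra hne
      push Not at hne
      obtain ⟨i, hi, hmin⟩ := WellFounded.has_min (wellFounded_lt (α := Fin (n + 2))) {i | c i ≠ 0} hne
      refine hi ?_
      have h1 := congrArg (A ^ (n + 1 - (i : ℕ))) hc
      rw [map_sum, map_zero, Finset.sum_eq_single i] at h1
      · rw [map_smul, ← Module.End.mul_apply, ← pow_add,
          show n + 1 - (i : ℕ) + i = n + 1 by have := i.2; omega, smul_eq_zero] at h1
        exact h1.resolve_right hv₀
      · intro j _ hj
        rcases lt_or_gt_of_ne hj with h | h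
        · rw [show c j = 0 from not_not.1 fun hne => hmin j hne h, zero_smul, map_zero]
        · rw [map_smul, ← Module.End.mul_apply, ← pow_add,
            pow_eq_zero_of_le (show n + 2 ≤ n + 1 - (i : ℕ) + j by have := i.2; omega) hAn,
            LinearMap.zero_apply, smul_zero]
      · exact fun h => absurd (Finset.mem_univ _) h
    have hkd : finrank k (LinearMap.ker D) ≤ finrank k U := by
      refine LinearMap.finrank_le_finrank_of_injective
        (f := (LinearMap.applyₗ v₀).comp (LinearMap.ker D).subtype) fun f g hfg => ?_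
      have hcm : ∀ f : LinearMap.ker D, Commute (f : 𝕄) A := by
        intro f
        have h1 : ρ y * (f : 𝕄) * ρ y⁻¹ = (f : 𝕄) := sub_eq_zero.1 (LinearMap.mem_ker.1 f.2)
        refine Commute.sub_right ?_ (Commute.one_right _)
        show (f : 𝕄) * ρ y = ρ y * f
        conv_lhs => rw [← h1, mul_assoc, rho_inv_mul, mul_one]
      refine Subtype.ext (LinearMap.ext_on hspan ?_)
      rintro _ ⟨j, rfl⟩
      rw [← Module.End.mul_apply, ← Module.End.mul_apply, ((hcm f).pow_right _).eq, ((hcm g).pow_right _).eq,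
        Module.End.mul_apply, Module.End.mul_apply]
      exact congrArg _ hfg
    have hrk : LinearMap.range D = LinearMap.ker Φ := by
      refine Submodule.eq_of_le_of_finrank_le hDran ?_
      have h1 := Φ.finrank_range_add_finrank_ker
      have h2 : LinearMap.range Φ = ⊤ := LinearMap.range_eq_top.2 fun g => by
        obtain ⟨x, -, hx⟩ := hsurj g; exact ⟨x, hx⟩
      rw [h2, finrank_top, Module.finrank_fin_fun] at h1
      have h3 := D.finrank_range_add_finrank_ker
      omega
    rw [hrk, eq_top_iff]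
    intro f _
    obtain ⟨x, hx, hxf⟩ := hsurj (Φ f)
    rw [← add_sub_cancel x f]
    exact Submodule.add_mem_sup hx (by rw [LinearMap.mem_ker, map_sub, hxf, sub_self])
  · rw [← adAlg_apply]
    dsimp only
    split_ifs with he
    · rw [map_pow, F.map_bY _ hr0 hcw hQw, smul_pow]
    · rw [F.map_eU _ hr0 hcw hQw (by omega), pow_zero, one_div, inv_pow]
  · simp only [if_pos hh]
    exact hDker _ _ (hY h)

end Generators

end Cfsg.Agent.Feit.Gap
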