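import Cfsg.Agent.Lib.Feit.Lattice
import Mathlib.LinearAlgebra.Matrix.Kronecker
import Mathlib.Analysis.SpecialFunctions.Complex.CircleAddChar
import Mathlib.RepresentationTheory.Character

/-!
Integral forms for the maps from the endomorphisms of one module to another, and two rank bounds over
the complex numbers.
-/

set_option autoImplicit false
set_option linter.unusedSectionVars false
set_option linter.style.haveILetI false

namespace Cfsg.Agent.Feit

open IsLocalRing Module
open scoped Classical Kronecker Matrix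

section Pair

variable {R : Type*} [CommRing R] {d n : ℕ} {G : Type*} [Group G]

/-- The action on the maps from endomorphisms. -/
noncomputable def pairHom (m : G →* Matrix (Fin d) (Fin d) R) (mA : G →* Matrix (Fin n) (Fin n) R) :
    G →* Matrix ((Fin d × Fin d) × Fin n) ((Fin d × Fin d) × Fin n) R where
  toFun g := ((m g⁻¹).transpose ⊗ₖ m g) ⊗ₖ mA g
  map_one' := by simp
  map_mul' g h := by
    rw [mul_inv_rev, map_mul, map_mul, map_mul, Matrix.transpose_mul, Matrix.mul_kronecker_mul,
      Matrix.mul_kronecker_mul]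

theorem pairHom_trace (m : G →* Matrix (Fin d) (Fin d) R) (mA : G →* Matrix (Fin n) (Fin n) R) (g : G) :
    (pairHom m mA g).trace = (m g⁻¹).trace * (m g).trace * (mA g).trace := by
  show (((m g⁻¹).transpose ⊗ₖ m g) ⊗ₖ mA g).trace = _
  rw [Matrix.trace_kronecker, Matrix.trace_kronecker, Matrix.trace_transpose]

theorem pairHom_map {S : Type*} [CommRing S] (f : R →+* S) (m : G →* Matrix (Fin d) (Fin d) R)
    (mA : G →* Matrix (Fin n) (Fin n) R) (g : G) :
    (pairHom m mA g).map f = ((((m g⁻¹).map f).transpose) ⊗ₖ (m g).map f) ⊗ₖ (mA g).map f := by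
  ext ⟨⟨i, j⟩, a⟩ ⟨⟨i', j'⟩, a'⟩
  simp [pairHom, Matrix.kroneckerMap_apply]

/-- The coordinates of a map from endomorphisms. -/
noncomputable def pairMap :
    ((Fin d × Fin d) × Fin n → R) →ₗ[R] (Module.End R (Fin d → R) →ₗ[R] (Fin n → R)) where
  toFun z :=
    { toFun := fun f a => ∑ q : Fin d × Fin d, z (q, a) * LinearMap.toMatrix' f q.1 q.2
      map_add' := fun f g => funext fun a => by simp [mul_add, Finset.sum_add_distrib]
      map_smul' := fun c f => funext fun a => by simp [Finset.mul_sum, mul_left_comm] }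
  map_add' z z' := LinearMap.ext fun f => funext fun a => by
    simp [add_mul, Finset.sum_add_distrib]
  map_smul' c z := LinearMap.ext fun f => funext fun a => by simp [Finset.mul_sum, mul_assoc]

theorem pairMap_apply (z : (Fin d × Fin d) × Fin n → R) (f : Module.End R (Fin d → R)) (a : Fin n) :
    pairMap z f a = ∑ q : Fin d × Fin d, z (q, a) * LinearMap.toMatrix' f q.1 q.2 := rfl

theorem pairMap_injective : Function.Injective (pairMap (R := R) (d := d) (n := n)) := by
  intro z z' h
  funext ⟨⟨i, j⟩, a⟩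
  have h1 := congrFun (LinearMap.congr_fun h (Matrix.toLin' (Matrix.single i j 1))) a
  simp only [pairMap_apply, LinearMap.toMatrix'_toLin'] at h1
  rw [Finset.sum_eq_single (i, j), Finset.sum_eq_single (i, j)] at h1
  · simpa using h1
  all_goals first
    | exact fun h => absurd (Finset.mem_univ _) h
    | (intro q _ hq
       rw [Matrix.single_apply, if_neg (fun hh => hq (Prod.ext hh.1.symm hh.2.symm)), mul_zero])

theorem pairMap_mulVec (Mi Mg : Matrix (Fin d) (Fin d) R) (Ma : Matrix (Fin n) (Fin n) R)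
    (z : (Fin d × Fin d) × Fin n → R) (f : Module.End R (Fin d → R)) :
    pairMap (((Mi.transpose ⊗ₖ Mg) ⊗ₖ Ma).mulVec z) f =
      Matrix.toLin' Ma (pairMap z (Matrix.toLin' Mi * f * Matrix.toLin' Mg)) := by
  funext a
  have e : LinearMap.toMatrix' (Matrix.toLin' Mi * f * Matrix.toLin' Mg) =
      Mi * LinearMap.toMatrix' f * Mg := by
    rw [LinearMap.toMatrix'_mul, LinearMap.toMatrix'_mul, LinearMap.toMatrix'_toLin', LinearMap.toMatrix'_toLin']
  rw [Matrix.toLin'_apply]
  simp only [pairMap_apply, Matrix.mulVec, dotProduct, e, Finset.sum_mul]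
  rw [Finset.sum_comm, Fintype.sum_prod_type_right]
  refine Finset.sum_congr rfl fun a' _ => ?_
  rw [Finset.mul_sum]
  refine Finset.sum_congr rfl fun q' _ => ?_
  rw [Fintype.sum_prod_type_right]
  simp only [Matrix.mul_apply, Matrix.kroneckerMap_apply, Matrix.transpose_apply, Finset.sum_mul, Finset.mul_sum]
  refine Finset.sum_congr rfl fun j _ => Finset.sum_congr rfl fun i _ => ?_
  ring

end Pair

section Rank

variable {n : ℕ}

/-- The rank of a product over some eigenvalues of an element of order `p`. -/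
theorem rank_eigen_prod {p : ℕ} [NeZero p] (Y : Matrix (Fin n) (Fin n) ℂ) (hY : Y ^ p = 1) (a : ZMod p → ℤ)
    (htr : ∀ i : ZMod p, (Y ^ i.val).trace = ∑ j, (a j : ℂ) * ZMod.stdAddChar (i * j))
    (l : List (ZMod p)) :
    ((l.map fun b => Y - (ZMod.stdAddChar b : ℂ) • 1).prod.rank : ℤ) ≤
      ∑ b ∈ Finset.univ.filter (fun b => b ∉ l), a b := by
  set π : ZMod p → Matrix (Fin n) (Fin n) ℂ := fun b =>
    (p : ℂ)⁻¹ • ∑ i : ZMod p, (ZMod.stdAddChar (-(i * b)) : ℂ) • Y ^ i.val with hπ
  have hp0 : (p : ℂ) ≠ 0 := Nat.cast_ne_zero.2 (NeZero.ne p)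
  have hYadd : ∀ i j : ZMod p, Y ^ i.val * Y ^ j.val = Y ^ (i + j).val := fun i j => by
    rw [← pow_add, ZMod.val_add, ← pow_eq_pow_mod _ hY]
  have hsum : ∀ c : ZMod p, ∑ b : ZMod p, (ZMod.stdAddChar (c * b) : ℂ) = if c = 0 then (p : ℂ) else 0 := by
    intro c
    simp only [mul_comm c]
    rw [AddChar.sum_mulShift c (ZMod.isPrimitive_stdAddChar p)]
    simp [ZMod.card]
  have hone : ∑ b, π b = 1 := by
    simp only [hπ]
    rw [← Finset.smul_sum, Finset.sum_comm, Finset.sum_eq_single 0]
    · simp only [zero_mul, neg_zero, AddChar.map_zero_eq_one, one_smul, ZMod.val_zero, pow_zero,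
        Finset.sum_const, Finset.card_univ, ZMod.card, ← Nat.cast_smul_eq_nsmul ℂ, smul_smul,
        inv_mul_cancel₀ hp0, one_smul]
    · intro i _ hi
      rw [← Finset.sum_smul]
      simp only [← neg_mul]
      rw [hsum, if_neg (neg_ne_zero.2 hi), zero_smul]
    · exact fun h => absurd (Finset.mem_univ _) h
  have hshift : ∀ (b : ZMod p) (j : ZMod p), Y ^ j.val * π b = (ZMod.stdAddChar (j * b) : ℂ) • π b := by
    intro b j
    simp only [hπ, mul_smul_comm, Finset.mul_sum, hYadd, Finset.smul_sum, smul_smul]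
    refine Fintype.sum_equiv (Equiv.addLeft j) _ _ fun i => ?_
    rw [Equiv.coe_addLeft]
    congr 1
    rw [show -(i * b) = j * b + -((j + i) * b) by ring, AddChar.map_add_eq_mul]
    ring
  have hYπ : ∀ b, Y * π b = (ZMod.stdAddChar b : ℂ) • π b := by
    intro b
    rcases eq_or_ne p 1 with h1 | h1
    · subst h1
      rw [pow_one] at hY
      rw [hY, one_mul, show b = 0 from Subsingleton.elim _ _, AddChar.map_zero_eq_one, one_smul]
    · haveI : Fact (1 < p) := ⟨by have := NeZero.ne p; omega⟩
      have h := hshift b 1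
      rwa [ZMod.val_one, pow_one, one_mul] at h
  have hidem : ∀ b, IsIdempotentElem (π b) := by
    intro b
    show π b * π b = π b
    conv_lhs => arg 1; simp only [hπ]
    rw [smul_mul_assoc, Finset.sum_mul, Finset.sum_congr rfl (g := fun _ => π b) fun i _ => ?_]
    · rw [Finset.sum_const, Finset.card_univ, ZMod.card, ← Nat.cast_smul_eq_nsmul ℂ, smul_smul,
        inv_mul_cancel₀ hp0, one_smul]
    · rw [smul_mul_assoc, hshift, smul_smul, ← AddChar.map_add_eq_mul, neg_add_cancel, AddChar.map_zero_eq_one,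
        one_smul]
  have hrank : ∀ b, ((π b).rank : ℂ) = (a b : ℂ) := by
    intro b
    have hl : IsIdempotentElem (Matrix.toLin' (π b)) := by
      show _ * _ = _
      rw [Module.End.mul_eq_comp, ← Matrix.toLin'_mul, (hidem b).eq]
    have h1 := (LinearMap.IsIdempotentElem.isProj_range _ hl).trace
    rw [Matrix.trace_toLin'_eq] at h1
    rw [Matrix.rank, ← Matrix.toLin'_apply', ← h1]
    simp only [hπ, Matrix.trace_smul, Matrix.trace_sum, smul_eq_mul, htr, Finset.mul_sum]
    rw [Finset.sum_comm, Finset.sum_eq_single b]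
    · have e : ∀ i : ZMod p, (p : ℂ)⁻¹ * ((ZMod.stdAddChar (-(i * b)) : ℂ) * ((a b : ℂ) * ZMod.stdAddChar (i * b))) =
          (p : ℂ)⁻¹ * (a b : ℂ) := fun i => by
        rw [mul_left_comm (ZMod.stdAddChar (-(i * b)) : ℂ), ← AddChar.map_add_eq_mul, neg_add_cancel,
          AddChar.map_zero_eq_one, mul_one]
      rw [Finset.sum_congr rfl fun i _ => e i, Finset.sum_const, Finset.card_univ, ZMod.card, nsmul_eq_mul,
        ← mul_assoc, mul_inv_cancel₀ hp0, one_mul]
    · intro c _ hc
      have e : ∀ i : ZMod p, (p : ℂ)⁻¹ * ((ZMod.stdAddChar (-(i * b)) : ℂ) * ((a c : ℂ) * ZMod.stdAddChar (i * c))) =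
          ((p : ℂ)⁻¹ * (a c : ℂ)) * ZMod.stdAddChar ((c - b) * i) := fun i => by
        rw [show (c - b) * i = -(i * b) + i * c by ring, AddChar.map_add_eq_mul]
        ring
      rw [Finset.sum_congr rfl fun i _ => e i, ← Finset.mul_sum, hsum, if_neg (sub_ne_zero.2 hc), mul_zero]
    · exact fun h => absurd (Finset.mem_univ _) h
  set Ψ := (l.map fun b => Y - (ZMod.stdAddChar b : ℂ) • 1).prod with hΨ
  have hkill : ∀ b, ∃ c : ℂ, Ψ * π b = c • π b ∧ (b ∈ l → c = 0) := by
    intro b
    rw [hΨ]
    clear hΨ Ψ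
    induction l with
    | nil => exact ⟨1, by simp, fun h => absurd h (List.not_mem_nil)⟩
    | cons x l ih =>
      obtain ⟨c, hc, hc0⟩ := ih
      refine ⟨c * ((ZMod.stdAddChar b : ℂ) - ZMod.stdAddChar x), ?_, fun h => ?_⟩
      · rw [List.map_cons, List.prod_cons, mul_assoc, hc, mul_smul_comm, sub_mul, hYπ, smul_mul_assoc, one_mul,
          ← sub_smul, smul_smul]
      · rcases List.mem_cons.1 h with rfl | h
        · rw [sub_self, mul_zero]
        · rw [hc0 h, zero_mul]
  set T := Finset.univ.filter (fun b : ZMod p => b ∉ l) with hT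
  have hΨT : Ψ = Ψ * ∑ b ∈ T, π b := by
    conv_lhs => rw [← mul_one Ψ, ← hone, Finset.mul_sum]
    rw [Finset.mul_sum]
    refine (Finset.sum_subset (Finset.subset_univ T) fun b _ hb => ?_).symm
    obtain ⟨c, hc, hc0⟩ := hkill b
    rw [hc, hc0 (not_not.1 fun h => hb (Finset.mem_filter.2 ⟨Finset.mem_univ _, h⟩)), zero_smul]
  have hsumrank : ∀ u : Finset (ZMod p), (∑ b ∈ u, π b).rank ≤ ∑ b ∈ u, (π b).rank := by
    intro u
    induction u using Finset.induction_on with
    | empty => simp
    | insert x u hx ih =>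
      rw [Finset.sum_insert hx, Finset.sum_insert hx]
      refine (le_trans ?_ (Nat.add_le_add_left ih _))
      rw [Matrix.rank, Matrix.rank, Matrix.rank, Matrix.mulVecLin_add]
      exact (Submodule.finrank_mono (LinearMap.range_add_le _ _)).trans (Submodule.finrank_add_le_finrank_add_finrank _ _)
  have hle : Ψ.rank ≤ ∑ b ∈ T, (π b).rank := by
    rw [hΨT]
    exact (Matrix.rank_mul_le_right _ _).trans (hsumrank T)
  refine (Int.ofNat_le.2 hle).trans (le_of_eq ?_)
  push_cast
  refine Finset.sum_congr rfl fun b _ => ?_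
  exact_mod_cast hrank b

variable {V : ValuationSubring ℂ} {G : Type*} [Group G]

/-- The fixed vectors of an element of order prime to `p` do not grow under reduction. -/
theorem exists_fixed_bound {p : ℕ} [Fact p.Prime] [CharP (ResidueField V) p]
    (mA : G →* Matrix (Fin n) (Fin n) V) (w : G) (hw : ¬ p ∣ orderOf w) :
    ∃ D : ℕ, finrank (ResidueField V) (LinearMap.ker (Matrix.toLin' ((mA w).map (residue V)) - 1)) ≤ D ∧
      (orderOf w : ℂ) * D = ∑ i ∈ Finset.range (orderOf w), ((mA (w ^ i)).trace : ℂ) := by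
  set m := orderOf w with hm
  have hmr : residue V (m : V) ≠ 0 := by
    rw [map_natCast, Ne, CharP.cast_eq_zero_iff (ResidueField V) p]; exact hw
  have hunit : IsUnit (m : V) := by
    by_contra h
    exact hmr ((residue_eq_zero_iff _).2 h)
  obtain ⟨u, hu⟩ := hunit
  set E : Matrix (Fin n) (Fin n) V := ((u⁻¹ : Vˣ) : V) • ∑ i ∈ Finset.range m, mA (w ^ i) with hE
  set Ec := V.subtype.mapMatrix E with hEc
  have hwE : mA w * E = E := by
    rw [hE, mul_smul_comm, Finset.mul_sum]
    congr 1
    simp only [← map_mul, ← pow_succ']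
    rcases Nat.eq_zero_or_pos m with h0 | h0
    · rw [h0]; simp
    · obtain ⟨m', hm'⟩ := Nat.exists_eq_succ_of_ne_zero h0.ne'
      rw [hm', Finset.sum_range_succ, Finset.sum_range_succ', show w ^ (m' + 1) = w ^ 0 by
        rw [pow_zero, ← pow_orderOf_eq_one w, ← hm, hm']]
  have hiE : ∀ i : ℕ, mA (w ^ i) * E = E := by
    intro i
    induction i with
    | zero => rw [pow_zero, map_one, one_mul]
    | succ i ih => rw [pow_succ, map_mul, mul_assoc, hwE, ih]
  have hEE : E * E = E := by
    conv_lhs => arg 1; rw [hE]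
    rw [smul_mul_assoc, Finset.sum_mul, Finset.sum_congr rfl fun i _ => hiE i, Finset.sum_const, Finset.card_range,
      ← Nat.cast_smul_eq_nsmul V, smul_smul, ← hu, Units.inv_mul, one_smul]
  refine ⟨Ec.rank, le_trans ?_ (rank_map_residue_le E), ?_⟩
  · rw [Matrix.rank]
    refine Submodule.finrank_mono fun v hv => ⟨v, ?_⟩
    have hv' : (mA w).map (residue V) *ᵥ v = v := by
      have := LinearMap.mem_ker.1 hv
      rwa [LinearMap.sub_apply, Module.End.one_apply, sub_eq_zero, Matrix.toLin'_apply] at this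
    have hvi : ∀ i : ℕ, (residue V).mapMatrix (mA (w ^ i)) *ᵥ v = v := by
      intro i
      induction i with
      | zero => rw [pow_zero, map_one, map_one, Matrix.one_mulVec]
      | succ i ih => rw [pow_succ, map_mul, map_mul, ← Matrix.mulVec_mulVec, show (residue V).mapMatrix (mA w) = (mA w).map (residue V) from rfl, hv', ih]
    show (residue V).mapMatrix E *ᵥ v = v
    have hsm : (residue V).mapMatrix E = residue V ((u⁻¹ : Vˣ) : V) •
        ∑ i ∈ Finset.range m, (residue V).mapMatrix (mA (w ^ i)) := by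
      rw [hE]
      ext i j
      simp [Matrix.sum_apply]
    rw [hsm, Matrix.smul_mulVec, Matrix.sum_mulVec, Finset.sum_congr rfl fun i _ => hvi i, Finset.sum_const,
      Finset.card_range, ← Nat.cast_smul_eq_nsmul (ResidueField V), smul_smul, ← map_natCast (residue V),
      ← map_mul, ← hu, Units.inv_mul, map_one, one_smul]
  · have hl : IsIdempotentElem (Matrix.toLin' Ec) := by
      show _ * _ = _
      rw [Module.End.mul_eq_comp, ← Matrix.toLin'_mul, hEc, ← map_mul, hEE]
    have h1 := (LinearMap.IsIdempotentElem.isProj_range _ hl).trace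
    rw [Matrix.trace_toLin'_eq] at h1
    rw [Matrix.rank, ← Matrix.toLin'_apply', ← h1, hEc]
    have htr : (V.subtype.mapMatrix E).trace = ((E.trace : V) : ℂ) := by
      simp [Matrix.trace]
    rw [htr, hE, Matrix.trace_smul, Matrix.trace_sum, smul_eq_mul]
    push_cast
    rw [← mul_assoc, show ((m : ℕ) : ℂ) = (((u : Vˣ) : V) : ℂ) by rw [hu]; norm_cast]
    rw [← MulMemClass.coe_mul, Units.mul_inv]
    push_cast
    rw [one_mul]

end Rank

/-- The invariants as an average. -/
theorem finrank_invariants_eq {G : Type*} [Group G] [Fintype G] {W : Type*} [AddCommGroup W] [Module ℂ W]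
    [FiniteDimensional ℂ W] (ρ : Representation ℂ G W) :
    (finrank ℂ (Representation.invariants ρ) : ℂ) = (Nat.card G : ℂ)⁻¹ * ∑ g : G, ρ.character g := by
  haveI : Invertible (Fintype.card G : ℂ) := invertibleOfNonzero (Nat.cast_ne_zero.2 Fintype.card_ne_zero)
  rw [← (Representation.isProj_averageMap ρ).trace, Nat.card_eq_fintype_card]
  simp [Representation.character, GroupAlgebra.average, _root_.map_sum]

end Cfsg.Agent.Feit
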