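import Cfsg.Agent.Lib.Feit.Square

/-!
The normaliser of a subgroup of order `p` as powers of one element modulo the centraliser, and the sums
over it of class functions.
-/

set_option autoImplicit false
set_option linter.unusedSectionVars false
set_option linter.style.haveILetI false

namespace Cfsg.Agent.Feit

open Cfsg Cfsg.Agent.Char Cfsg.Agent.Blocks Cfsg.Agent.CCSylow Cfsg.Agent.DefOne
open Cfsg.Agent.SmallDeg16 (Coord HasMult orbit_index lam_bijective)

universe u

section Counts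

variable {p : ℕ} [Fact p.Prime] {e : ℕ}

theorem R_neg_swap (c : ZMod p) : R e (-1) (-c) = R e (-1) c := by
  refine Finset.card_bij (fun q _ => (q.2, q.1)) (fun q hq => ?_)
    (fun a _ b _ h => Prod.ext (congrArg Prod.snd h) (congrArg Prod.fst h)) fun q hq => ⟨(q.2, q.1), ?_, rfl⟩
  all_goals
    simp only [Finset.mem_filter, Finset.mem_product] at hq ⊢
    exact ⟨⟨hq.1.2, hq.1.1⟩, by linear_combination -hq.2⟩

theorem R_scale {h : ZMod p} (hh : h ∈ roots e) (he : 0 < e) (c : ZMod p) :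
    R e (-1) (h * c) = R e (-1) c := by
  have h0 : h ≠ 0 := by
    rintro rfl
    rw [mem_roots, zero_pow he.ne'] at hh
    exact zero_ne_one hh
  rw [mem_roots] at hh
  refine (Finset.card_bij (fun q _ => (h * q.1, h * q.2)) (fun q hq => ?_)
    (fun a _ b _ h' => Prod.ext (mul_left_cancel₀ h0 (congrArg Prod.fst h'))
      (mul_left_cancel₀ h0 (congrArg Prod.snd h'))) fun q hq => ?_).symm
  · simp only [Finset.mem_filter, Finset.mem_product, mem_roots] at hq ⊢
    exact ⟨⟨by rw [mul_pow, hh, hq.1.1, one_mul], by rw [mul_pow, hh, hq.1.2, one_mul]⟩,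
      by linear_combination h * hq.2⟩
  · simp only [Finset.mem_filter, Finset.mem_product, mem_roots] at hq
    refine ⟨(h⁻¹ * q.1, h⁻¹ * q.2), ?_, Prod.ext (mul_inv_cancel_left₀ h0 _) (mul_inv_cancel_left₀ h0 _)⟩
    simp only [Finset.mem_filter, Finset.mem_product, mem_roots]
    refine ⟨⟨by rw [mul_pow, inv_pow, hh, hq.1.1, inv_one, one_mul],
      by rw [mul_pow, inv_pow, hh, hq.1.2, inv_one, one_mul]⟩, ?_⟩
    apply mul_left_cancel₀ h0
    rw [mul_add, mul_left_comm h (-1), mul_inv_cancel_left₀ h0, mul_inv_cancel_left₀ h0, hq.2]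

end Counts

theorem conj_pow_pow {G : Type*} [Group G] {y w : G} {r : ℕ} (h : w * y * w⁻¹ = y ^ r) :
    ∀ k : ℕ, w ^ k * y * (w ^ k)⁻¹ = y ^ (r ^ k) := by
  intro k
  induction k with
  | zero => simp
  | succ k ih =>
    calc w ^ (k + 1) * y * (w ^ (k + 1))⁻¹ = w ^ k * (w * y * w⁻¹) * (w ^ k)⁻¹ := by rw [pow_succ]; group
      _ = (w ^ k * y * (w ^ k)⁻¹) ^ r := by rw [h, conj_pow]
      _ = y ^ (r ^ (k + 1)) := by rw [ih, ← pow_mul, ← pow_succ]

variable {G : Type u} [Group G] [Fintype G] {p : ℕ} [NeZero p] [Fact p.Prime]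
  {P V N : Subgroup G} {e : ℕ} (K : Conf p P V N e)
  [Fintype P] [Fintype V] [Fintype N] [Fintype (P →* ℂˣ)] (C : Coord p P)

include K

theorem coord_pow_eq {a b : ℕ} (h : (a : ZMod p) = b) : (C.y : G) ^ a = (C.y : G) ^ b := by
  have hp : (C.y : G) ^ p = 1 := congrArg Subtype.val C.pow
  rw [pow_eq_pow_mod a hp, pow_eq_pow_mod b hp, (ZMod.natCast_eq_natCast_iff a b p).1 h]

theorem coord_order : orderOf (C.y : G) = p := by
  refine orderOf_P' K C.y.2 fun h => ?_
  have h1 := C.val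
  rw [show C.y = 1 from Subtype.ext h, map_one, Units.val_one] at h1
  exact one_ne_zero (ZMod.injective_stdAddChar ((AddChar.map_zero_eq_one _).trans h1)).symm

/-- The exponents of the action on `P` are the indices of the action on its characters. -/
theorem lT_eq_iff (n : N) (i : ZMod p) :
    lT K.D n (C.lam 1) = C.lam i ↔ (n : G) * C.y * (n : G)⁻¹ = (C.y : G) ^ i.val := by
  have h1 : C.el 1 = C.y := by
    rw [Coord.el, ZMod.val_one, pow_one]
  obtain ⟨a, ha⟩ := C.el_surjective ⟨(n : G) * C.y * (n : G)⁻¹, K.D.hNP _ n.2 _ C.y.2⟩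
  have haG : (n : G) * C.y * (n : G)⁻¹ = (C.y : G) ^ a.val := by
    have := congrArg Subtype.val ha
    rw [Coord.el, SubmonoidClass.coe_pow] at this
    exact this.symm
  have key : lT K.D n (C.lam 1) = C.lam a := by
    refine MonoidHom.ext fun x => ?_
    obtain ⟨j, rfl⟩ := C.el_surjective x
    rw [Coord.el, map_pow, map_pow]
    congr 1
    refine Units.ext ?_
    rw [lT_apply, ← ha, C.lam_el, mul_one, ← h1, C.lam_el, one_mul]
  constructor
  · intro h
    rw [key] at h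
    rw [haG, C.lam_injective h]
  · intro h
    have : a = i := C.el_injective (Subtype.ext (by
      rw [Coord.el, Coord.el, SubmonoidClass.coe_pow, SubmonoidClass.coe_pow, ← haG, h]))
    rw [← this]; exact key

/-- An element of order prime to `p` generating the normaliser over the centraliser. -/
theorem exists_weight_gen {t : ℕ} (hp : p = t * e + 1) :
    ∃ (w : G) (r : ℕ), w ∈ N ∧ w * C.y * w⁻¹ = (C.y : G) ^ r ∧ orderOf (r : ZMod p) = e ∧
      ¬ p ∣ orderOf w ∧ w ^ e ∈ V ∧ ∀ n ∈ N, ∃ i j : ℕ, ∃ z ∈ V, n = (C.y : G) ^ i * w ^ j * z := by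
  have he := CCSylow.e_pos K.D
  have hpp := K.hp
  obtain ⟨g, hg⟩ := IsCyclic.exists_generator (α := (ZMod p)ˣ)
  have hg' : IsPrimitiveRoot (g : ZMod p) (p - 1) := by
    have ho : orderOf (g : ZMod p) = p - 1 := by
      rw [orderOf_units, orderOf_eq_card_of_forall_mem_zpowers hg, Nat.card_eq_fintype_card, ZMod.card_units]
    rw [← ho]
    exact IsPrimitiveRoot.orderOf _
  set i₀ : ZMod p := (g : ZMod p) ^ t with hi₀
  have hr : IsPrimitiveRoot i₀ e := hg'.pow (by have := hpp.two_le; omega) (by omega)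
  obtain ⟨n₀, hn₀⟩ := (orbit_index K C he).2 i₀ hr.pow_eq_one
  rw [lT_eq_iff K C] at hn₀
  set w : G := (n₀ : G) ^ p with hw
  have hwN : w ∈ N := N.pow_mem n₀.2 p
  have hwy : w * C.y * w⁻¹ = (C.y : G) ^ (i₀.val ^ p) := conj_pow_pow hn₀ p
  have hcast : ((i₀.val ^ p : ℕ) : ZMod p) = i₀ := by
    rw [Nat.cast_pow, ZMod.natCast_zmod_val, ZMod.pow_card]
  have hwo : ¬ p ∣ orderOf w := by
    intro h
    rw [hw, orderOf_pow] at h
    by_cases hd : p ∣ orderOf (n₀ : G)
    · rw [Nat.gcd_eq_right hd] at h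
      exact K.hsq (((pow_two p) ▸ Nat.mul_dvd_of_dvd_div hd h).trans
        ((orderOf_dvd_natCard _).trans dvd_rfl))
    · exact hd (h.trans (Nat.div_dvd_of_dvd (Nat.gcd_dvd_left _ _)))
  have hcop : ∀ k : ℕ, ∀ x ∈ P, ∀ v ∈ V, w ^ k = x * v → x = 1 := by
    intro k x hx v hv h
    have h1 : x ^ orderOf w = (v ^ orderOf w)⁻¹ := by
      rw [eq_inv_iff_mul_eq_one, ← (show Commute x v from K.D.pv x hx v hv).mul_pow, ← h, ← pow_mul, mul_comm,
        pow_mul, pow_orderOf_eq_one, one_pow]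
    have hxp : x ^ p = 1 := by
      rw [← K.hP]
      exact congrArg Subtype.val (pow_card_eq_one' (x := (⟨x, hx⟩ : P)))
    have hv1 : (x ^ orderOf w) ^ Nat.card V = 1 := by
      rw [h1, inv_pow, ← pow_mul, mul_comm, pow_mul,
        show v ^ Nat.card V = 1 from congrArg Subtype.val (pow_card_eq_one' (x := (⟨v, hv⟩ : V))), one_pow,
        inv_one]
    have hp1 : (x ^ orderOf w) ^ p = 1 := by rw [← pow_mul, mul_comm, pow_mul, hxp, one_pow]
    have h2 : x ^ orderOf w = 1 :=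
      CharExtend.eq_one_of_pow_coprime hp1 hv1 (by rw [← K.hP]; exact K.D.cop)
    exact CharExtend.eq_one_of_pow_coprime hxp h2 (hpp.coprime_iff_not_dvd.2 hwo)
  have hcent : ∀ n : G, n * C.y * n⁻¹ = C.y → ∃ x ∈ P, ∃ v ∈ V, x * v = n := by
    intro n hn
    refine (K.hC n).1 ?_
    rw [← centralizer_singleton_eq hpp K.hP C.y.2 fun h => by
      have := coord_order K C; rw [h, orderOf_one] at this; exact hpp.ne_one this.symm,
      Subgroup.mem_centralizer_singleton_iff]
    exact (mul_inv_eq_iff_eq_mul.1 hn)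
  refine ⟨w, i₀.val ^ p, hwN, hwy, ?_, hwo, ?_, fun n hn => ?_⟩
  · rw [hcast]; exact hr.eq_orderOf.symm
  · obtain ⟨x, hx, v, hv, h⟩ := hcent (w ^ e) (by
      rw [conj_pow_pow hwy e, coord_pow_eq K C (b := 1) (by rw [Nat.cast_pow, hcast, hr.pow_eq_one, Nat.cast_one]),
        pow_one])
    rw [← h, hcop e x hx v hv h.symm, one_mul]
    exact hv
  · obtain ⟨a, ha⟩ := C.el_surjective ⟨n * C.y * n⁻¹, K.D.hNP _ hn _ C.y.2⟩
    have haG : n * C.y * n⁻¹ = (C.y : G) ^ a.val := by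
      have := congrArg Subtype.val ha
      rw [Coord.el, SubmonoidClass.coe_pow] at this
      exact this.symm
    have hroot := (orbit_index K C he).1 ⟨n, hn⟩ a ((lT_eq_iff K C ⟨n, hn⟩ a).2 haG)
    haveI : NeZero e := ⟨he.ne'⟩
    obtain ⟨j, -, hj⟩ := hr.eq_pow_of_pow_eq_one hroot
    have hjn : n * C.y * n⁻¹ = w ^ j * C.y * (w ^ j)⁻¹ := by
      rw [conj_pow_pow hwy j, haG]
      exact coord_pow_eq K C (by rw [ZMod.natCast_zmod_val, Nat.cast_pow, hcast, hj])
    obtain ⟨x, hx, v, hv, h⟩ := hcent ((w ^ j)⁻¹ * n) (by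
      rw [show (w ^ j)⁻¹ * n * (C.y : G) * ((w ^ j)⁻¹ * n)⁻¹ = (w ^ j)⁻¹ * (n * C.y * n⁻¹) * w ^ j by group, hjn]
      group)
    obtain ⟨b, hb⟩ := C.el_surjective ⟨w ^ j * x * (w ^ j)⁻¹, K.D.hNP _ (N.pow_mem hwN j) _ hx⟩
    have hbG : w ^ j * x * (w ^ j)⁻¹ = (C.y : G) ^ b.val := by
      have := congrArg Subtype.val hb
      rw [Coord.el, SubmonoidClass.coe_pow] at this
      exact this.symm
    refine ⟨b.val, j, v, hv, ?_⟩
    rw [← hbG, inv_mul_cancel_right, mul_assoc, h, mul_inv_cancel_left]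

/-- The sum over the normaliser of a class function trivial on the centre part. -/
theorem gap_sum_N (hV : V ≤ Subgroup.center G) {w : G} {r : ℕ} (hwN : w ∈ N)
    (hwy : w * C.y * w⁻¹ = (C.y : G) ^ r) (hr : orderOf (r : ZMod p) = e) (hwe : w ^ e ∈ V)
    (hgen : ∀ n ∈ N, ∃ i j : ℕ, ∃ z ∈ V, n = (C.y : G) ^ i * w ^ j * z)
    (F : G → ℂ) (hcl : IsClassFunction G F) (hFV : ∀ v ∈ V, ∀ g, F (v * g) = F g) {a : ZMod p → ℤ}
    (ha : HasMult C F a) :
    ∑ n : N, F n = ((p : ℂ) * Nat.card V) * ((a 0 : ℂ) + ∑ j ∈ Finset.Ico 1 e, F (w ^ j)) := by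
  have he := CCSylow.e_pos K.D
  let g : Fin e × (P × V) → N := fun q => ⟨(q.2.1 : G) * w ^ (q.1 : ℕ) * q.2.2,
    N.mul_mem (N.mul_mem (le_N K q.2.1.2) (N.pow_mem hwN _)) (cent_le_N K (V_le_cent K q.2.2.2))⟩
  have hsurj : Function.Surjective g := by
    intro n
    obtain ⟨i, j, z, hz, hn⟩ := hgen n n.2
    refine ⟨(⟨j % e, Nat.mod_lt _ he⟩, (C.y ^ i, ⟨(w ^ e) ^ (j / e) * z, V.mul_mem (V.pow_mem hwe _) hz⟩)),
      Subtype.ext ?_⟩
    show ((C.y ^ i : P) : G) * w ^ (j % e) * ((w ^ e) ^ (j / e) * z) = _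
    rw [hn, SubmonoidClass.coe_pow, ← pow_mul, mul_assoc, ← mul_assoc (w ^ (j % e)), ← pow_add, Nat.mod_add_div,
      mul_assoc]
  have hbij : Function.Bijective g := (Fintype.bijective_iff_surjective_and_card g).2 ⟨hsurj, by
    have h := K.D.hcard
    rw [Nat.card_eq_fintype_card] at h
    rw [h, Fintype.card_prod, Fintype.card_fin, Fintype.card_prod, Nat.card_eq_fintype_card,
      Nat.card_eq_fintype_card]⟩
  rw [← hbij.sum_comp (fun n : N => F n), Fintype.sum_prod_type]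
  have hterm : ∀ j : Fin e, ∑ q : P × V, F ((g (j, q) : N) : G) =
      ((p : ℂ) * Nat.card V) * (if (j : ℕ) = 0 then (a 0 : ℂ) else F (w ^ (j : ℕ))) := by
    intro j
    have hval : ∀ q : P × V, F ((g (j, q) : N) : G) = F ((q.1 : G) * w ^ (j : ℕ)) := fun q => by
      show F ((q.1 : G) * w ^ (j : ℕ) * q.2) = _
      rw [Subgroup.mem_center_iff.1 (hV q.2.2) _, hFV _ q.2.2]
    rw [Finset.sum_congr rfl fun q _ => hval q, Fintype.sum_prod_type]
    simp only [Finset.sum_const, Finset.card_univ, nsmul_eq_mul, ← Finset.mul_sum, ← Nat.card_eq_fintype_card]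
    rw [mul_comm (p : ℂ), mul_assoc]
    congr 1
    split_ifs with h0
    · simp only [h0, pow_zero, mul_one]
      exact sum_hasMult K ha
    · have hout : w ^ (j : ℕ) ∉ Subgroup.centralizer (P : Set G) := by
        intro hmem
        have h1 := conj_pow_pow hwy (j : ℕ)
        rw [← Subgroup.mem_centralizer_iff.1 hmem _ C.y.2, mul_inv_cancel_right] at h1
        have h2 : ((r ^ (j : ℕ) : ℕ) : ZMod p) = 1 := by
          have h3 := pow_eq_pow_iff_modEq.1 ((pow_one (C.y : G)).trans h1)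
          rw [coord_order K C] at h3
          rw [← Nat.cast_one, ZMod.natCast_eq_natCast_iff]
          exact h3.symm
        rw [Nat.cast_pow, ← orderOf_dvd_iff_pow_eq_one, hr] at h2
        exact h0 (Nat.eq_zero_of_dvd_of_lt h2 j.2)
      rw [Finset.sum_congr rfl (g := fun _ => F (w ^ (j : ℕ))) fun x _ => ?_, Finset.sum_const, Finset.card_univ,
        ← Nat.card_eq_fintype_card, K.hP, nsmul_eq_mul]
      obtain ⟨z, hz⟩ := exists_conj_out K (n := ⟨_, N.pow_mem hwN (j : ℕ)⟩) hout x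
      rw [← hz]
      exact hcl _ z
  rw [Finset.sum_congr rfl fun j _ => hterm j, ← Finset.mul_sum,
    Fin.sum_univ_eq_sum_range (fun j => if j = 0 then (a 0 : ℂ) else F (w ^ j)) e]
  congr 1
  rw [Finset.range_eq_Ico, ← Finset.sum_Ico_consecutive _ (Nat.zero_le 1) (show 1 ≤ e from he)]
  congr 1
  · simp
  · exact Finset.sum_congr rfl fun j hj => if_neg (by have := (Finset.mem_Ico.1 hj).1; omega)

end Cfsg.Agent.Feit
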