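import Cfsg.Agent.Lib.Feit.Basic
import Mathlib.LinearAlgebra.Eigenspace.Basic
import Mathlib.LinearAlgebra.FiniteDimensional.Lemmas
import Mathlib.RingTheory.Nilpotent.Basic
import Mathlib.Algebra.CharP.Lemmas
import Mathlib.Algebra.CharP.Algebra
import Mathlib.Data.Nat.Choose.Dvd
import Mathlib.Algebra.Ring.GeomSum
import Mathlib.Tactic.NoncommRing

/-!
The bound on the fixed space of traced maps between two modules of a group `P ⋊ ⟨w⟩`: the frame vectors of
small index only reach the top of the filtration by powers of `Y - 1`, and complementary indices pair up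
under the Frobenius rank inequality.
-/

set_option autoImplicit false
set_option maxHeartbeats 1000000
set_option linter.unusedSectionVars false
set_option linter.style.haveILetI false

namespace Cfsg.Agent.Feit

open Module

section Ring

variable {R : Type*} [Ring R] {p : ℕ} [hpF : Fact p.Prime] [CharP R p]

/-- The sums `∑ (i choose j) z^i` are divisible by `(z - 1) ^ (p - 1 - j)`. -/
theorem gap_choose_sum (z : R) (hz : z ^ p = 1) {j : ℕ} (hj : j < p) :
    ∃ c, ∑ i ∈ Finset.range p, (i.choose j : R) * z ^ i = (z - 1) ^ (p - 1 - j) * c := by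
  suffices H : ∀ n j, j + n + 1 = p →
      ∃ c, ∑ i ∈ Finset.range p, (i.choose j : R) * z ^ i = (z - 1) ^ n * c by
    exact H (p - 1 - j) j (by omega)
  intro n
  induction n with
  | zero =>
    intro j hj
    refine ⟨z ^ j, ?_⟩
    rw [pow_zero, one_mul, Finset.sum_eq_single j]
    · simp
    · intro i hi hij
      have := Finset.mem_range.1 hi
      rw [Nat.choose_eq_zero_of_lt (by omega), Nat.cast_zero, zero_mul]
    · intro h
      exact absurd (Finset.mem_range.2 (by omega)) h
  | succ n ih =>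
    intro j hj
    obtain ⟨c, hc⟩ := ih (j + 1) (by omega)
    set G := ∑ i ∈ Finset.range p, (i.choose j : R) * z ^ i with hG
    set G' := ∑ i ∈ Finset.range p, (i.choose (j + 1) : R) * z ^ i with hG'
    have h1 : z * G + z * G' = G' := by
      have e1 : z * G + z * G' = ∑ i ∈ Finset.range p, ((i + 1).choose (j + 1) : R) * z ^ (i + 1) := by
        rw [hG, hG', Finset.mul_sum, Finset.mul_sum, ← Finset.sum_add_distrib]
        refine Finset.sum_congr rfl fun i _ => ?_
        rw [Nat.choose_succ_succ, Nat.cast_add, add_mul, ← mul_assoc z, ← mul_assoc z,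
          ← (Nat.cast_commute (i.choose j) z).eq, ← (Nat.cast_commute (i.choose (j + 1)) z).eq,
          mul_assoc, mul_assoc, ← pow_succ']
      have e2 := Finset.sum_range_succ' (fun i => (i.choose (j + 1) : R) * z ^ i) p
      rw [Finset.sum_range_succ, Nat.choose_zero_succ, Nat.cast_zero, zero_mul, add_zero] at e2
      rw [e1, ← e2, (CharP.cast_eq_zero_iff R p _).2 (hpF.out.dvd_choose_self (Nat.succ_ne_zero j) (by omega)),
        zero_mul, add_zero]
    have hzz : z ^ (p - 1) * z = 1 := by
      rw [← pow_succ, Nat.sub_add_cancel hpF.out.one_le, hz]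
    have h2 : z * G = (1 - z) * G' := by rw [sub_mul, one_mul]; exact eq_sub_of_add_eq h1
    refine ⟨-(z ^ (p - 1) * c), ?_⟩
    calc G = z ^ (p - 1) * z * G := by rw [hzz, one_mul]
      _ = z ^ (p - 1) * (1 - z) * ((z - 1) ^ n * c) := by rw [mul_assoc, h2, hc, mul_assoc]
      _ = -((z - 1) ^ (n + 1) * (z ^ (p - 1) * c)) := by
        have hc1 : Commute (z ^ (p - 1)) ((z - 1) ^ (n + 1)) :=
          (((Commute.refl z).sub_right (Commute.one_right z)).pow_pow (p - 1) (n + 1))
        rw [show (1 : R) - z = -(z - 1) by rw [neg_sub], mul_neg, neg_mul, mul_assoc,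
          ← mul_assoc (z - 1), ← pow_succ', ← mul_assoc, hc1.eq, mul_assoc]
      _ = _ := by rw [mul_neg]

end Ring

variable {k : Type*} [Field k]

/-- A sum of subspaces in distinct eigenspaces inside a subspace. -/
theorem gap_sum_finrank_le {A : Type*} [AddCommGroup A] [Module k A] [FiniteDimensional k A]
    (W : Module.End k A) {ι : Type*} (s : Finset ι) (μ : ι → k) (hμ : Set.InjOn μ s)
    (S : ι → Submodule k A) (hS : ∀ i ∈ s, S i ≤ W.eigenspace (μ i)) {R : Submodule k A}
    (hR : ∀ i ∈ s, S i ≤ R) : ∑ i ∈ s, finrank k (S i) ≤ finrank k R := by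
  classical
  suffices h : ∀ u ⊆ s, ∑ i ∈ u, finrank k (S i) = finrank k (u.sup S : Submodule k A) by
    rw [h s Finset.Subset.rfl]
    exact Submodule.finrank_mono (Finset.sup_le hR)
  intro u
  induction u using Finset.induction_on with
  | empty => intro _; rw [Finset.sum_empty, Finset.sup_empty, finrank_bot]
  | insert a u ha ih =>
    intro hu
    have hau := hu (Finset.mem_insert_self a u)
    have hus : u ⊆ s := fun i hi => hu (Finset.mem_insert_of_mem hi)
    have hdis : Disjoint (S a) (u.sup S) := by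
      refine ((Module.End.eigenspaces_iSupIndep W) (μ a)).mono (hS a hau) (Finset.sup_le fun i hi => ?_)
      have hne : μ i ≠ μ a := fun h => ha (hμ (hus hi) hau h ▸ hi)
      exact (hS i (hus hi)).trans (le_iSup₂_of_le (μ i) hne le_rfl)
    rw [Finset.sum_insert ha, ih hus, Finset.sup_insert, ← Submodule.finrank_sup_add_finrank_inf_eq,
      hdis.eq_bot, finrank_bot, add_zero]

/-- A periodic sum. -/
theorem gap_periodic_sum (g : ℕ → ℕ) (e : ℕ) (hg : ∀ j, g (e + j) = g j) (n : ℕ) :
    ∑ j ∈ Finset.range (n * e), g j = n * ∑ j ∈ Finset.range e, g j := by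
  induction n with
  | zero => simp
  | succ n ih =>
    rw [Nat.succ_mul, add_comm (n * e), Finset.sum_range_add, Finset.sum_congr rfl fun j _ => hg j, ih]
    ring

variable {p : ℕ} [hpF : Fact p.Prime] [CharP k p]
variable {M A : Type*} [AddCommGroup M] [Module k M] [FiniteDimensional k M]
variable [AddCommGroup A] [Module k A] [FiniteDimensional k A]

/-- The frame bound. -/
theorem gap_rank_bound (YM WM : Module.End k M) (YA WA : Module.End k A) {m r e t d : ℕ}
    (hYM : YM ^ p = 1) (hYA : YA ^ p = 1) (hWA : WA ^ m = 1) (hm : (m : k) ≠ 0)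
    (hconj : WA * YA = YA ^ r * WA) (hr : orderOf (r : k) = e) (hpe : t * e + 1 = p) (ht : 3 ≤ t)
    (hd : d + e = p)
    (f : ℕ → M) (hspan : Submodule.span k (Set.image f (Set.Iio d)) ⊔ LinearMap.range (YM - 1) = ⊤)
    (hw : ∀ h < d, WM (f h) = ((r : k)⁻¹) ^ h • f h)
    (hnil : ∀ h < e, ((YM - 1) ^ (2 * h + 1)) (f h) = 0)
    (Z : Submodule k (M →ₗ[k] A))
    (hZ : ∀ φ ∈ Z, φ ∘ₗ YM = YA ∘ₗ φ ∧ φ ∘ₗ WM = WA ∘ₗ φ ∧
      ∃ ψ : M →ₗ[k] A, φ = ∑ i ∈ Finset.range p, (YA ^ i) ∘ₗ ψ ∘ₗ (YM ^ (p - i))) :
    2 * finrank k Z ≤ 2 * ((t - 2) * finrank k A + finrank k (LinearMap.ker (WA - 1))) +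
      finrank k (LinearMap.range ((YA - 1) ^ (p - 2 * e))) := by
  classical
  rcases subsingleton_or_nontrivial A with hA | hA
  · have : finrank k Z = 0 := by
      haveI : Subsingleton Z := ⟨fun a b => Subtype.ext (LinearMap.ext fun x => Subsingleton.elim _ _)⟩
      exact finrank_zero_of_subsingleton
    omega
  haveI : CharP (Module.End k A) p :=
    charP_of_injective_ringHom (algebraMap k (Module.End k A)).injective p
  have hp2 := hpF.out.two_le
  have he0 : 0 < e := by
    rcases Nat.eq_zero_or_pos e with h | h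
    · subst h; simp at hpe; omega
    · exact h
  have h3e : 3 * e ≤ t * e := Nat.mul_le_mul_right e ht
  have hrk : (r : k) ^ e = 1 := hr ▸ pow_orderOf_eq_one _
  have hr0 : (r : k) ≠ 0 := fun h => by
    rw [h, zero_pow he0.ne'] at hrk
    exact zero_ne_one hrk
  have hek : (e : k) ≠ 0 := fun h => by
    have := Nat.le_of_dvd he0 ((CharP.cast_eq_zero_iff k p e).1 h)
    omega
  set ρ : k := (r : k) with hρ
  set D := YA - 1 with hD
  have hDp : D ^ p = 0 := by
    rw [hD, sub_pow_char_of_commute p (Commute.one_right YA), hYA, one_pow, sub_self]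
  -- the eigenspaces
  let E : ℤ → Submodule k A := fun a => WA.eigenspace (ρ ^ a)
  have hmemE : ∀ {a v}, v ∈ E a ↔ WA v = ρ ^ a • v := fun {a v} => Module.End.mem_eigenspace_iff
  have hEper : ∀ (a : ℤ), E (a + e) = E a := fun a => by
    simp only [E]
    rw [zpow_add₀ hr0, zpow_natCast, hrk, mul_one]
  have hEperm : ∀ (a : ℤ) (n : ℕ), E (a + (n * e : ℕ)) = E a := fun a n => by
    simp only [E]
    rw [zpow_add₀ hr0, zpow_natCast, mul_comm n e, pow_mul, hrk, one_pow, mul_one]
  -- the logarithm
  have hgeom : ∀ n : ℕ, ∃ q, Commute D q ∧ YA ^ n - 1 = (n : k) • D + D ^ 2 * q := by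
    intro n
    induction n with
    | zero => exact ⟨0, Commute.zero_right D, by simp⟩
    | succ n ih =>
      obtain ⟨q, hq, hn⟩ := ih
      refine ⟨(n : k) • (1 : Module.End k A) + q + D * q,
        (((Commute.one_right D).smul_right _).add_right hq).add_right ((Commute.refl D).mul_right hq), ?_⟩
      have h1 : YA ^ n = 1 + ((n : k) • D + D ^ 2 * q) := by rw [← hn, add_sub_cancel]
      have h2 : YA = 1 + D := by rw [hD, add_sub_cancel]
      rw [pow_succ, h1]
      conv_lhs => arg 1; arg 2; rw [h2]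
      have hDq : q * D = D * q := hq.eq.symm
      simp only [pow_two, Nat.cast_succ, add_smul, one_smul, mul_add, add_mul, mul_one, one_mul,
        smul_mul_assoc, mul_smul_comm, mul_assoc, hDq]
      abel
  choose q hq hqe using hgeom
  set X : Module.End k A :=
    ∑ i ∈ Finset.range e, ((e : k)⁻¹ * (ρ ^ i)⁻¹) • (YA ^ (r ^ i) - 1) with hX
  set Q : Module.End k A := ∑ i ∈ Finset.range e, ((e : k)⁻¹ * (ρ ^ i)⁻¹) • q (r ^ i) with hQ
  have hDQ : Commute D Q := Commute.sum_right _ _ _ fun i _ => (hq _).smul_right _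
  have hXD : X = D * (1 + D * Q) := by
    rw [hX, hQ, mul_add, mul_one, ← mul_assoc, ← pow_two, Finset.mul_sum]
    simp only [hqe, Nat.cast_pow, ← hρ, smul_add, mul_smul_comm, Finset.sum_add_distrib, smul_smul]
    congr 1
    rw [Finset.sum_congr rfl fun i _ => by rw [mul_assoc, inv_mul_cancel₀ (pow_ne_zero i hr0), mul_one],
      ← Finset.sum_smul, Finset.sum_const, Finset.card_range, nsmul_eq_mul, mul_inv_cancel₀ hek, one_smul]
  have hunit : IsUnit (1 + D * Q) :=
    IsNilpotent.isUnit_one_add ⟨p, by rw [hDQ.mul_pow, hDp, zero_mul]⟩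
  have hDU : Commute D (1 + D * Q) := (Commute.one_right D).add_right ((Commute.refl D).mul_right hDQ)
  have hXs : ∀ s, LinearMap.range (X ^ s) = LinearMap.range (D ^ s) := by
    intro s
    rw [hXD, hDU.mul_pow, Module.End.mul_eq_comp]
    exact LinearMap.range_comp_of_range_eq_top _
      (LinearMap.range_eq_top.2 ((Module.End.isUnit_iff _).1 (hunit.pow s)).2)
  have hXp : X ^ p = 0 := by rw [hXD, hDU.mul_pow, hDp, zero_mul]
  have hWX : WA * X = ρ • (X * WA) := by
    have hconjn : ∀ n : ℕ, WA * YA ^ n = YA ^ (r * n) * WA := by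
      intro n
      induction n with
      | zero => simp
      | succ n ih =>
        rw [pow_succ, ← mul_assoc, ih, mul_assoc, hconj, ← mul_assoc, ← pow_add, Nat.mul_succ]
    have hmod : r ^ e % p = 1 % p := by
      have : ((r ^ e : ℕ) : k) = ((1 : ℕ) : k) := by rw [Nat.cast_pow, Nat.cast_one]; exact hrk
      exact (CharP.natCast_eq_natCast k p).1 this
    let g : ℕ → Module.End k A := fun i => ((e : k)⁻¹ * (ρ ^ i)⁻¹) • (YA ^ (r ^ i) - 1)
    have hgW : ∀ i, WA * g i = ρ • (g (i + 1) * WA) := fun i => by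
      simp only [g]
      rw [mul_smul_comm, smul_mul_assoc, smul_smul, mul_sub, sub_mul, hconjn, mul_one, one_mul,
        pow_succ' r i]
      congr 1
      rw [pow_succ', _root_.mul_inv_rev]
      field_simp
    have hge : g e = g 0 := by
      simp only [g]
      rw [hrk, pow_zero, pow_zero, pow_one, pow_eq_pow_mod (r ^ e) hYA, hmod, ← pow_eq_pow_mod 1 hYA,
        pow_one]
    have hshift : ∑ i ∈ Finset.range e, g (i + 1) = ∑ i ∈ Finset.range e, g i := by
      have h1 := Finset.sum_range_succ' g e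
      rw [Finset.sum_range_succ, hge] at h1
      exact (add_right_cancel h1).symm
    show WA * (∑ i ∈ Finset.range e, g i) = ρ • ((∑ i ∈ Finset.range e, g i) * WA)
    rw [Finset.mul_sum, Finset.sum_congr rfl fun i _ => hgW i, ← Finset.smul_sum, ← Finset.sum_mul, hshift]
  have hWXs : ∀ s : ℕ, WA * X ^ s = ρ ^ s • (X ^ s * WA) := by
    intro s
    induction s with
    | zero => simp
    | succ s ih =>
      rw [pow_succ, ← mul_assoc, ih, smul_mul_assoc, mul_assoc, hWX, mul_smul_comm, smul_smul,
        ← mul_assoc, ← pow_succ]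
  have hXE : ∀ (s : ℕ) (a : ℤ) v, v ∈ E a → (X ^ s) v ∈ E (a + s) := by
    intro s a v hv
    refine hmemE.2 ?_
    have := LinearMap.congr_fun (hWXs s) v
    simp only [Module.End.mul_apply, LinearMap.smul_apply, hmemE.1 hv, map_smul, smul_smul] at this
    rw [this, zpow_add₀ hr0, zpow_natCast, mul_comm]
  have hlift : ∀ (s : ℕ) (a : ℤ) v, (X ^ s) v ∈ E (a + s) → ∃ v' ∈ E a, (X ^ s) v' = (X ^ s) v := by
    intro s a v hv
    by_cases hv0 : (X ^ s) v = 0
    · exact ⟨0, zero_mem _, by rw [map_zero, hv0]⟩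
    set ν : k := ρ ^ a with hν
    have hν0 : ν ≠ 0 := zpow_ne_zero a hr0
    have hWn : ∀ (i : ℕ) w, (WA ^ i) ((X ^ s) w) = (ρ ^ s) ^ i • (X ^ s) ((WA ^ i) w) := by
      intro i
      induction i with
      | zero => simp
      | succ i ih =>
        intro w
        have h1 := LinearMap.congr_fun (hWXs s) w
        simp only [Module.End.mul_apply, LinearMap.smul_apply] at h1
        rw [pow_succ WA, Module.End.mul_apply, h1, map_smul, ih, smul_smul, Module.End.mul_apply,
          pow_succ' (ρ ^ s)]
    have hv' : WA ((X ^ s) v) = (ν * ρ ^ s) • (X ^ s) v := by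
      have := hmemE.1 hv
      rwa [zpow_add₀ hr0, zpow_natCast] at this
    have hWe : ∀ i : ℕ, (WA ^ i) ((X ^ s) v) = (ν * ρ ^ s) ^ i • (X ^ s) v := by
      intro i
      induction i with
      | zero => simp
      | succ i ih => rw [pow_succ WA, Module.End.mul_apply, hv', map_smul, ih, smul_smul, pow_succ' (ν * ρ ^ s)]
    have hs0 : ρ ^ s ≠ 0 := pow_ne_zero s hr0
    have hνm : ν ^ m = 1 := by
      have h1 := hWe m
      rw [hWA, Module.End.one_apply] at h1
      have h2 := hWn m v
      rw [hWA, Module.End.one_apply, Module.End.one_apply] at h2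
      have e1 : (ν * ρ ^ s) ^ m = 1 := smul_left_injective k hv0 (by simpa using h1.symm)
      have e2 : (ρ ^ s) ^ m = 1 := smul_left_injective k hv0 (by simpa using h2.symm)
      rwa [mul_pow, e2, mul_one] at e1
    have hterm : ∀ i : ℕ, (X ^ s) ((ν ^ i)⁻¹ • (WA ^ i) v) = (X ^ s) v := by
      intro i
      have h1 := hWn i v
      rw [hWe, mul_pow] at h1
      have h2 : (X ^ s) ((WA ^ i) v) = ν ^ i • (X ^ s) v := by
        have := congrArg (fun x => ((ρ ^ s) ^ i)⁻¹ • x) h1
        simp only [smul_smul, inv_mul_cancel₀ (pow_ne_zero i hs0), one_smul] at this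
        rw [← this]
        congr 1
        field_simp
      rw [map_smul, h2, inv_smul_smul₀ (pow_ne_zero i hν0)]
    refine ⟨(m : k)⁻¹ • ∑ i ∈ Finset.range m, (ν ^ i)⁻¹ • (WA ^ i) v, hmemE.2 ?_, ?_⟩
    · rw [map_smul, map_sum, ← hν, smul_comm ν]
      congr 1
      let g : ℕ → A := fun i => (ν ^ i)⁻¹ • (WA ^ i) v
      have hgW : ∀ i, WA (g i) = ν • g (i + 1) := fun i => by
        simp only [g]
        rw [map_smul, smul_smul, pow_succ' WA, Module.End.mul_apply, pow_succ' ν, _root_.mul_inv_rev]
        congr 1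
        field_simp
      have hgm : g m = g 0 := by
        simp only [g]
        rw [hνm, hWA, pow_zero, pow_zero]
      have hshift : ∑ i ∈ Finset.range m, g (i + 1) = ∑ i ∈ Finset.range m, g i := by
        have h1 := Finset.sum_range_succ' g m
        rw [Finset.sum_range_succ, hgm] at h1
        exact (add_right_cancel h1).symm
      show ∑ i ∈ Finset.range m, WA (g i) = ν • ∑ i ∈ Finset.range m, g i
      rw [Finset.sum_congr rfl fun i _ => hgW i, ← Finset.smul_sum, hshift]
    · rw [map_smul, map_sum, Finset.sum_congr rfl fun i _ => hterm i, Finset.sum_const,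
        Finset.card_range, ← Nat.cast_smul_eq_nsmul k, smul_smul, inv_mul_cancel₀ hm, one_smul]
  -- the targets
  let T : ℕ → Submodule k A := fun h =>
    if h < e then LinearMap.range (X ^ (p - 2 * h - 1)) ⊓ E (-(h : ℤ)) else E (-(h : ℤ))
  have htarget : ∀ φ ∈ Z, ∀ h < d, φ (f h) ∈ T h := by
    intro φ hφ h hh
    obtain ⟨-, hW, ψ, hψ⟩ := hZ φ hφ
    have hE1 : φ (f h) ∈ E (-(h : ℤ)) := by
      refine hmemE.2 ?_
      have h1 := LinearMap.congr_fun hW (f h)
      simp only [LinearMap.comp_apply, hw h hh, map_smul] at h1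
      rw [← h1, zpow_neg, zpow_natCast, inv_pow]
    simp only [T]
    split_ifs with he
    swap
    · exact hE1
    refine ⟨?_, hE1⟩
    rw [hXs]
    set l := 2 * h + 1 with hl
    set u := YM ^ (p - 1) with hu
    have hu1 : u * YM = 1 := by rw [hu, ← pow_succ, Nat.sub_add_cancel hpF.out.one_le, hYM]
    have hupow : ∀ i, i < p → YM ^ (p - i) = u ^ i := by
      intro i hi
      rw [hu, ← pow_mul, pow_eq_pow_mod ((p - 1) * i) hYM, pow_eq_pow_mod (p - i) hYM]
      congr 1
      refine (CharP.natCast_eq_natCast (ZMod p) p).1 ?_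
      push_cast [Nat.cast_sub hi.le, Nat.cast_sub hpF.out.one_le]
      simp
    have hkill : ∀ j, l ≤ j → ((u - 1) ^ j) (f h) = 0 := by
      intro j hj
      have hc : Commute (YM - 1) u :=
        ((Commute.refl YM).pow_right _).sub_left (Commute.one_left _)
      have h1 : u - 1 = (-u) * (YM - 1) := by rw [neg_mul, mul_sub, mul_one, hu1, neg_sub]
      rw [h1, (hc.symm.neg_left).mul_pow, Module.End.mul_apply, show j = (j - l) + l by omega,
        pow_add (YM - 1), Module.End.mul_apply, hnil h he, map_zero, map_zero]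
    have hexp : ∀ i < p, (u ^ i) (f h) =
        ∑ j ∈ Finset.range l, (i.choose j : k) • ((u - 1) ^ j) (f h) := by
      intro i hi
      have h1 : u ^ i = ∑ j ∈ Finset.range (i + 1), (u - 1) ^ j * (i.choose j : Module.End k M) := by
        conv_lhs => rw [← sub_add_cancel u 1]
        rw [(Commute.one_right (u - 1)).add_pow]
        simp
      have h2 : ∀ j, ((u - 1) ^ j * (i.choose j : Module.End k M)) (f h) =
          (i.choose j : k) • ((u - 1) ^ j) (f h) := fun j => by
        rw [Module.End.mul_apply, Module.End.natCast_apply, map_nsmul, Nat.cast_smul_eq_nsmul]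
      rw [h1, LinearMap.sum_apply, Finset.sum_congr rfl fun j _ => h2 j,
        Finset.sum_subset (s₁ := Finset.range (i + 1)) (s₂ := Finset.range (max (i + 1) l))
          (fun j hj => Finset.mem_range.2 (lt_of_lt_of_le (Finset.mem_range.1 hj) (le_max_left _ _)))
          fun j _ hj => by
            rw [Finset.mem_range, not_lt] at hj
            rw [Nat.choose_eq_zero_of_lt (by omega), Nat.cast_zero, zero_smul]]
      refine (Finset.sum_subset (fun j hj => Finset.mem_range.2
        (lt_of_lt_of_le (Finset.mem_range.1 hj) (le_max_right _ _))) fun j _ hj => ?_).symm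
      rw [Finset.mem_range, not_lt] at hj
      rw [hkill j hj, smul_zero]
    have hval : φ (f h) = ∑ j ∈ Finset.range l,
        (∑ i ∈ Finset.range p, (i.choose j : Module.End k A) * YA ^ i) (ψ (((u - 1) ^ j) (f h))) := by
      rw [hψ, LinearMap.sum_apply]
      rw [Finset.sum_congr rfl fun i hi => by
        rw [LinearMap.comp_apply, LinearMap.comp_apply, hupow i (Finset.mem_range.1 hi),
          hexp i (Finset.mem_range.1 hi), map_sum, map_sum]]
      rw [Finset.sum_comm]
      refine Finset.sum_congr rfl fun j _ => ?_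
      rw [LinearMap.sum_apply]
      refine Finset.sum_congr rfl fun i _ => ?_
      rw [Module.End.mul_apply, Module.End.natCast_apply, map_smul, map_smul, Nat.cast_smul_eq_nsmul]
    rw [hval]
    refine Submodule.sum_mem _ fun j hj => ?_
    have hjl := Finset.mem_range.1 hj
    obtain ⟨c, hc⟩ := gap_choose_sum (R := Module.End k A) YA hYA (j := j) (by omega)
    rw [hc, ← hD, show p - 1 - j = (p - 2 * h - 1) + (2 * h - j) by omega, pow_add, mul_assoc,
      Module.End.mul_apply]
    exact LinearMap.mem_range_self _ _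
  -- embed
  have hZle : finrank k Z ≤ ∑ h ∈ Finset.range d, finrank k (T h) := by
    let Φ : Z →ₗ[k] ((h : Fin d) → T h) := LinearMap.pi fun h =>
      ((LinearMap.applyₗ (f h)).comp Z.subtype).codRestrict (T h) fun φ => htarget φ φ.2 h h.2
    have hinj : Function.Injective Φ := by
      refine (injective_iff_map_eq_zero Φ).2 fun φ hφ => ?_
      obtain ⟨φ, hφZ⟩ := φ
      have hY := (hZ φ hφZ).1
      have hzero : ∀ h < d, φ (f h) = 0 := fun h hh => congrArg Subtype.val (congrFun hφ ⟨h, hh⟩)
      have hstep : ∀ v, ∃ w, φ v = D (φ w) := by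
        intro v
        obtain ⟨a, ha, b, ⟨w, rfl⟩, rfl⟩ := Submodule.mem_sup.1 (hspan ▸ Submodule.mem_top :
          v ∈ Submodule.span k (f '' Set.Iio d) ⊔ LinearMap.range (YM - 1))
        refine ⟨w, ?_⟩
        have ha0 : φ a = 0 := by
          refine LinearMap.mem_ker.1 (Submodule.span_le.2 ?_ ha)
          rintro _ ⟨h, hh, rfl⟩
          exact LinearMap.mem_ker.2 (hzero h hh)
        rw [map_add, ha0, zero_add, LinearMap.sub_apply, Module.End.one_apply, map_sub, hD,
          LinearMap.sub_apply, Module.End.one_apply]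
        exact congrArg (· - φ w) (LinearMap.congr_fun hY w)
      have hrep : ∀ (j : ℕ) v, ∃ w, φ v = (D ^ j) (φ w) := by
        intro j
        induction j with
        | zero => exact fun v => ⟨v, by simp⟩
        | succ j ih =>
          intro v
          obtain ⟨w, hw⟩ := ih v
          obtain ⟨w', hw'⟩ := hstep w
          exact ⟨w', by rw [hw, hw', pow_succ, Module.End.mul_apply]⟩
      refine Subtype.ext (LinearMap.ext fun v => ?_)
      obtain ⟨w, hw⟩ := hrep p v
      rw [hw, hDp]
      simp
    refine (LinearMap.finrank_le_finrank_of_injective hinj).trans ?_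
    rw [Module.finrank_pi_fintype, Fin.sum_univ_eq_sum_range (fun h => finrank k (T h))]
  -- the small indices pair up
  let B : ℕ → Submodule k A := fun h => (E (h : ℤ)).map (X ^ (p - 2 * e))
  have hpair : ∀ h < e, finrank k (T h) + finrank k (T (e - 1 - h)) ≤ finrank k (B h) := by
    intro h hh
    let ρB : B h →ₗ[k] A := (X ^ (2 * e - 1 - 2 * h)).domRestrict (B h)
    rw [← ρB.finrank_range_add_finrank_ker]
    refine Nat.add_le_add (Submodule.finrank_mono ?_) ?_
    · simp only [T, if_pos hh]
      rintro v ⟨⟨w, rfl⟩, hw⟩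
      have he1 : E (-(h : ℤ)) = E ((h : ℤ) + ((p - 2 * h - 1 : ℕ) : ℤ)) := by
        rw [← hEperm (-(h : ℤ)) t]
        congr 1
        omega
      obtain ⟨w', hw', hww⟩ := hlift (p - 2 * h - 1) (h : ℤ) w (he1 ▸ hw)
      refine ⟨⟨(X ^ (p - 2 * e)) w', Submodule.mem_map_of_mem hw'⟩, ?_⟩
      show (X ^ (2 * e - 1 - 2 * h)) ((X ^ (p - 2 * e)) w') = _
      rw [← Module.End.mul_apply, ← pow_add, ← hww]
      congr 2
      omega
    · have hh' : e - 1 - h < e := by omega
      have hsub : T (e - 1 - h) ≤ (LinearMap.ker ρB).map (B h).subtype := by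
        simp only [T, if_pos hh']
        rintro v ⟨⟨w, rfl⟩, hw⟩
        have he1 : E (-((e - 1 - h : ℕ) : ℤ)) =
            E (((e - 1 - h : ℕ) : ℤ) + ((p - 2 * (e - 1 - h) - 1 : ℕ) : ℤ)) := by
          rw [← hEperm (-((e - 1 - h : ℕ) : ℤ)) t]
          congr 1
          omega
        obtain ⟨w', hw', hww⟩ := hlift _ _ w (he1 ▸ hw)
        rw [← hww, show p - 2 * (e - 1 - h) - 1 = (p - 2 * e) + (2 * h + 1) by omega, pow_add,
          Module.End.mul_apply]
        have hin : (X ^ (2 * h + 1)) w' ∈ E (h : ℤ) := by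
          have h1 := hXE (2 * h + 1) _ _ hw'
          rwa [show (((e - 1 - h : ℕ) : ℤ) + ((2 * h + 1 : ℕ) : ℤ)) = (h : ℤ) + e by omega, hEper] at h1
        refine ⟨⟨_, Submodule.mem_map_of_mem hin⟩, ?_, rfl⟩
        show (X ^ (2 * e - 1 - 2 * h)) ((X ^ (p - 2 * e)) ((X ^ (2 * h + 1)) w')) = 0
        rw [← Module.End.mul_apply, ← Module.End.mul_apply, ← pow_add, ← pow_add,
          show 2 * e - 1 - 2 * h + (p - 2 * e) + (2 * h + 1) = p by omega, hXp, LinearMap.zero_apply]
      refine (Submodule.finrank_mono hsub).trans ?_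
      exact Submodule.finrank_map_le _ _
  have hinjE : ∀ (a : ℤ), Set.InjOn (fun h : ℕ => ρ ^ (a + (h : ℤ))) (Finset.range e) := by
    intro a i hi j hj hij
    simp only [zpow_add₀ hr0, zpow_natCast] at hij
    exact pow_injOn_Iio_orderOf (by simpa [hr] using Finset.mem_range.1 hi)
      (by simpa [hr] using Finset.mem_range.1 hj) (mul_left_cancel₀ (zpow_ne_zero a hr0) hij)
  have hBsum : ∑ h ∈ Finset.range e, finrank k (B h) ≤ finrank k (LinearMap.range (D ^ (p - 2 * e))) := by
    rw [← hXs]
    refine gap_sum_finrank_le WA _ (fun h : ℕ => ρ ^ (((p - 2 * e : ℕ) : ℤ) + (h : ℤ))) (hinjE _) B ?_ ?_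
    · rintro h - _ ⟨v, hv, rfl⟩
      have := hXE (p - 2 * e) _ v hv
      rwa [add_comm (h : ℤ)] at this
    · rintro h - _ ⟨v, -, rfl⟩
      exact LinearMap.mem_range_self _ v
  have hsmall : 2 * ∑ h ∈ Finset.range e, finrank k (T h) ≤
      finrank k (LinearMap.range (D ^ (p - 2 * e))) := by
    refine le_trans ?_ hBsum
    rw [two_mul]
    conv_lhs => arg 2; rw [← Finset.sum_range_reflect]
    rw [← Finset.sum_add_distrib]
    exact Finset.sum_le_sum fun h hh => hpair h (Finset.mem_range.1 hh)
  -- the large indices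
  have hEsum : ∑ j ∈ Finset.range e, finrank k (E (-(j : ℤ))) ≤ finrank k A := by
    rw [← finrank_top k A]
    refine gap_sum_finrank_le WA _ (fun j : ℕ => ρ ^ (-(j : ℤ))) ?_ _ (fun j _ => le_rfl) fun j _ => le_top
    intro i hi j hj hij
    simp only [zpow_neg, zpow_natCast, inv_inj] at hij
    exact pow_injOn_Iio_orderOf (by simpa [hr] using Finset.mem_range.1 hi)
      (by simpa [hr] using Finset.mem_range.1 hj) hij
  have hE0 : E 0 = LinearMap.ker (WA - 1) := by
    ext v
    rw [hmemE, LinearMap.mem_ker, LinearMap.sub_apply, Module.End.one_apply, zpow_zero, one_smul,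
      sub_eq_zero]
  have hlarge : ∑ h ∈ Finset.range d, finrank k (T h) =
      ∑ h ∈ Finset.range e, finrank k (T h) +
        ((t - 2) * ∑ j ∈ Finset.range e, finrank k (E (-(j : ℤ))) + finrank k (E 0)) := by
    have hde : d = e + ((t - 2) * e + 1) := by
      have : (t - 2) * e = t * e - 2 * e := Nat.sub_mul t 2 e
      omega
    rw [hde, Finset.sum_range_add, Finset.sum_range_succ]
    congr 1
    have hT : ∀ j : ℕ, T (e + j) = E (-(j : ℤ)) := fun j => by
      refine (if_neg (by omega)).trans ?_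
      rw [show -((e + j : ℕ) : ℤ) = -(j : ℤ) - e by omega, ← hEper (-(j : ℤ) - e), sub_add_cancel]
    have hT' : ∀ j : ℕ, finrank k (T (e + j)) = finrank k (E (-(j : ℤ))) := fun j => by rw [hT]
    rw [Finset.sum_congr rfl fun j _ => hT' j, hT']
    congr 1
    · rw [gap_periodic_sum (fun j => finrank k (E (-(j : ℤ)))) e fun j => ?_]
      show finrank k (E (-((e + j : ℕ) : ℤ))) = _
      rw [show -((e + j : ℕ) : ℤ) = -(j : ℤ) - e by omega, ← hEper (-(j : ℤ) - e), sub_add_cancel]
    · have := hEperm (-(((t - 2) * e : ℕ) : ℤ)) (t - 2)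
      rw [neg_add_cancel] at this
      rw [this]
  rw [hlarge] at hZle
  rw [← hE0]
  have := Nat.mul_le_mul_left (t - 2) hEsum
  omega

end Cfsg.Agent.Feit
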