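import Cfsg.Agent.Lib.Feit.Main
import Cfsg.Agent.Lib.Feit.GapHom
import Cfsg.Agent.Lib.Feit.GapLocal
import Cfsg.Agent.Lib.Feit.GapBlock
import Cfsg.Agent.Lib.Feit.GapRank

/-!
The multiplicity of an exceptional character of the principal block in the square of the absolute value
of the character of degree `p - e` is at least a cyclotomic number, so `e` is at most `(p - 1) / e`.
-/

set_option autoImplicit false
set_option linter.unusedSectionVars false
set_option linter.style.haveILetI false
set_option maxHeartbeats 1000000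

namespace Cfsg.Agent.Feit

open Cfsg Cfsg.Agent.Char Cfsg.Agent.Blocks Cfsg.Agent.CCSylow Cfsg.Agent.DefOne
open Cfsg.Agent.DegreePTwo
open Cfsg.Agent.SmallDeg16 (mult mult_eq Cen Coord HasMult Fam lin_norm exists_fam hasMult_irr)
open IsLocalRing Module
open scoped ComplexConjugate Classical Matrix

universe u

section Field

/-- The map collecting the sums over a cyclic group of order `p`. -/
noncomputable def traceHom {k : Type} [Field k] {M A : Type*} [AddCommGroup M] [Module k M]
    [AddCommGroup A] [Module k A] (YM : Module.End k M) (YA : Module.End k A) (p : ℕ) :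
    (M →ₗ[k] A) →ₗ[k] (M →ₗ[k] A) :=
  ∑ i ∈ Finset.range p, (LinearMap.llcomp k M A A (YA ^ i)).comp (LinearMap.lcomp k A (YM ^ (p - i)))

theorem traceHom_apply {k : Type} [Field k] {M A : Type*} [AddCommGroup M] [Module k M]
    [AddCommGroup A] [Module k A] (YM : Module.End k M) (YA : Module.End k A) (p : ℕ) (ψ : M →ₗ[k] A) :
    traceHom YM YA p ψ = ∑ i ∈ Finset.range p, (YA ^ i) ∘ₗ ψ ∘ₗ (YM ^ (p - i)) := by
  rw [traceHom, LinearMap.sum_apply]
  rfl

/-- A root of unity of order `p` reduces to one. -/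
theorem exists_root_lift {V : ValuationSubring ℂ} {p : ℕ} [Fact p.Prime] [NeZero p]
    [CharP (ResidueField V) p] (b : ZMod p) :
    ∃ x : V, (x : ℂ) = ZMod.stdAddChar b ∧ residue V x = 1 := by
  have hp : (ZMod.stdAddChar b : ℂ) ^ p = 1 := by
    rw [← AddChar.map_nsmul_eq_pow, nsmul_eq_mul, ZMod.natCast_self, zero_mul, AddChar.map_zero_eq_one]
  have hmem : (ZMod.stdAddChar b : ℂ) ∈ V := by
    rw [← ValuationSubring.valuation_le_one_iff]
    have h := congrArg V.valuation hp
    rw [map_pow, map_one] at h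
    exact (((pow_eq_one_iff).1 h).resolve_right (NeZero.ne p)).le
  refine ⟨⟨_, hmem⟩, rfl, ?_⟩
  have hx : (⟨_, hmem⟩ : V) ^ p = 1 := Subtype.ext hp
  have h : (residue V ⟨_, hmem⟩ - 1) ^ p = 0 := by
    rw [sub_pow_char, ← map_pow, hx, map_one, one_pow, sub_self]
  exact sub_eq_zero.1 ((pow_eq_zero_iff (NeZero.ne p)).1 h)

end Field

variable {G : Type u} [Group G] [Fintype G] {p : ℕ} {P V N : Subgroup G} {e : ℕ} (K : Conf p P V N e)
  [Fintype P] [Fintype V] [Fintype N] [Fintype (P →* ℂˣ)] [NeZero p] [Fact p.Prime]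
  {ζ : IrrCharacter G} {b : IrrCharacter V} {C : Coord p P}

include K

/-- The square of the absolute value on `P`. -/
theorem Exc.hasMult_abs (L : Exc K ζ b C) {t : ℕ} (hp : p = t * e + 1) :
    HasMult C (fun g => (ζ : G → ℂ) g * conj ((ζ : G → ℂ) g))
      fun i => (p : ℤ) - 2 * e + R e (-1) i := by
  refine (L.mz.mul (hasMult_conj L.mz fun i => ?_)).congr fun c => conv_aJ hp (neg_ne_zero.2 one_ne_zero) c
  simp only [aJ, inv_one, mul_one, inv_neg, mul_neg]

/-- The transfer bound for a character in the principal block. -/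
theorem Exc.gap_mult (L : Exc K ζ b C) (hcore : Core p G) {t : ℕ} (hp : p = t * e + 1) (he : 3 ≤ e)
    (ht : 3 ≤ t) (hZ : Subgroup.center G ≠ ⊥) {n : ℕ} (σA : Representation ℂ G (Fin n → ℂ))
    (hAV : ∀ v ∈ V, ∀ g, σA.character (v * g) = σA.character g) {kk : ℕ} {c : ZMod p} (hc : c ≠ 0)
    (hA : HasMult C σA.character fun i => (kk : ℤ) + if i * c⁻¹ ∈ roots e then 1 else 0) :
    ∃ w : ℕ, (R e (-1) c : ℤ) ≤ w ∧
      (Nat.card G : ℂ) * w = ∑ g : G, (ζ : G → ℂ) g * conj ((ζ : G → ℂ) g) * σA.character g := by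
  have hpp := K.hp
  have he0 : 0 < e := by omega
  obtain ⟨d, ρ, hirr, hρ⟩ := id ζ.2
  haveI := hirr
  set f₀ : G → ℂ := fun g => (ζ : G → ℂ) g * conj ((ζ : G → ℂ) g) with hf₀
  have hρd : charDegree (ζ : G → ℂ) = d := by
    have h := irr_one_eq_charDegree ζ
    rw [← hρ, Representation.char_one, Module.finrank_fin_fun] at h
    rw [← hρ]
    exact_mod_cast h.symm
  have hde : d + e = p := hρd ▸ L.deg
  have hinjρ : Function.Injective ρ := by
    rw [injective_iff_map_eq_one]
    intro g hg
    refine L.faith g ?_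
    rw [← hρ, Representation.char_one, (char_eq_degree_iff ρ g).2 (by rw [hg, Module.End.one_eq_id])]
  obtain ⟨O, -, hch, m, σ, hσ, hσinj, htr⟩ :=
    SmallDim.exists_reduction (SmallDeg16.eq_bot_of_normal_pGroup hcore.perf hcore.sq hcore.norm) ρ hinjρ
  haveI := hch
  haveI := SmallDim.isAlgClosed_residue O
  obtain ⟨mA, -, htrA⟩ := SmallDim.exists_integral_form O σA
  have htr' : ∀ g, ((m g).trace : ℂ) = (ζ : G → ℂ) g := fun g => by
    rw [← hρ, Representation.character, ← htr g]; simp [Matrix.trace]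
  have htrA' : ∀ g, ((mA g).trace : ℂ) = σA.character g := fun g => by
    rw [Representation.character, ← htrA g]; simp [Matrix.trace]
  -- the local data
  have hy := coord_order K C
  set y : G := (C.y : G) with hydef
  have hzp : Subgroup.zpowers y = P :=
    Subgroup.eq_of_le_of_card_ge (Subgroup.zpowers_le.2 C.y.2) (by rw [Nat.card_zpowers, hy, K.hP])
  have hy1 : y ≠ 1 := fun h => hpp.ne_one (by rw [← hy, h, orderOf_one])
  obtain ⟨w, r, hwN, hwy, hr, hwo, hwe, hgen⟩ := exists_weight_gen K C hp
  have hVc : V ≤ Subgroup.center G := L.center.le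
  have hscal : ∀ z ∈ Subgroup.center G, ∃ x : ResidueField O, σ z = x • 1 := by
    intro z hz
    have hirr' : (cRep m).IsIrreducible := by
      refine isIrreducible_of_norm_one _ ?_
      rw [show (cRep m).character = (ζ : G → ℂ) from funext fun g => (cRep_character m g).trans (htr' g)]
      exact classInner_self_irr ζ.2
    haveI := hirr'
    obtain ⟨x, hx⟩ := schur_scalar (cRep m) (cRep m z) fun g v => by
      rw [← Module.End.mul_apply, ← map_mul, ← Subgroup.mem_center_iff.1 hz g, map_mul, Module.End.mul_apply]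
    have hM : (m z).map (fun a : O => (a : ℂ)) = x • (1 : Matrix (Fin d) (Fin d) ℂ) := by
      refine Matrix.toLin'.injective ?_
      rw [map_smul, Matrix.toLin'_one]
      exact hx
    have hd0 : 0 < d := by have h3 : 3 * e ≤ t * e := Nat.mul_le_mul_right e ht; omega
    have hent : ∀ i j, ((m z i j : O) : ℂ) = x * (if i = j then 1 else 0) := fun i j => by
      have h := congrFun (congrFun hM i) j
      rw [Matrix.map_apply, Matrix.smul_apply, Matrix.one_apply] at h
      exact h
    set x' : O := m z ⟨0, hd0⟩ ⟨0, hd0⟩ with hx'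
    have hxx : (x' : ℂ) = x := by rw [hx', hent, if_pos rfl, mul_one]
    refine ⟨residue O x', ?_⟩
    have hm : m z = x' • (1 : Matrix (Fin d) (Fin d) O) := by
      ext i j
      rw [hent, Matrix.smul_apply, Matrix.one_apply]
      split_ifs <;> simp [hxx]
    rw [hσ, hm]
    refine LinearMap.ext fun v => funext fun i => ?_
    simp [Matrix.mulVec, dotProduct, Matrix.one_apply, apply_ite (residue O), ite_mul]
  have hNeq : Subgroup.normalizer (Subgroup.zpowers y : Set G) = N := by rw [hzp, ← K.hN]
  have hreg : (σ y - 1) ^ (finrank (ResidueField O) (Fin d → ResidueField O) - 1) ≠ 0 := by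
    refine Gap.regular σ hcore hσinj (by rw [Module.finrank_fin_fun]; omega) hy
      (SmallDeg16.not_mem_center_of_order hcore.perf hcore.sq hy) hwy hwo (fun n hn => ?_) hscal hZ ?_
    · rw [hNeq] at hn
      obtain ⟨i, j, z, hz, h⟩ := hgen n hn
      exact ⟨i, j, z, hVc hz, h⟩
    · rw [hNeq, centralizer_singleton_eq hpp K.hP C.y.2 hy1, Subgroup.relIndex, K.D.he]
      intro h
      have h3 : 3 * e ≤ t * e := Nat.mul_le_mul_right e ht
      omega
  have hσy : σ y ≠ 1 := fun h => hy1 (hσinj (by rw [h, map_one]))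
  obtain ⟨gv, hspan, hwt, hnil⟩ := Gap.exists_generators σ hy hσy (by rw [Module.finrank_fin_fun]; omega) hreg
    hwy hwo he0 (e := e) (by rw [Module.finrank_fin_fun]; omega) (by
      rw [Module.finrank_fin_fun]
      have h3 : 3 * e ≤ t * e := Nat.mul_le_mul_right e ht
      omega)
  rw [Module.finrank_fin_fun] at hspan hwt
  -- the maps of the endomorphisms
  set YM := SmallDim.adRep σ y with hYM
  set WM := SmallDim.adRep σ w with hWM
  set YA := kRep mA y with hYA
  set WA := kRep mA w with hWA
  set Z' : Submodule (ResidueField O) (Module.End (ResidueField O) (Fin d → ResidueField O) →ₗ[ResidueField O]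
      (Fin n → ResidueField O)) :=
    LinearMap.eqLocus (LinearMap.lcomp (ResidueField O) _ YM) (LinearMap.llcomp (ResidueField O) _ _ _ YA) ⊓
      LinearMap.eqLocus (LinearMap.lcomp (ResidueField O) _ WM) (LinearMap.llcomp (ResidueField O) _ _ _ WA) ⊓
      LinearMap.range (traceHom YM YA p) with hZ'
  have hyp : y ^ p = 1 := hy ▸ pow_orderOf_eq_one y
  have hm0 : (orderOf w : ResidueField O) ≠ 0 := by
    rw [Ne, CharP.cast_eq_zero_iff (ResidueField O) p]; exact hwo
  have hrk : orderOf (r : ResidueField O) = e := by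
    rw [show (r : ResidueField O) = ZMod.castHom (dvd_refl p) (ResidueField O) (r : ZMod p) from (map_natCast _ _).symm]
    exact (orderOf_injective (ZMod.castHom (dvd_refl p) (ResidueField O)).toMonoidHom
      (ZMod.castHom (dvd_refl p) (ResidueField O)).injective _).trans hr
  have hZ'le := gap_rank_bound YM WM YA WA (m := orderOf w) (r := r) (e := e) (t := t) (d := d)
    (by rw [hYM, ← map_pow, hyp, map_one]) (by rw [hYA, ← map_pow, hyp, map_one])
    (by rw [hWA, ← map_pow, pow_orderOf_eq_one, map_one]) hm0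
    (by rw [hWA, hYA, ← map_pow, ← map_mul, ← map_mul, ← hwy, inv_mul_cancel_right]) hrk hp.symm ht hde
    gv hspan hwt hnil Z' fun φ hφ => ⟨hφ.1.1, hφ.1.2, by
      obtain ⟨ψ, hψ⟩ := hφ.2
      exact ⟨ψ, by rw [← traceHom_apply, hψ]⟩⟩
  -- the transfer
  set τ := pairHom m mA with hτ
  have hpair : ∀ (g : G) (v : (Fin d × Fin d) × Fin n → ResidueField O)
      (f : Module.End (ResidueField O) (Fin d → ResidueField O)),
      pairMap (kRep τ g v) f = kRep mA g (pairMap v (σ g⁻¹ * f * σ g)) := by
    intro g v f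
    have h : kRep τ g v = ((((m g⁻¹).map (residue O)).transpose).kronecker ((m g).map (residue O))).kronecker
        ((mA g).map (residue O)) *ᵥ v := by
      show ((τ g).map (residue O)) *ᵥ v = _
      rw [hτ, pairHom_map]
      rfl
    rw [h, hσ, hσ]
    exact pairMap_mulVec _ _ _ v f
  have hP : Nat.card P = p := K.hP
  have hbound := transfer_bound (p := p) τ hP hcore.sq (Submodule.comap pairMap Z') fun v z hv hvz => by
    have heq : ∀ g ∈ N, ∀ f, pairMap v (SmallDim.adRep σ g f) = kRep mA g (pairMap v f) := by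
      intro g hg f
      have h1 : kRep τ g v = v := hv g (K.hN ▸ hg)
      have h2 := hpair g v (SmallDim.adRep σ g f)
      rw [h1, SmallDim.adRep_apply, show σ g⁻¹ * (σ g * f * σ g⁻¹) * σ g =
          (σ g⁻¹ * σ g) * f * (σ g⁻¹ * σ g) by simp only [mul_assoc],
        ← map_mul, inv_mul_cancel, map_one, one_mul, mul_one] at h2
      rw [SmallDim.adRep_apply]
      exact h2
    refine ⟨⟨LinearMap.ext fun f => heq y ?_ f, LinearMap.ext fun f => heq w hwN f⟩, pairMap z, ?_⟩
    · exact le_N K C.y.2
    · rw [traceHom_apply]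
      conv_rhs => rw [hvz, map_sum]
      refine LinearMap.ext fun f => ?_
      rw [LinearMap.sum_apply, LinearMap.sum_apply, ← C.el_bijective.sum_comp]
      refine Finset.sum_bij (fun i _ => (i : ZMod p)) (fun i _ => Finset.mem_univ _) (fun i hi j hj h => ?_)
        (fun x _ => ⟨x.val, Finset.mem_range.2 (ZMod.val_lt x), ZMod.natCast_zmod_val x⟩) fun i hi => ?_
      · have h' := congrArg ZMod.val h
        rwa [ZMod.val_natCast_of_lt (Finset.mem_range.1 hi), ZMod.val_natCast_of_lt (Finset.mem_range.1 hj)] at h'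
      · have hi' : i < p := Finset.mem_range.1 hi
        rw [Coord.el, ZMod.val_natCast_of_lt hi', SubmonoidClass.coe_pow, ← hydef, hpair]
        show (YA ^ i) (pairMap z ((YM ^ (p - i)) f)) = _
        rw [hYA, hYM, ← map_pow, ← map_pow, SmallDim.adRep_apply]
        have hinv : y ^ (p - i) = (y ^ i)⁻¹ :=
          eq_inv_of_mul_eq_one_left (by rw [← pow_add, Nat.sub_add_cancel hi'.le, hyp])
        rw [hinv, inv_inv]
  have hZdim : finrank (ResidueField O) (Submodule.comap (pairMap (R := ResidueField O) (d := d) (n := n)) Z') ≤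
      finrank (ResidueField O) Z' :=
    LinearMap.finrank_le_finrank_of_injective (f := pairMap.restrict fun v hv => hv)
      fun a b h => Subtype.ext (pairMap_injective (congrArg Subtype.val h))
  -- the rank over `O`
  have hdeg : (n : ℤ) = (p : ℤ) * kk + e := by
    have h := hA.degree
    rw [Representation.char_one, Module.finrank_fin_fun] at h
    have h' : (n : ℤ) = ∑ j : ZMod p, ((kk : ℤ) + if j * c⁻¹ ∈ roots e then 1 else 0) := by exact_mod_cast h
    rw [h', Finset.sum_add_distrib, Finset.sum_const, Finset.card_univ, ZMod.card, nsmul_eq_mul, Finset.sum_boole]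
    congr 1
    refine Nat.cast_inj.2 (Eq.trans ?_ (card_roots (p := p) hp))
    refine Finset.card_bij (fun j _ => j * c⁻¹) (fun j hj => (Finset.mem_filter.1 hj).2)
      (fun i _ j _ h => mul_right_cancel₀ (inv_ne_zero hc) h) fun x hx => ⟨x * c, ?_, by field_simp⟩
    exact Finset.mem_filter.2 ⟨Finset.mem_univ _, by rwa [mul_inv_cancel_right₀ hc]⟩
  have hrank : (finrank (ResidueField O) (LinearMap.range ((YA - 1) ^ (p - 2 * e))) : ℤ) ≤ 2 * (e : ℤ) * kk := by
    obtain ⟨T, hTsub, hTcard⟩ := Finset.exists_subset_card_eq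
      (s := Finset.univ.filter fun x : ZMod p => x * c⁻¹ ∉ roots e) (n := 2 * e) (by
        have h1 : (Finset.univ.filter fun x : ZMod p => x * c⁻¹ ∈ roots e).card = e := by
          refine Eq.trans ?_ (card_roots (p := p) hp)
          exact Finset.card_bij (fun j _ => j * c⁻¹) (fun j hj => (Finset.mem_filter.1 hj).2)
            (fun i _ j _ h => mul_right_cancel₀ (inv_ne_zero hc) h) fun x hx =>
              ⟨x * c, Finset.mem_filter.2 ⟨Finset.mem_univ _, by rwa [mul_inv_cancel_right₀ hc]⟩, by field_simp⟩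
        have h2 := Finset.card_filter_add_card_filter_not
          (s := (Finset.univ : Finset (ZMod p))) (fun x => x * c⁻¹ ∈ roots e)
        rw [Finset.card_univ, ZMod.card, h1] at h2
        have h3 : 3 * e ≤ t * e := Nat.mul_le_mul_right e ht
        omega)
    set l : List (ZMod p) := (Finset.univ \ T).toList with hl
    choose x hx hx1 using fun b : ZMod p => exists_root_lift (V := O) b
    set Ψ : Matrix (Fin n) (Fin n) O := (l.map fun b => mA y - x b • 1).prod with hΨ
    have hlen : l.length = p - 2 * e := by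
      rw [hl, Finset.length_toList, Finset.card_sdiff_of_subset (Finset.subset_univ T), Finset.card_univ,
        ZMod.card, hTcard]
    have hk : Ψ.map (residue O) = ((mA y).map (residue O) - 1) ^ (p - 2 * e) := by
      show (residue O).mapMatrix Ψ = _
      rw [hΨ, map_list_prod, List.map_map, List.prod_eq_pow_card _ ((mA y).map (residue O) - 1)]
      · rw [List.length_map, hlen]
      · intro a ha
        obtain ⟨b, -, rfl⟩ := List.mem_map.1 ha
        ext i j
        simp [Matrix.one_apply, apply_ite (residue O), hx1]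
    have hc' : Ψ.map (fun a : O => (a : ℂ)) =
        (l.map fun b => (mA y).map (fun a : O => (a : ℂ)) - (ZMod.stdAddChar b : ℂ) • 1).prod := by
      show O.subtype.mapMatrix Ψ = _
      rw [hΨ, map_list_prod, List.map_map]
      refine congrArg List.prod (List.map_congr_left fun b _ => ?_)
      ext i j
      rcases eq_or_ne i j with rfl | hij
      · simp [hx]
      · simp [Matrix.one_apply_ne hij]
    have hpowY : ∀ i : ℕ, ((mA y).map fun a : O => (a : ℂ)) ^ i = (mA (y ^ i)).map fun a : O => (a : ℂ) := by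
      intro i
      show (O.subtype.mapMatrix (mA y)) ^ i = O.subtype.mapMatrix (mA (y ^ i))
      rw [map_pow, map_pow]
    have h1 := rank_eigen_prod ((mA y).map fun a : O => (a : ℂ))
      (by rw [hpowY, hyp, map_one]; simp)
      (fun i => (kk : ℤ) + if i * c⁻¹ ∈ roots e then 1 else 0)
      (fun i => by
        rw [hpowY, show y ^ i.val = ((C.el i : P) : G) by rw [Coord.el, SubmonoidClass.coe_pow], ← hA i, ← htrA']
        simp [Matrix.trace])
      l
    have h2 : ((YA - 1) ^ (p - 2 * e) : Module.End (ResidueField O) (Fin n → ResidueField O)) =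
        Matrix.toLin' (Ψ.map (residue O)) := by
      rw [hk]
      show _ = Matrix.toLinAlgEquiv' _
      rw [map_pow, map_sub, map_one]
      rfl
    rw [h2, ← hc'] at *
    have h3 := rank_map_residue_le Ψ
    rw [Matrix.rank, ← Matrix.toLin'_apply'] at h3
    refine (Int.ofNat_le.2 h3).trans (h1.trans (le_of_eq ?_))
    rw [show Finset.univ.filter (fun b => b ∉ l) = T by ext b; simp [hl]]
    rw [Finset.sum_congr rfl (g := fun _ => (kk : ℤ)) fun b hb => by
      rw [if_neg (Finset.mem_filter.1 (hTsub hb)).2, add_zero], Finset.sum_const, hTcard, nsmul_eq_mul]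
    push_cast
    ring
  -- the fixed points of `w`
  obtain ⟨D, hD, hDsum⟩ := exists_fixed_bound (p := p) mA w hwo
  simp only [htrA'] at hDsum
  obtain ⟨q, hq⟩ : e ∣ orderOf w := by
    rw [← hr, orderOf_dvd_iff_pow_eq_one]
    have h1 := conj_pow_pow hwy (orderOf w)
    rw [pow_orderOf_eq_one, one_mul, inv_one, mul_one] at h1
    have h3 := pow_eq_pow_iff_modEq.1 ((pow_one y).trans h1)
    rw [hy, ← ZMod.natCast_eq_natCast_iff] at h3
    rw [← Nat.cast_pow, ← h3, Nat.cast_one]
  set S := ∑ j ∈ Finset.Ico 1 e, σA.character (w ^ j) with hS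
  have hDe : (e : ℂ) * D = (n : ℂ) + S := by
    have hper : ∀ j, σA.character (w ^ (e + j)) = σA.character (w ^ j) := fun j => by
      rw [pow_add, hAV _ hwe]
    have hblock : ∀ q' : ℕ, ∑ i ∈ Finset.range (q' * e), σA.character (w ^ i) =
        (q' : ℂ) * ∑ i ∈ Finset.range e, σA.character (w ^ i) := by
      intro q'
      induction q' with
      | zero => simp
      | succ q' ih =>
        rw [Nat.succ_mul, add_comm (q' * e), Finset.sum_range_add, Finset.sum_congr rfl fun j _ => hper j, ih]
        push_cast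
        ring
    rw [hq, mul_comm e q, hblock] at hDsum
    have hq0 : (q : ℂ) ≠ 0 := Nat.cast_ne_zero.2 fun h => (orderOf_pos w).ne' (by rw [hq, h, mul_zero])
    have h1 : (e : ℂ) * D = ∑ i ∈ Finset.range e, σA.character (w ^ i) := by
      refine mul_left_cancel₀ hq0 ?_
      rw [← hDsum]
      push_cast
      ring
    rw [h1, Finset.range_eq_Ico, ← Finset.sum_Ico_consecutive _ (Nat.zero_le 1) (show 1 ≤ e from he0)]
    congr 1
    rw [← Finset.range_eq_Ico, Finset.sum_range_one, pow_zero, Representation.char_one, Module.finrank_fin_fun]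
  -- the fixed points of the normaliser
  set F := fun g => f₀ g * σA.character g with hF
  have hchar : ∀ g, (cRep τ).character g = F g := fun g => by
    rw [cRep_character, hτ, pairHom_trace]
    push_cast
    rw [htr', htr', htrA', hF, hf₀, ← hρ, char_inv]
    ring
  have hfirst : ∀ g, (ζ : G → ℂ) g * conj ((ζ : G → ℂ) g) * σA.character g = F g := fun g => rfl
  obtain ⟨ν, -, hout⟩ := L.exists_nu K
  set W := finrank ℂ (Representation.invariants (cRep τ)) with hW
  set WN := finrank ℂ (Representation.invariants ((cRep τ).comp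
    (Subgroup.normalizer (P : Set G)).subtype : Representation ℂ (Subgroup.normalizer (P : Set G)) _)) with hWN
  set aW : ℤ := ∑ i : ZMod p, ((p : ℤ) - 2 * e + R e (-1) i) * ((kk : ℤ) + if (0 - i) * c⁻¹ ∈ roots e then 1 else 0)
    with haW
  have hWNe : (e : ℂ) * WN = (aW : ℂ) + S := by
    have hclf : IsClassFunction G F := fun g h => by
      rw [hF, hf₀, ← hρ]
      simp only [Representation.char_conj]
    have h := gap_sum_N K C hVc hwN hwy hr hwe hgen F hclf (fun v hv g => by
      simp only [hF, hf₀]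
      rw [hAV v hv, show (ζ : G → ℂ) (v * g) = (b : V → ℂ) ⟨v, hv⟩ * (ζ : G → ℂ) g from L.cen ⟨v, hv⟩ g, map_mul]
      linear_combination ((ζ : G → ℂ) g * conj ((ζ : G → ℂ) g) * σA.character g) * lin_norm L.lin ⟨v, hv⟩)
      ((L.hasMult_abs K hp).mul hA)
    have hj : ∑ j ∈ Finset.Ico 1 e, F (w ^ j) = S := by
      refine Finset.sum_congr rfl fun j hj => ?_
      have hnot : w ^ j ∉ Subgroup.centralizer (P : Set G) := by
        intro hmem
        have h1 := conj_pow_pow hwy j
        rw [← Subgroup.mem_centralizer_iff.1 hmem _ C.y.2, mul_inv_cancel_right] at h1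
        have h3 := pow_eq_pow_iff_modEq.1 ((pow_one y).trans h1)
        rw [hy, ← ZMod.natCast_eq_natCast_iff, Nat.cast_one, Nat.cast_pow, eq_comm,
          ← orderOf_dvd_iff_pow_eq_one, hr] at h3
        have := Finset.mem_Ico.1 hj
        have := Nat.eq_zero_of_dvd_of_lt h3 this.2
        omega
      simp only [hF, hf₀]
      rw [hout ⟨_, N.pow_mem hwN j⟩ hnot, norm_hom ν, one_mul]
    rw [hj, ← haW] at h
    have hN : ∑ n : Subgroup.normalizer (P : Set G), F n = ∑ n : N, F n := by
      refine Fintype.sum_equiv (MulEquiv.subgroupCongr K.hN.symm).toEquiv _ _ fun n => rfl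
    have hcardN : (Nat.card (Subgroup.normalizer (P : Set G)) : ℂ) = (e : ℂ) * ((p : ℂ) * Nat.card V) := by
      rw [← K.hN, K.D.hcard, K.hP]; push_cast; ring
    have h0 : (p : ℂ) * Nat.card V ≠ 0 :=
      mul_ne_zero (Nat.cast_ne_zero.2 hpp.ne_zero) (Nat.cast_ne_zero.2 Nat.card_pos.ne')
    rw [hWN, finrank_invariants_eq, hcardN]
    have hsum : ∑ g : Subgroup.normalizer (P : Set G),
        Representation.character (k := ℂ) ((cRep τ).comp (Subgroup.normalizer (P : Set G)).subtype : Representation ℂ _ _) g =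
        ∑ n : N, F n := by
      rw [← hN]
      exact Finset.sum_congr rfl fun g _ => hchar (g : G)
    rw [hsum, h]
    have he' : (e : ℂ) ≠ 0 := Nat.cast_ne_zero.2 (by omega)
    have hp0 : (p : ℂ) ≠ 0 := Nat.cast_ne_zero.2 hpp.ne_zero
    field_simp
  -- the count
  have haWval : aW = (kk : ℤ) * (d : ℤ) ^ 2 + ((p : ℤ) - 2 * e) * e + e * R e (-1) c := by
    have hsum : ∑ i : ZMod p, ((p : ℤ) - 2 * e + R e (-1) i) = (d : ℤ) ^ 2 := by
      rw [Finset.sum_add_distrib, Finset.sum_const, Finset.card_univ, ZMod.card, nsmul_eq_mul, sum_R hp,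
        show (d : ℤ) = (p : ℤ) - e by omega]
      ring
    rw [haW]
    simp only [mul_add, Finset.sum_add_distrib, ← Finset.sum_mul, hsum, mul_ite, mul_one, mul_zero, zero_sub]
    rw [← Finset.sum_filter]
    have hbij : ∑ i ∈ Finset.univ.filter (fun i : ZMod p => -i * c⁻¹ ∈ roots e), ((p : ℤ) - 2 * e + R e (-1) i) =
        ∑ _h ∈ roots (p := p) e, ((p : ℤ) - 2 * e + R e (-1) c) := by
      refine Finset.sum_bij (fun i _ => -i * c⁻¹) (fun i hi => (Finset.mem_filter.1 hi).2)
        (fun i _ j _ h => neg_injective (mul_right_cancel₀ (inv_ne_zero hc) h)) (fun x hx => ?_) fun i hi => ?_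
      · refine ⟨-(x * c), Finset.mem_filter.2 ⟨Finset.mem_univ _, ?_⟩, ?_⟩ <;>
          rw [neg_neg, mul_inv_cancel_right₀ hc]
        exact hx
      · have h1 := (Finset.mem_filter.1 hi).2
        rw [← R_scale (e := e) h1 he0 c, inv_mul_cancel_right₀ hc, R_neg_swap]
    rw [hbij, Finset.sum_const, card_roots hp, nsmul_eq_mul]
    ring
  refine ⟨W, ?_, ?_⟩
  · have hb : WN ≤ W + finrank (ResidueField O) (Submodule.comap (pairMap (R := ResidueField O) (d := d) (n := n)) Z') :=
      hbound
    have hker : finrank (ResidueField O) (LinearMap.ker (WA - 1)) ≤ D := hD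
    rw [Module.finrank_fin_fun] at hZ'le
    have hE : (e : ℤ) * WN = aW - n + e * D := by
      have h : ((e : ℤ) * WN : ℂ) = ((aW - n + e * D : ℤ) : ℂ) := by
        push_cast
        linear_combination hWNe - hDe
      exact_mod_cast h
    have h1 : 2 * (WN : ℤ) ≤ 2 * W + 2 * (((t : ℤ) - 2) * n + D) + 2 * e * kk := by
      have a1 : (WN : ℤ) ≤ W + finrank (ResidueField O) Z' := by exact_mod_cast hb.trans (Nat.add_le_add_left hZdim _)
      have a2 : (2 : ℤ) * finrank (ResidueField O) Z' ≤ 2 * (((t : ℤ) - 2) * n +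
          finrank (ResidueField O) (LinearMap.ker (WA - 1))) +
          finrank (ResidueField O) (LinearMap.range ((YA - 1) ^ (p - 2 * e))) := by
        rw [show ((t : ℤ) - 2) = ((t - 2 : ℕ) : ℤ) by omega]
        exact_mod_cast hZ'le
      have a3 : (finrank (ResidueField O) (LinearMap.ker (WA - 1)) : ℤ) ≤ D := by exact_mod_cast hker
      linarith
    have hp' : (p : ℤ) = t * e + 1 := by exact_mod_cast hp
    have hd' : (d : ℤ) = (p : ℤ) - e := by omega
    refine le_of_mul_le_mul_left ?_ (show (0 : ℤ) < 2 * e by omega)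
    have h2 := mul_le_mul_of_nonneg_left h1 (show (0 : ℤ) ≤ e by omega)
    rw [haWval, hdeg, hd', hp'] at hE
    rw [hdeg, hp'] at h2
    nlinarith
  · have h := finrank_invariants_eq (cRep τ)
    rw [← hW, Finset.sum_congr rfl fun g _ => hchar g] at h
    rw [h, ← mul_assoc, mul_inv_cancel₀ (Nat.cast_ne_zero.2 Nat.card_pos.ne'), one_mul]

variable {M : Ideal AlgInt} [M.IsPrime]

/-- `e + 3` is at most `(p - 1) / e`. -/
theorem Exc.gap_bound (L : Exc K ζ b C) (hcore : Core p G) (hM : IsPModular p M) {t : ℕ}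
    (hp : p = t * e + 1) (he : 3 ≤ e) (ht : 3 ≤ t) : e + 3 ≤ t := by
  refine (L.alt_bound K hcore hM hp he ht).resolve_right fun hright => ?_
  suffices hle : e ≤ t by omega
  have hZ : Subgroup.center G ≠ ⊥ := fun h => L.absurd_of_odd K hcore hM hp he ht (by
    rw [show V = ⊥ from L.center.trans h, Subgroup.card_bot]; exact odd_one)
  have h3 : 3 * e ≤ t * e := Nat.mul_le_mul_right e ht
  have hno : ∀ χ : IrrCharacter G, charDegree (χ : G → ℂ) ≠ e := fun χ h =>
    not_small_degree hcore χ h (by omega) (by omega)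
  have hp' : (p : ℤ) = t * e + 1 := by exact_mod_cast hp
  -- the principal block
  obtain ⟨X, Y, δ, sg, F⟩ := exists_fam K hM L.center.le (principal V) rfl
  have hone : IsExt (P := P) (1 : N →* ℂˣ) (principal V) :=
    ⟨fun _ _ => rfl, fun n hn => by rw [MonoidHom.one_apply, Units.val_one]; rfl⟩
  obtain ⟨ε, hε, hY⟩ := shared_ext K F C hone hno
  obtain rfl : δ = -1 := by
    refine F.fam.sign.resolve_left fun hδ => ?_
    obtain ⟨μ, hμ1, hμ⟩ := L.exists_mu K
    obtain ⟨X2, Y2, δ2, sg2, F2⟩ := exists_fam K hM L.center.le μ hμ1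
    obtain rfl : δ2 = -1 := L.sq_neg K hcore hp he ht F2 hμ
    obtain ⟨ν, ε2, m2, hν, hout, hε2, hY2, hm2, hR2⟩ := L.sq_block K hp he ht F2 hμ hno
    obtain ⟨f, hf, hc, ha, hfo, hreg, -⟩ := L.exists_one K hp hout (μ := principal V) fun _ => rfl
    obtain ⟨m, hm⟩ := block_bound K hp he (by omega) F C hone hε hY f hf hc ha hfo hreg
    refine L1 hp he ht m2 m (fun j x hj hx => ⟨by linarith [hR2 j x hj hx], ?_⟩) (by linarith) ?_
    · obtain ⟨v, hv⟩ := (hm j hj).2.2 x hx
      rw [hδ] at hv
      omega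
    · obtain ⟨r, hr, hrn⟩ := exists_not_roots hp (by omega) (by omega)
      obtain ⟨h1, h2, -⟩ := hm r hr
      have h5 : (∑ θ ∈ Y, mult (f r) θ) ≤ fixd (f r) ε := budget' K hY (hf r hr)
      rw [if_neg hrn] at h1 h2
      rw [hδ, one_mul] at h2
      split_ifs at h1 <;> omega
  obtain ⟨ν, hν, hout⟩ := L.exists_nu K
  set f₀ : G → ℂ := fun g => (ζ : G → ℂ) g * conj ((ζ : G → ℂ) g) with hf₀
  have hf₀c : IsCharacter G f₀ :=
    IsCharacter.mul (IsIrrCharacter.isCharacter ζ.2) (IsCharacter.conj (IsIrrCharacter.isCharacter ζ.2))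
  have hcen : Cen V f₀ (principal V) := fun v g => by
    simp only [hf₀]
    rw [L.cen, map_mul, SmallDeg16.principal_apply]
    linear_combination ((ζ : G → ℂ) g * conj ((ζ : G → ℂ) g)) * lin_norm L.lin v
  have hfa := L.hasMult_abs K hp
  set S := ∑ χ ∈ X, (mult f₀ χ : ℤ) * sg χ with hS
  set T := ∑ θ ∈ Y, mult f₀ θ with hT
  -- the exceptional multiplicities
  have hwY : ∀ c : ZMod p, c ≠ 0 → (R e (-1) c : ℤ) ≤ F.wY C f₀ c := by
    intro c hc
    obtain ⟨θ, hθ, hθv⟩ := F.exists_th (l := C.lam c) fun h => hc (C.lam_eq_one.1 h)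
    have hne : acoef K θ (principal V) (C.lam c) ≠ 0 := by rw [hθv θ hθ, if_pos rfl]; norm_num
    have hwθ : F.wY C f₀ c = mult f₀ θ := by
      rw [Fam.wY, Finset.sum_eq_single θ (fun η hη hηθ => if_neg (by rw [hθv η hη, if_neg hηθ]; simp))
        (fun h => absurd hθ h), if_pos hne]
    have hθm := hasMult_irr K C θ F.lin F.hV (F.cen_of_inR (F.inR_Y hθ))
    set k := nco K.D (IsIrrCharacter.isCharacter θ.2) 1 (principal V) with hk
    have hθa : ∀ i : ZMod p, (nco K.D (IsIrrCharacter.isCharacter θ.2) (C.lam i) (principal V) : ℤ) =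
        (k : ℤ) + if i * c⁻¹ ∈ roots e then 1 else 0 := fun i => by
      have h := fibre_form K F C (by omega) hθ hc hne i
      simp only [acoef, ← hk, mem_roots] at h ⊢
      split_ifs with h' <;> simp only [h', if_true, if_false] at h <;> omega
    obtain ⟨nθ, σθ, -, hσθ⟩ := id θ.2
    have hdual : σθ.dual.character = fun g => conj ((θ : G → ℂ) g) := funext fun g => by
      rw [Representation.char_dual, char_inv, hσθ]
    obtain ⟨σA, hσA⟩ : ∃ σA : Representation ℂ G (Fin nθ → ℂ), σA.character = σθ.dual.character := by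
      obtain ⟨n', σ', hσ'⟩ := IsCharacter.conj (IsIrrCharacter.isCharacter θ.2)
      have hn : n' = nθ := by
        have h1 := congrFun hσ' 1
        rw [Representation.char_one, Module.finrank_fin_fun, ← hσθ, Representation.char_one,
          Module.finrank_fin_fun, map_natCast] at h1
        exact_mod_cast h1
      subst hn
      exact ⟨σ', hσ'.trans hdual.symm⟩
    rw [hdual] at hσA
    obtain ⟨w, hw, hwsum⟩ := L.gap_mult K hcore hp he ht hZ σA (fun v hv g => by
        rw [hσA]
        simp only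
        rw [(F.cen_of_inR (F.inR_Y hθ)) ⟨v, hv⟩ g, SmallDeg16.principal_apply, one_mul])
      (kk := k) (c := -c) (neg_ne_zero.2 hc) (by
        rw [hσA]
        refine hasMult_conj (hθm.congr hθa) fun i => ?_
        rw [inv_neg, mul_neg, neg_mul])
    rw [hwθ, ← R_neg_swap]
    refine hw.trans (le_of_eq ?_)
    have h := mult_eq hf₀c θ
    have hwc : (w : ℂ) = classInner f₀ (θ : G → ℂ) := by
      rw [classInner, eq_comm, inv_mul_eq_iff_eq_mul₀ (Nat.cast_ne_zero.2 Nat.card_pos.ne'), hwsum]
      exact Finset.sum_congr rfl fun g _ => by rw [hσA]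
    rw [h] at hwc
    exact_mod_cast hwc
  have hr0 : (R e (-1 : ZMod p) 0 : ℤ) = e := by exact_mod_cast R_neg_one_zero hp
  have hm : (e : ℤ) - S ≤ 0 := by
    have h1 : (1 : ZMod p) ≠ 0 := one_ne_zero
    have h := F.mult_eqn C hf₀c hcen hfa h1
    rw [hr0, ← hS] at h
    have := hwY 1 h1
    omega
  -- the degree
  obtain ⟨D, hD⟩ := IsCharacter.exists_degree hf₀c
  have hdeg : (D : ℤ) = ((p : ℤ) - e) ^ 2 := by
    have h := hfa.degree
    rw [show (ζ : G → ℂ) 1 * conj ((ζ : G → ℂ) 1) = f₀ 1 from rfl, hD] at h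
    have h' : (D : ℤ) = ∑ j : ZMod p, ((p : ℤ) - 2 * e + R e (-1) j) := by exact_mod_cast h
    rw [h', Finset.sum_add_distrib, Finset.sum_const, Finset.card_univ, ZMod.card, nsmul_eq_mul, sum_R hp]
    ring
  have hTeq : (T : ℤ) = (t : ℤ) * (S - e) + e - 1 := by
    have h := F.mult_total C hf₀c hcen hfa hD
    rw [hr0, hdeg, ← Nat.cast_sum, ← hS, ← hT, hp'] at h
    refine mul_left_cancel₀ (show (e : ℤ) ≠ 0 by omega) ?_
    linear_combination h
  -- the budget
  have hfix : (fixd f₀ ε : ℤ) = (t : ℤ) - 1 + (if ε = 1 then 1 else 0) := by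
    have h := inn_of_out K F.hV F.lin hcen hfa hone hε 1 fun n hn => by
      simp only [hf₀]
      rw [hout n hn, norm_hom ν, MonoidHom.one_apply, Units.val_one, one_mul]
    rw [inn_eq_fixd hf₀c, hr0] at h
    have h' : (e : ℤ) * fixd f₀ ε = (p : ℤ) - 2 * e + e + ((if ε = 1 then (e : ℤ) else 0) - 1) := by
      have h2 : (((e : ℤ) * fixd f₀ ε : ℤ) : ℂ) =
          (((p : ℤ) - 2 * e + e + ((if ε = 1 then (e : ℤ) else 0) - 1) : ℤ) : ℂ) := by
        push_cast at h ⊢
        linear_combination h
      exact_mod_cast h2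
    refine mul_left_cancel₀ (show (e : ℤ) ≠ 0 by omega) ?_
    rw [h', hp']
    split_ifs <;> ring
  have hTt : (T : ℤ) ≤ (t : ℤ) - 1 := by
    have hP0 : principal G ∉ Y := fun h => by
      have h1 := F.deg_Y h
      rw [SmallDeg16.charDegree_principal] at h1
      have h2 : (p : ℤ) ∣ ((e - 1 : ℕ) : ℤ) := by
        rw [Nat.cast_sub (by omega), Nat.cast_one]
        have h4 := dvd_neg.2 h1
        rw [show ((e : ℤ) - 1) = -(((1 : ℕ) : ℤ) + -1 * e) by push_cast; ring]
        exact h4
      have := natCast_eq_one_of_dvd K.hp h2 (by omega)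
      omega
    have h3' := budget K hY hf₀c hP0
    have hpr : 1 ≤ mult f₀ (principal G) := by
      have h1 : classInner f₀ (principal G : G → ℂ) = 1 := by
        rw [← classInner_self_irr ζ.2]
        simp only [hf₀, classInner, SmallDeg16.principal_apply, map_one, mul_one]
      have h2 : (mult f₀ (principal G) : ℂ) = 1 := (mult_eq hf₀c (principal G)).symm.trans h1
      have : mult f₀ (principal G) = 1 := by exact_mod_cast h2
      omega
    by_cases hε1 : ε = 1
    · have hfx : fixd (principal G : G → ℂ) ε = 1 := by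
        have h5 : inn (principal G : G → ℂ) ε = 1 := by
          rw [hε1]
          simp only [inn, classInner, SmallDeg16.principal_apply, MonoidHom.one_apply, Units.val_one,
            map_one, mul_one, Finset.sum_const, Finset.card_univ, nsmul_eq_mul]
          rw [← Nat.card_eq_fintype_card, inv_mul_cancel₀ (Nat.cast_ne_zero.2 Nat.card_pos.ne')]
        rw [inn_eq_fixd (IsIrrCharacter.isCharacter (principal G).2)] at h5
        exact_mod_cast h5
      rw [hfx, mul_one] at h3'
      rw [if_pos hε1] at hfix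
      omega
    · rw [if_neg hε1] at hfix
      have h6 : T ≤ fixd f₀ ε := le_trans (Nat.le_add_right _ _) h3'
      omega
  have hpos : 0 ≤ (t : ℤ) * (S - e) := mul_nonneg (by omega) (by linarith)
  omega

end Cfsg.Agent.Feit
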