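import Cfsg.Agent.Lib.Feit.Basic
import Cfsg.Agent.Lib.SmallDeg16.Quotient

/-!
A group with an irreducible core that is a central extension of `PSL₂(p)` is one itself.
-/

set_option autoImplicit false
set_option linter.unusedSectionVars false
set_option linter.style.haveILetI false

namespace Cfsg.Agent.Feit

open Module SmallDim SmallDeg16
open scoped Classical MatrixGroups Pointwise

universe u

variable {G : Type u} [Group G] [Finite G] {p : ℕ} [hpF : Fact p.Prime] {d : ℕ}

/-- A group with an irreducible core that is a central extension of `PSL₂(p)` is one itself. -/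
theorem quotient_of_core (hd : d + 1 < p) (ρ : Representation ℂ G (Fin d → ℂ))
    (hρ : Function.Injective ρ) (L : Subgroup G) [hLn : L.Normal] (hcore : Core p L)
    (hirr : Representation.IsIrreducible
      (MonoidHom.comp ρ L.subtype : Representation ℂ L (Fin d → ℂ)))
    (e : L ⧸ Subgroup.center L ≃* Matrix.ProjectiveSpecialLinearGroup (Fin 2) (ZMod p)) :
    Nonempty (G ⧸ Subgroup.center G ≃* Matrix.ProjectiveSpecialLinearGroup (Fin 2) (ZMod p)) := by
  haveI : Fintype G := Fintype.ofFinite G
  have hp := hpF.out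
  have hp7 := hcore.big
  haveI := hirr
  let σ : Representation ℂ L (Fin d → ℂ) := MonoidHom.comp ρ L.subtype
  have hcent : ∀ c : G, (∀ l ∈ L, c * l = l * c) → c ∈ Subgroup.center G := by
    intro c hc
    obtain ⟨s, hs⟩ := Char.schur_scalar σ (ρ c) fun l v => by
      show ρ c (ρ (l : G) v) = ρ (l : G) (ρ c v)
      rw [← Module.End.mul_apply, ← map_mul, hc l l.2, map_mul, Module.End.mul_apply]
    exact mem_center_of_scalar ρ hρ fun v => by rw [hs]; rfl
  obtain ⟨x, hx⟩ := exists_prime_orderOf_dvd_card' (G := L) p hcore.dvd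
  have hxc := not_mem_center_of_order hcore.perf hcore.sq hx
  have hxp : x ^ p = 1 := hx ▸ pow_orderOf_eq_one x
  have hxG : (x : G) ^ p = 1 := congrArg Subtype.val hxp
  -- the map to `PGL₂`
  let k := AlgebraicClosure (ZMod p)
  haveI : CharP k p := charP_of_injective_algebraMap (algebraMap (ZMod p) k).injective p
  let φ₀ : L →* PGL(2, k) :=
    (iotaPSL k p).comp (e.toMonoidHom.comp (QuotientGroup.mk' (Subgroup.center L)))
  have hφ₀ : φ₀ x ≠ 1 := fun h => hxc ((QuotientGroup.eq_one_iff x).1
    ((map_eq_one_iff e e.injective).1 ((map_eq_one_iff _ (iotaPSL_injective k p)).1 h)))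
  obtain ⟨φ, hk, hr, hφx⟩ := exists_std_hom (by omega) hcore.perf hcore.sq hcore.norm φ₀ hx hφ₀
  obtain ⟨-, -, hsq2⟩ := centralizer_of_std (by omega) hcore.perf hcore.sq φ hx hk hr hφx
  set f : Module.End ℂ (Fin d → ℂ) := ρ (x : G) with hf
  have hsqr : ∀ (t : (ZMod p)ˣ) (l : ℂ), finrank ℂ (f.eigenspace l) ≤
      finrank ℂ (f.eigenspace (l ^ (((t : ZMod p) ^ 2).val))) := by
    intro t l
    obtain ⟨m, hm⟩ := hsq2 t
    have hm' : (m : G) * x * (m : G)⁻¹ = (x : G) ^ (((t : ZMod p) ^ 2).val) := by
      simpa using congrArg Subtype.val hm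
    refine le_of_le_of_eq (Submodule.finrank_mono (eigenspace_le_pow f l (((t : ZMod p) ^ 2).val))) ?_
    rw [hf, ← map_pow, ← hm', finrank_eigenspace_conj]
  -- an eigenvalue of order `p`
  obtain ⟨l₀, hl₀, hl₀p⟩ : ∃ l : ℂ, 0 < finrank ℂ (f.eigenspace l) ∧ orderOf l = p := by
    by_contra h
    push Not at h
    refine hxc (Subgroup.mem_center_iff.2 fun g => ?_)
    have hf1 : f = 1 := by
      have hle : ⨆ μ : ℂ, f.eigenspace μ ≤ LinearMap.ker (f - 1) := iSup_le fun μ w hw => by
        rw [LinearMap.mem_ker, LinearMap.sub_apply, Module.End.one_apply]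
        rcases eq_or_ne w 0 with rfl | hw0
        · simp
        have hμ := Module.End.mem_eigenspace_iff.1 hw
        have hpos : 0 < finrank ℂ (f.eigenspace μ) := by
          rw [Nat.pos_iff_ne_zero, Ne, Submodule.finrank_eq_zero]
          intro h0
          rw [h0, Submodule.mem_bot] at hw
          exact hw0 hw
        have h1 := Module.End.mem_eigenspace_iff.1 (eigenspace_le_pow f μ p hw)
        rw [hf, ← map_pow, hxG, map_one, Module.End.one_apply] at h1
        have hμp : μ ^ p = 1 := (smul_left_injective ℂ hw0 ((one_smul ℂ w).trans h1)).symm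
        rcases eq_or_ne μ 1 with rfl | hμ1
        · rw [hμ, one_smul, sub_self]
        · exact absurd (orderOf_eq_prime hμp hμ1) (h μ hpos)
      rw [iSup_eigenspace_rep, top_le_iff, LinearMap.ker_eq_top, sub_eq_zero] at hle
      exact hle
    have hx1 : x = 1 := Subtype.ext (hρ (hf1.trans (map_one ρ).symm))
    rw [hx1, mul_one, one_mul]
  have hgen : ∀ g : G, g ∈ L ⊔ Subgroup.center G := by
    intro g
    set x' : L := ⟨g * x * g⁻¹, hLn.conj_mem _ x.2 g⟩ with hx'd
    have hx' : orderOf x' = p := by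
      refine orderOf_eq_prime (Subtype.ext ?_) fun h => ?_
      · show (g * x * g⁻¹) ^ p = 1
        rw [conj_pow, hxG, mul_one, mul_inv_cancel]
      · have h1 : g * x * g⁻¹ = 1 := congrArg Subtype.val h
        rw [conj_eq_one_iff] at h1
        exact hp.ne_one (by rw [← hx, show x = 1 from Subtype.ext h1, orderOf_one])
    have hsyl : ∀ z : L, orderOf z = p →
        IsPGroup p (Subgroup.zpowers z) ∧ ¬ p ∣ (Subgroup.zpowers z).index := fun z hz => by
      have hc : Nat.card (Subgroup.zpowers z) = p := by rw [Nat.card_zpowers, hz]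
      exact ⟨IsPGroup.of_card (n := 1) (by rw [hc, pow_one]),
        not_dvd_index_of_sq (by rw [hc]) hcore.sq⟩
    obtain ⟨l, hl⟩ := MulAction.exists_smul_eq L ((hsyl x' hx').1.toSylow (hsyl x' hx').2)
      ((hsyl x hx).1.toSylow (hsyl x hx).2)
    have hmem : l * x' * l⁻¹ ∈ Subgroup.zpowers x := by
      have h := congrArg Sylow.toSubgroup hl
      rw [Sylow.coe_subgroup_smul, IsPGroup.toSylow_coe, IsPGroup.toSylow_coe] at h
      rw [← h, Subgroup.mem_smul_pointwise_iff_exists]
      exact ⟨x', Subgroup.mem_zpowers _, by rw [MulAut.smul_def, MulAut.conj_apply]⟩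
    have hSc : Nat.card (Subgroup.zpowers x) = p := by rw [Nat.card_zpowers, hx]
    have hx1 : x ≠ 1 := fun h => hp.ne_one (by rw [← hx, h, orderOf_one])
    obtain ⟨a, ha⟩ := exists_pow_eq hSc (Subgroup.mem_zpowers x) hx1 hmem
    set n := (l : G) * g with hn
    have hnx : n * x * n⁻¹ = (x : G) ^ a := by
      have h := congrArg Subtype.val ha
      simp only [Subgroup.coe_mul, Subgroup.coe_inv, SubmonoidClass.coe_pow, hx'd] at h
      rw [← h, hn]
      group
    have ha0 : (a : ZMod p) ≠ 0 := by
      rw [Ne, ZMod.natCast_eq_zero_iff]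
      rintro ⟨c, rfl⟩
      rw [pow_mul, hxG, one_pow, conj_eq_one_iff] at hnx
      exact hx1 (Subtype.ext hnx)
    have hamod : (x : G) ^ a = (x : G) ^ (a : ZMod p).val := by
      rw [ZMod.val_natCast, ← pow_eq_pow_mod a hxG]
    have hua := exponent_mem_squares (ua := Units.mk0 _ ha0) f (by omega) hd hsqr (fun μ => by
      refine le_of_le_of_eq (Submodule.finrank_mono (eigenspace_le_pow f μ (a : ZMod p).val)) ?_
      rw [hf, ← map_pow, ← hamod, ← hnx, finrank_eigenspace_conj, Units.val_mk0]) hl₀p hl₀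
    obtain ⟨t, ht⟩ := hua
    obtain ⟨m, hm⟩ := hsq2 t
    have hm' : (m : G) * x * (m : G)⁻¹ = (x : G) ^ a := by
      have h1 : (t : ZMod p) ^ 2 = (a : ZMod p) := by
        have := congrArg Units.val ht
        simpa using this
      rw [hamod, ← h1]
      simpa using congrArg Subtype.val hm
    set c := (m : G)⁻¹ * n with hc
    have hcx : c * x * c⁻¹ = x := by
      calc c * x * c⁻¹ = (m : G)⁻¹ * (n * x * n⁻¹) * m := by rw [hc]; group
        _ = x := by rw [hnx, ← hm']; group
    obtain ⟨j, hj⟩ := exists_pow_inner (by omega) hcore.perf hcore.sq φ hk hr hx hφx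
      (MulAut.conjNormal c) (Subtype.ext (by rw [MulAut.conjNormal_apply]; exact hcx))
    have hcz : c * (x : G) ^ j ∈ Subgroup.center G := by
      refine hcent _ fun y hy => ?_
      have h := congrArg Subtype.val (hj ⟨y, hy⟩)
      rw [MulAut.conjNormal_apply] at h
      simp only [Subgroup.coe_mul, Subgroup.coe_inv, SubmonoidClass.coe_pow] at h
      calc c * (x : G) ^ j * y = c * ((x : G) ^ j * y * ((x : G) ^ j)⁻¹) * c⁻¹ * (c * (x : G) ^ j) := by
            group
        _ = y * (c * (x : G) ^ j) := by rw [h]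
    have e1 : g = (l : G)⁻¹ * m * (c * (x : G) ^ j) * ((x : G) ^ j)⁻¹ := by
      rw [hc, hn]
      group
    rw [e1]
    exact Subgroup.mul_mem _ (Subgroup.mul_mem _ (Subgroup.mem_sup_left
      (L.mul_mem (L.inv_mem l.2) m.2)) (Subgroup.mem_sup_right hcz))
      (Subgroup.mem_sup_left (L.inv_mem (pow_mem x.2 j)))
  -- the isomorphism
  let ψ : L →* G ⧸ Subgroup.center G := (QuotientGroup.mk' _).comp L.subtype
  have hψs : Function.Surjective ψ := fun q => by
    obtain ⟨g, rfl⟩ := QuotientGroup.mk_surjective q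
    obtain ⟨y, hy, z, hz, rfl⟩ := Subgroup.mem_sup_of_normal_right.1 (hgen g)
    exact ⟨⟨y, hy⟩, QuotientGroup.eq.2 (by simpa using hz)⟩
  have hψk : ψ.ker = Subgroup.center L := by
    ext y
    rw [MonoidHom.mem_ker]
    show ((y : G) : G ⧸ Subgroup.center G) = 1 ↔ _
    rw [QuotientGroup.eq_one_iff]
    constructor
    · exact fun h => Subgroup.mem_center_iff.2 fun w => Subtype.ext (Subgroup.mem_center_iff.1 h w)
    · exact fun h => hcent _ fun w hw =>
        (congrArg Subtype.val (Subgroup.mem_center_iff.1 h ⟨w, hw⟩)).symm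
  exact ⟨((QuotientGroup.quotientKerEquivOfSurjective ψ hψs).symm.trans
    (QuotientGroup.quotientMulEquivOfEq hψk)).trans e⟩

end Cfsg.Agent.Feit
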