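import Cfsg.Agent.Lib.Feit.SqIndex

/-!
The reduction to a perfect irreducible core in degree less than `p - 1`.
-/

set_option autoImplicit false
set_option linter.unusedSectionVars false
set_option linter.style.haveILetI false

namespace Cfsg.Agent.Feit

open Module Cfsg SmallDim SmallDeg16
open scoped Classical

universe u

variable {G : Type u} [Group G] [Finite G] {p : ℕ} [hpF : Fact p.Prime] {n : ℕ}

/-- A normal subgroup is irreducible or has normal Sylow subgroups, in degree less than `p - 1`. -/
theorem pnormal_or_irreducible (ρ : Representation ℂ G (Fin n → ℂ)) [ρ.IsIrreducible]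
    (hρ : Function.Injective ρ) (hn : n + 1 < p) (N : Subgroup G) [hNn : N.Normal] :
    PNormal p N ∨
      Representation.IsIrreducible (MonoidHom.comp ρ N.subtype : Representation ℂ N (Fin n → ℂ)) := by
  haveI : Nontrivial (Fin n → ℂ) := Char.nontrivial_of_irreducible ρ
  let σ : Representation ℂ N (Fin n → ℂ) := MonoidHom.comp ρ N.subtype
  obtain ⟨U, -, hU⟩ := exists_minInv (ρ := σ) (W := ⊤) (fun _ _ _ => Submodule.mem_top) top_ne_bot
  have hinv : ∀ g : G, Inv σ (U.map (ρ g)) := by
    rintro g m _ ⟨u, hu, rfl⟩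
    have hm : g⁻¹ * m * g ∈ N := by simpa using hNn.conj_mem (m : G) m.2 g⁻¹
    refine ⟨σ ⟨_, hm⟩ u, hU.inv _ u hu, ?_⟩
    show ρ g (ρ (g⁻¹ * (m : G) * g) u) = ρ (m : G) (ρ g u)
    rw [← Module.End.mul_apply, ← map_mul, ← Module.End.mul_apply, ← map_mul, ← mul_assoc,
      ← mul_assoc, mul_inv_cancel, one_mul]
  have hinj : ∀ g : G, Function.Injective (ρ g) := fun g u v h => by
    have := congrArg (ρ g⁻¹) h
    rwa [← Module.End.mul_apply, ← Module.End.mul_apply, ← map_mul, inv_mul_cancel, map_one,
      Module.End.one_apply, Module.End.one_apply] at this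
  have hdim : ∀ g : G, finrank ℂ (U.map (ρ g)) = finrank ℂ U := fun g =>
    (Submodule.equivMapOfInjective (ρ g) (hinj g) U).finrank_eq.symm
  have htop : ⨆ g : G, U.map (ρ g) = ⊤ := by
    refine Inv.eq_top (ρ := ρ) (fun h w hw => ?_) fun h => hU.ne_bot (le_bot_iff.1 ?_)
    · have hle : (⨆ g : G, U.map (ρ g)) ≤ (⨆ g : G, U.map (ρ g)).comap (ρ h) := by
        refine iSup_le fun g => ?_
        rintro _ ⟨u, hu, rfl⟩
        refine Submodule.mem_iSup_of_mem (h * g) ⟨u, hu, ?_⟩
        rw [map_mul, Module.End.mul_apply]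
      exact hle hw
    · rw [← h]
      exact fun u hu => Submodule.mem_iSup_of_mem 1 ⟨u, hu, by rw [map_one, Module.End.one_apply]⟩
  rcases Nat.lt_or_ge (2 * finrank ℂ U + 1) p with h8 | h9
  · exact Or.inl (pnormal_of_spanning_small σ (hρ.comp N.subtype_injective) _ hinv htop
      (fun g => by rw [hdim]; omega))
  have hfix : ∀ g : G, U.map (ρ g) = U := by
    intro g
    have hne : U ⊓ U.map (ρ g) ≠ ⊥ := by
      intro h
      have h1 := Submodule.finrank_sup_add_finrank_inf_eq U (U.map (ρ g))
      have h2 := (Submodule.finrank_le (U ⊔ U.map (ρ g))).trans_eq (Module.finrank_fin_fun ℂ (n := n))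
      rw [h, finrank_bot, hdim] at h1
      omega
    rcases hU.min (U ⊓ U.map (ρ g)) inf_le_left
      (fun m w hw => ⟨hU.inv m w hw.1, hinv g m w hw.2⟩) with e | e
    · exact absurd e hne
    · exact (Submodule.eq_of_le_of_finrank_le (inf_eq_left.1 e) (hdim g).le).symm
  have hUtop : U = ⊤ := by
    rw [← htop]
    simp [hfix]
  right
  subst hUtop
  haveI : Nontrivial (Subrepresentation σ) := ⟨⟨⊥, ⊤, fun e =>
    bot_ne_top (congrArg Subrepresentation.toSubmodule e)⟩⟩
  refine ⟨fun b => ?_⟩
  rcases hU.min b.toSubmodule le_top (fun g w hw => b.apply_mem_toSubmodule g hw) with h | h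
  · exact Or.inl (Subrepresentation.toSubmodule_injective h)
  · exact Or.inr (Subrepresentation.toSubmodule_injective h)

/-- The perfect core. -/
theorem exists_core_of_rep (ρ : Representation ℂ G (Fin n → ℂ)) [ρ.IsIrreducible]
    (hρ : Function.Injective ρ) (hp7 : 7 ≤ p) (hn : n + 1 < p) (P : Sylow p G)
    (hP : ¬ (P : Subgroup G).Normal) :
    ∃ L : Subgroup G, L.Normal ∧ Core p L ∧
      Representation.IsIrreducible (MonoidHom.comp ρ L.subtype : Representation ℂ L (Fin n → ℂ)) := by
  have hG : ¬ PNormal p G := fun h => hP (h P)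
  have hind := sqBound hp7 n hn G ρ hρ inferInstance hG
  obtain ⟨x, hx⟩ := exists_prime_orderOf_dvd_card' p
    (dvd_commutator_of_not_pnormal ρ hρ (by omega) hG)
  have hxo : orderOf (x : G) = p := by rw [Subgroup.orderOf_coe, hx]
  have hxc := not_mem_center_of_derived ρ hρ (by omega) hxo x.2
  obtain ⟨hsq, -⟩ := exists_derived_element ρ hρ (by omega) hind hxo hxc
  set L := Subgroup.normalClosure ({(x : G)} : Set G) with hL
  have hcore : Core p L := core_normalClosure ρ hρ (by omega) hp7 hsq x.2 hxo
    (not_normal_zpowers hind P hP hxo hxc)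
  refine ⟨L, Subgroup.normalClosure_normal, hcore, ?_⟩
  refine (pnormal_or_irreducible ρ hρ hn L).resolve_left fun h => ?_
  obtain ⟨Q⟩ : Nonempty (Sylow p L) := inferInstance
  have hbot := eq_bot_of_normal_pGroup hcore.perf hcore.sq hcore.norm _ (h Q) Q.isPGroup'
  exact Q.not_dvd_index (by rw [hbot, Subgroup.index_bot]; exact hcore.dvd)

/-- The reduction for a faithful irreducible character of degree `d < p - 1`. -/
theorem exists_core {d : ℕ} (χ : Cfsg.IrrCharacter G) (hdeg : Cfsg.charDegree (χ : G → ℂ) = d)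
    (hfaith : ∀ g : G, (χ : G → ℂ) g = (χ : G → ℂ) 1 → g = 1) (hd : d + 1 < p) (hp : 7 ≤ p)
    (P : Sylow p G) (hP : ¬ (P : Subgroup G).Normal) :
    ∃ ρ : Representation ℂ G (Fin d → ℂ), Function.Injective ρ ∧ ρ.IsIrreducible ∧
      ρ.character = (χ : G → ℂ) ∧ ∃ L : Subgroup G, L.Normal ∧ Core p L ∧
        Representation.IsIrreducible
          (MonoidHom.comp ρ L.subtype : Representation ℂ L (Fin d → ℂ)) := by
  obtain ⟨n, ρ, hirr, hχ⟩ := id χ.2
  have hn : n = d := by
    rw [Cfsg.charDegree, ← hχ, Representation.char_one, Module.finrank_fin_fun] at hdeg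
    simpa using hdeg
  subst hn
  haveI := hirr
  have hρ : Function.Injective ρ := fun a b h => by
    have h1 : ρ (a⁻¹ * b) = LinearMap.id := by
      rw [map_mul, ← h, ← map_mul, inv_mul_cancel, map_one]; rfl
    refine inv_mul_eq_one.1 (hfaith _ ?_)
    rw [← hχ, Representation.char_one]
    exact (Char.char_eq_degree_iff ρ _).2 h1
  exact ⟨ρ, hρ, hirr, hχ, exists_core_of_rep ρ hρ hp hd P hP⟩

/-- The centre of an irreducible subgroup lies in the centre. -/
theorem center_map_le (ρ : Representation ℂ G (Fin n → ℂ)) (hρ : Function.Injective ρ)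
    (L : Subgroup G) [hirr : Representation.IsIrreducible
      (MonoidHom.comp ρ L.subtype : Representation ℂ L (Fin n → ℂ))] :
    (Subgroup.center L).map L.subtype ≤ Subgroup.center G := by
  rintro _ ⟨z, hz, rfl⟩
  obtain ⟨s, hs⟩ := Char.schur_scalar (MonoidHom.comp ρ L.subtype : Representation ℂ L (Fin n → ℂ))
    (ρ (z : G)) fun l v => by
      show ρ (z : G) (ρ (l : G) v) = ρ (l : G) (ρ (z : G) v)
      rw [← Module.End.mul_apply, ← map_mul,
        show (z : G) * l = l * z from congrArg Subtype.val (Subgroup.mem_center_iff.1 hz l).symm,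
        map_mul, Module.End.mul_apply]
  exact mem_center_of_scalar ρ hρ fun v => by
    show ρ (z : G) v = _
    rw [hs]; rfl

/-- An odd centre gives an odd centre of an irreducible subgroup. -/
theorem odd_center (ρ : Representation ℂ G (Fin n → ℂ)) (hρ : Function.Injective ρ)
    (L : Subgroup G) [hirr : Representation.IsIrreducible
      (MonoidHom.comp ρ L.subtype : Representation ℂ L (Fin n → ℂ))]
    (h : Odd (Nat.card (Subgroup.center G))) : Odd (Nat.card (Subgroup.center L)) := by
  refine h.of_dvd_nat ?_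
  rw [← Subgroup.card_map_of_injective L.subtype_injective]
  exact Subgroup.card_dvd_of_le (center_map_le ρ hρ L)

end Cfsg.Agent.Feit
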