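import Cfsg.Agent.Lib.Feit.ClassCount
import Cfsg.Agent.Lib.Feit.Cases
import Cfsg.Agent.Lib.Feit.GapChar
import Cfsg.Agent.Lib.Feit.Reduce
import Cfsg.Agent.Lib.Feit.Quotient
import Mathlib.Analysis.Real.Sqrt

/-!
A faithful character of small degree and the number of classes of elements of order `p`.
-/

set_option autoImplicit false
set_option linter.unusedSectionVars false
set_option linter.style.haveILetI false

namespace Cfsg.Agent.Feit

open Cfsg Cfsg.Agent.Char Cfsg.Agent.Blocks Cfsg.Agent.CCSylow Cfsg.Agent.DefOne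
open Cfsg.Agent.SmallDeg16 (Coord HasMult)

universe u

variable {G : Type u} [Group G] [Finite G] {p : ℕ} [Fact p.Prime] [NeZero p] {d : ℕ}

/-- The exponents realised in `G` have `e`-th power one. -/
theorem card_expGroup_dvd (ρ : Representation ℂ G (Fin d → ℂ)) (L : Subgroup G) [Fintype L]
    {P : Subgroup L} (C : Coord p P) {e : ℕ}
    (hm : HasMult C (Representation.character (MonoidHom.comp ρ L.subtype : Representation ℂ L (Fin d → ℂ)))
      (aJ p e 1)) (hep : e ∣ p - 1) (hy : orderOf ((C.y : L) : G) = p) :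
    Nat.card (expGroup ((C.y : L) : G) hy) ∣ e := by
  set y : G := ((C.y : L) : G) with hyd
  have hyp : y ^ p = 1 := by
    conv_lhs => rw [← hy]
    exact pow_orderOf_eq_one y
  have horth := CMult.orth_std p
  have hmult : ∀ j, (CMult.mult ρ p y j : ℂ) = (aJ p e 1 j : ℂ) := by
    intro j
    have hval : ∀ i : ZMod p, ρ.character (y ^ i.val) =
        ∑ k : ZMod p, (aJ p e 1 k : ℂ) * ZMod.stdAddChar (i * k) := fun i => by
      rw [← hm i]
      show ρ.character _ = ρ.character ((((C.y ^ i.val : P) : L) : G))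
      push_cast
      rfl
    rw [CMult.mult_eq ρ hyp]
    simp only [hval, Finset.mul_sum]
    rw [Finset.sum_comm, Finset.sum_eq_single j]
    · rw [Finset.sum_congr rfl (g := fun _ => (p : ℂ)⁻¹ * (aJ p e 1 j : ℂ)) fun i _ => ?_, Finset.sum_const,
        Finset.card_univ, ZMod.card, nsmul_eq_mul, ← mul_assoc, mul_inv_cancel₀ (Nat.cast_ne_zero.2 (NeZero.ne p)),
        one_mul]
      rw [mul_left_comm (ZMod.stdAddChar (-(i * j))), ← AddChar.map_add_eq_mul, neg_add_cancel,
        AddChar.map_zero_eq_one, mul_one]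
    · intro k _ hk
      have h0 := horth.zero (k - j) (sub_ne_zero.2 hk)
      rw [Finset.sum_congr rfl (g := fun i : ZMod p => ((p : ℂ)⁻¹ * (aJ p e 1 k : ℂ)) *
        ZMod.stdAddChar ((k - j) * i)) fun i _ => ?_, ← Finset.mul_sum, h0, mul_zero]
      rw [show (k - j) * i = -(i * j) + i * k by ring, AddChar.map_add_eq_mul]
      ring
    · exact fun h => absurd (Finset.mem_univ _) h
  have hle : expGroup y hy ≤ (powMonoidHom e : (ZMod p)ˣ →* (ZMod p)ˣ).ker := by
    intro a ha
    have h1 := hmult ((a : ZMod p) * 1)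
    rw [mult_expGroup hy ρ ha, hmult, Int.cast_inj] at h1
    simp only [aJ, mul_one, inv_one, one_pow] at h1
    rw [MonoidHom.mem_ker, powMonoidHom_apply, Units.ext_iff, Units.val_pow_eq_pow_val, Units.val_one]
    by_contra hne
    rw [if_neg hne] at h1
    simp at h1
  refine (Subgroup.card_dvd_of_le hle).trans ?_
  rw [IsCyclic.card_powMonoidHom_ker, Nat.card_eq_fintype_card, ZMod.card_units, Nat.gcd_eq_right hep]

/-- In a central extension of `PSL₂(p)` all squares are realised. -/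
theorem sq_mem_expGroup (hp5 : 5 ≤ p) (L : Subgroup G) (hcore : Core p L)
    (E : L ⧸ Subgroup.center L ≃* Matrix.ProjectiveSpecialLinearGroup (Fin 2) (ZMod p))
    {x : L} (hx : orderOf x = p) (hy : orderOf (x : G) = p) (t : (ZMod p)ˣ) :
    t ^ 2 ∈ expGroup (x : G) hy := by
  have hxc := SmallDeg16.not_mem_center_of_order hcore.perf hcore.sq hx
  let k := AlgebraicClosure (ZMod p)
  haveI : CharP k p := charP_of_injective_algebraMap (algebraMap (ZMod p) k).injective p
  let φ₀ : L →* Matrix.ProjGenLinGroup (Fin 2) k :=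
    (SmallDim.iotaPSL k p).comp (E.toMonoidHom.comp (QuotientGroup.mk' (Subgroup.center L)))
  have hφ₀ : φ₀ x ≠ 1 := fun h => hxc ((QuotientGroup.eq_one_iff x).1
    ((map_eq_one_iff E E.injective).1 ((map_eq_one_iff _ (SmallDim.iotaPSL_injective k p)).1 h)))
  obtain ⟨φ, hk, hr, hφx⟩ := SmallDeg16.exists_std_hom (by omega) hcore.perf hcore.sq hcore.norm φ₀ hx hφ₀
  obtain ⟨-, -, hsq2⟩ := SmallDeg16.centralizer_of_std (by omega) hcore.perf hcore.sq φ hx hk hr hφx
  obtain ⟨m, hm⟩ := hsq2 t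
  refine ⟨(m : G), ?_⟩
  rw [Units.val_pow_eq_pow_val]
  simpa using congrArg Subtype.val hm

/-- The bound on the degree and on the number of classes. -/
theorem degree_classes (hp11 : 11 ≤ p) (P : Sylow p G) (hP : Nat.card P = p)
    (hnn : ¬ (P : Subgroup G).Normal) (χ : IrrCharacter G) (hdeg : charDegree (χ : G → ℂ) = d)
    (hfaith : ∀ g : G, (χ : G → ℂ) g = (χ : G → ℂ) 1 → g = 1) (hd : d + 1 < p) {t : ℕ}
    (ht : Nat.card {c : ConjClasses G // ∃ g : G, ConjClasses.mk g = c ∧ orderOf g = p} = t) :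
    ((2 * d = p + 1 ∨ 2 * d + 1 = p) ∧ t = 2 ∧
        Nonempty (G ⧸ Subgroup.center G ≃* Matrix.ProjectiveSpecialLinearGroup (Fin 2) (ZMod p))) ∨
      ∃ e : ℕ, d + e = p ∧ e * e + 3 * e + 1 ≤ p ∧ (p : ℤ) ≤ (t : ℤ) ^ 2 - 3 * t + 1 := by
  haveI : Fintype G := Fintype.ofFinite G
  have hp : p.Prime := Fact.out
  obtain ⟨ρ, hρ, -, -, L, hLn, hcore, hirr⟩ := exists_core χ hdeg hfaith hd (by omega) P hnn
  haveI := hLn
  haveI := hirr
  haveI : Fintype L := Fintype.ofFinite L
  have hinj : Function.Injective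
      (MonoidHom.comp ρ L.subtype : Representation ℂ L (Fin d → ℂ)) := hρ.comp L.subtype_injective
  have htx : ∀ y : G, ∀ hy : orderOf y = p, t = (expGroup y hy).index := fun y hy => ht ▸ card_classes hy P hP
  have hmul : ∀ y : G, ∀ hy : orderOf y = p, t * Nat.card (expGroup y hy) = p - 1 := fun y hy => by
    rw [htx y hy, Subgroup.index_mul_card, Nat.card_eq_fintype_card, ZMod.card_units]
  -- data of an exceptional character
  have hexc : 2 * d + 1 ≠ p → ∃ e t' : ℕ, d + e = p ∧ 2 ≤ e ∧ p = t' * e + 1 ∧ t' ≤ t ∧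
      (3 ≤ e → 3 ≤ t' → e + 3 ≤ t') := by
    intro hhalf
    obtain ⟨Q⟩ : Nonempty (Sylow p L) := inferInstance
    obtain ⟨V, e, K, -⟩ := exists_conf hcore.prime Q (card_sylow hcore Q)
    haveI : Fintype ((Q : Subgroup L) →* ℂˣ) := Fintype.ofFinite _
    obtain ⟨M, hM⟩ := exists_isPModular_witness p
    haveI := IsPModular.isPrime hM
    obtain ⟨hde, b, C, E⟩ := exists_exc K hcore hM hd hhalf _ hinj
      ⟨Representation.character (MonoidHom.comp ρ L.subtype : Representation ℂ L (Fin d → ℂ)),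
        isIrrCharacter_of_rep _⟩ rfl
    have hy : orderOf ((C.y : L) : G) = p := by
      rw [Subgroup.orderOf_coe]
      refine orderOf_P' K C.y.2 fun h => ?_
      have h1 := C.val
      rw [show C.y = 1 from Subtype.ext h, map_one, Units.val_one] at h1
      exact one_ne_zero (ZMod.injective_stdAddChar ((AddChar.map_zero_eq_one _).trans h1)).symm
    have hep : e ∣ p - 1 := by
      have h := dvd_card_sub_one K.D
      rwa [K.hP] at h
    obtain ⟨t', ht'⟩ := id hep
    have hpte : p = t' * e + 1 := by rw [mul_comm, ← ht']; omega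
    refine ⟨e, t', hde, E.two_le, hpte, ?_, fun he3 ht3 => E.gap_bound K hcore hM hpte he3 ht3⟩
    have hdvd := card_expGroup_dvd ρ L C E.mz hep hy
    have h2 := hmul _ hy
    have hle := Nat.mul_le_mul_left t (Nat.le_of_dvd (by have := E.two_le; omega) hdvd)
    rw [h2, ht', mul_comm e t'] at hle
    exact Nat.le_of_mul_le_mul_right hle (by have := E.two_le; omega)
  rcases (show d + 2 = p ∨ d + 2 < p by omega) with hd2 | hd2
  · right
    obtain ⟨e, t', hde, -, hpte, htt, -⟩ := hexc (by omega)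
    obtain rfl : e = 2 := by omega
    refine ⟨2, hde, by omega, ?_⟩
    have ht5 : (5 : ℤ) ≤ t := by omega
    have hpt : (p : ℤ) ≤ 2 * t + 1 := by omega
    nlinarith [mul_le_mul_of_nonneg_right ht5 (by omega : (0 : ℤ) ≤ t)]
  rcases core_cases hcore hp11 (d := d) hd2 _ hinj with ⟨hd3, ⟨E⟩⟩ | ⟨t₀, e₀, hpte₀, hde₀, he₀, ht₀, -, -, -⟩
  · left
    refine ⟨hd3, ?_, quotient_of_core hd ρ hρ L hcore hirr E⟩
    obtain ⟨x, hx⟩ := exists_prime_orderOf_dvd_card' (G := L) p hcore.dvd
    have hy : orderOf (x : G) = p := by rw [Subgroup.orderOf_coe, hx]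
    have hle : (powMonoidHom 2 : (ZMod p)ˣ →* (ZMod p)ˣ).range ≤ expGroup (x : G) hy := by
      rintro _ ⟨s, rfl⟩
      exact sq_mem_expGroup (by omega) L hcore E hx hy s
    have h1 : 1 < t := by
      have hne := expGroup_ne_top hy ρ hρ hd
      rw [Ne, ← Subgroup.index_eq_one, ← htx _ hy] at hne
      have : t ≠ 0 := htx _ hy ▸ Subgroup.index_ne_zero_of_finite
      omega
    have h2 : t ≤ 2 := by
      rw [htx _ hy]
      refine le_trans (Subgroup.index_antitone hle) ?_
      have h3 := Subgroup.card_mul_index (powMonoidHom 2 : (ZMod p)ˣ →* (ZMod p)ˣ).range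
      have h4 := Subgroup.card_mul_index (powMonoidHom 2 : (ZMod p)ˣ →* (ZMod p)ˣ).ker
      rw [Subgroup.index_ker, IsCyclic.card_powMonoidHom_ker, ← h3] at h4
      have hpos : 0 < Nat.card (powMonoidHom 2 : (ZMod p)ˣ →* (ZMod p)ˣ).range := Nat.card_pos
      rw [mul_comm] at h4
      rw [← Nat.eq_of_mul_eq_mul_left hpos h4]
      exact Nat.le_of_dvd (by norm_num) (Nat.gcd_dvd_right _ _)
    omega
  · right
    obtain ⟨e, t', hde, -, hpte, htt, hgap⟩ := hexc (fun h2 => by
      have : 3 * e₀ ≤ t₀ * e₀ := Nat.mul_le_mul_right e₀ ht₀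
      omega)
    obtain rfl : e = e₀ := by omega
    obtain rfl : t' = t₀ := Nat.eq_of_mul_eq_mul_right (by omega : 0 < e) (by omega)
    have hg := hgap he₀ ht₀
    refine ⟨e, hde, ?_, ?_⟩
    · have : (e + 3) * e ≤ t' * e := Nat.mul_le_mul_right e hg
      nlinarith
    · have h1 : (p : ℤ) = (t' : ℤ) * e + 1 := by exact_mod_cast hpte
      have h2 : (e : ℤ) + 3 ≤ t' := by exact_mod_cast hg
      have h3 : (t' : ℤ) ≤ t := by exact_mod_cast htt
      have h4 : (3 : ℤ) ≤ e := by exact_mod_cast he₀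
      nlinarith [mul_le_mul_of_nonneg_left h2 (by omega : (0 : ℤ) ≤ t'), mul_nonneg (by omega : (0:ℤ) ≤ (t:ℤ) - t')
        (by omega : (0:ℤ) ≤ (t:ℤ) + t' - 3)]

/-- The real form of the degree bound. -/
theorem sqrt_bound {d e p : ℕ} (hde : d + e = p) (h : e * e + 3 * e + 1 ≤ p) :
    (p : ℝ) + 3 / 2 - Real.sqrt ((p : ℝ) + 5 / 4) ≤ (d : ℝ) := by
  have h1 : (d : ℝ) + e = p := by exact_mod_cast hde
  have h2 : (e : ℝ) * e + 3 * e + 1 ≤ p := by exact_mod_cast h
  have h3 : (e : ℝ) + 3 / 2 ≤ Real.sqrt ((p : ℝ) + 5 / 4) := Real.le_sqrt_of_sq_le (by nlinarith)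
  linarith

end Cfsg.Agent.Feit
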