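import Cfsg.Agent.Lib.Feit.Basic
import Mathlib.Analysis.SpecialFunctions.Complex.CircleAddChar
import Mathlib.Algebra.Field.ZMod

/-!
The cores of degree `(p + 1) / 2` for the primes five and seven.
-/

set_option autoImplicit false

namespace Cfsg.Agent.Feit

universe u

/-- A perfect irreducible group of degree `(p + 1) / 2`, with an element of order `p` whose
eigenvalues are the square powers of a primitive root of unity, for `p` five or seven. -/
structure HalfCore (p d : ℕ) [NeZero p] {L : Type u} [Group L]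
    (ρ : Representation ℂ L (Fin d → ℂ)) (x : L) : Prop where
  cases : p = 5 ∧ d = 3 ∨ p = 7 ∧ d = 4
  inj : Function.Injective ρ
  irr : ρ.IsIrreducible
  perf : commutator L = ⊤
  sq : ¬ p ^ 2 ∣ Nat.card L
  norm : ∀ M : Subgroup L, M.Normal → M ≠ ⊤ → M ≤ Subgroup.center L
  ord : orderOf x = p
  cent : ∀ c : L, c * x = x * c → ∃ i : ℕ, ∃ z ∈ Subgroup.center L, c = x ^ i * z
  eig : ∀ j : ZMod p, IsSquare j → ∃ v : Fin d → ℂ, v ≠ 0 ∧ ρ x v = ZMod.stdAddChar j • v

end Cfsg.Agent.Feit
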