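import Mathlib.LinearAlgebra.Matrix.ProjectiveSpecialLinearGroup
import Mathlib.LinearAlgebra.Matrix.Adjugate
import Mathlib.LinearAlgebra.Matrix.NonsingularInverse
import Mathlib.LinearAlgebra.Dual.Lemmas
import Mathlib.GroupTheory.Abelianization.Defs
import Mathlib.GroupTheory.QuotientGroup.Basic
import Mathlib.Algebra.Field.Subfield.Basic

/-!
Matrix groups whose traces lie in a finite subfield: with a fixed vector the index of a kernel is
bounded, without an invariant subspace there is a form over the subfield.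
-/

set_option autoImplicit false
set_option linter.unusedSectionVars false
set_option linter.style.haveILetI false

namespace Cfsg.Agent.Feit.SubField

open Finset Module Matrix
open scoped Classical

universe u

variable {L : Type u} [Group L] {k : Type} [Field k] (F : Subfield k)

/-- A fixed vector and traces in a finite subfield bound the index of the congruence kernel of the trace. -/
theorem bound_of_fixed [Finite F] {n : ℕ} (A : L →* Matrix (Fin (n + 1)) (Fin (n + 1)) k)
    {v : Fin (n + 1) → k} (hv0 : v ≠ 0) (hv : ∀ g, A g *ᵥ v = v) (hF : ∀ g, (A g).trace ∈ F) :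
    ∃ K : Subgroup L, K.Normal ∧ K.index ≤ Nat.card F ^ (n * n) ∧
      ∀ a ∈ K, ∀ g, (A (a * g)).trace = (A g).trace := by
  obtain ⟨i, hi⟩ := Function.ne_iff.1 hv0
  simp only [Pi.zero_apply] at hi
  set G := (1 : Matrix (Fin (n + 1)) (Fin (n + 1)) k).updateCol i v with hG
  have hGd : IsUnit G.det := by
    rw [hG, ← Matrix.cramer_apply, Matrix.cramer_one]
    exact isUnit_iff_ne_zero.2 hi
  set A' := fun g => G⁻¹ * A g * G with hA'
  have hAmul : ∀ g h, A' (g * h) = A' g * A' h := fun g h => by
    simp only [hA', map_mul, Matrix.mul_assoc, Matrix.mul_nonsing_inv_cancel_left _ _ hGd]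
  have hcol : ∀ g a, A' g a i = if a = i then 1 else 0 := by
    intro g a
    have h1 : A' g *ᵥ Pi.single i 1 = Pi.single i 1 := by
      have hGi : G *ᵥ Pi.single i 1 = v := by
        rw [Matrix.mulVec_single_one]; funext b; simp [hG]
      simp only [hA', ← Matrix.mulVec_mulVec, hGi, hv]
      rw [← hGi, Matrix.mulVec_mulVec, Matrix.nonsing_inv_mul _ hGd, Matrix.one_mulVec]
    have h2 := congrFun h1 a
    rw [Matrix.mulVec_single_one] at h2
    simpa [Pi.single_apply] using h2
  have htr' : ∀ g, (A' g).trace = (A g).trace := fun g => by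
    simp only [hA']
    rw [Matrix.trace_mul_cycle, Matrix.mul_nonsing_inv _ hGd, Matrix.one_mul]
  set S : L → Matrix (Fin n) (Fin n) k := fun g => (A' g).submatrix i.succAbove i.succAbove with hS
  have hSmul : ∀ g h, S (g * h) = S g * S h := fun g h => by
    ext a b
    simp only [hS, hAmul, Matrix.submatrix_apply, Matrix.mul_apply]
    rw [Fin.sum_univ_succAbove _ i, hcol, if_neg (Fin.succAbove_ne i a), zero_mul, zero_add]
  have hStr : ∀ g, (A g).trace = 1 + (S g).trace := fun g => by
    rw [← htr', Matrix.trace, Fin.sum_univ_succAbove _ i, Matrix.diag_apply, hcol, if_pos rfl]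
    rfl
  have hTF : ∀ g, (S g).trace ∈ F := fun g => by
    have e := eq_sub_of_add_eq' (hStr g).symm
    rw [e]
    exact sub_mem (hF g) (one_mem F)
  have hTconj : ∀ g h, (S (g * h)).trace = (S (h * g)).trace := fun g h => by
    rw [hSmul, hSmul, Matrix.trace_mul_comm]
  let K : Subgroup L :=
    { carrier := {a | ∀ g, (S (a * g)).trace = (S g).trace}
      one_mem' := fun g => by rw [one_mul]
      mul_mem' := fun {a b} ha hb g => by rw [mul_assoc, ha, hb]
      inv_mem' := fun {a} ha g => by
        have := ha (a⁻¹ * g)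
        rw [mul_inv_cancel_left] at this
        exact this.symm }
  refine ⟨K, ⟨fun a ha c g => ?_⟩, ?_, fun a ha g => by rw [hStr, hStr, ha g]⟩
  · rw [show c * a * c⁻¹ * g = c * (a * (c⁻¹ * g)) by group, hTconj, mul_assoc a, ha, mul_assoc c⁻¹, hTconj,
      mul_assoc g, mul_inv_cancel, mul_one]
  obtain ⟨b, hbsub, hspan, hli⟩ := exists_linearIndependent k (Set.range S)
  have hbfin : Finite b := hli.finite
  haveI : Fintype b := Fintype.ofFinite b
  have hbcard : Nat.card b ≤ n * n := by
    have h1 := hli.fintype_card_le_finrank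
    rw [Module.finrank_matrix, Module.finrank_self, mul_one, Fintype.card_fin] at h1
    rwa [Nat.card_eq_fintype_card]
  choose pre hpre using fun y : b => hbsub y.2
  let Φ : L → (b → F) := fun g y => ⟨(S (g * pre y)).trace, hTF _⟩
  have hΦ : ∀ g g', Φ g = Φ g' → g⁻¹ * g' ∈ K := by
    intro g g' hgg'
    have hall : ∀ h, (S (g * h)).trace = (S (g' * h)).trace := by
      intro h
      let f : L → (Matrix (Fin n) (Fin n) k →ₗ[k] k) := fun c =>
        { toFun := fun M => (S c * M).trace
          map_add' := fun M N => by rw [Matrix.mul_add, Matrix.trace_add]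
          map_smul' := fun r M => by rw [Matrix.mul_smul, Matrix.trace_smul]; rfl }
      have hon : Set.EqOn (f g) (f g') b := fun y hy => by
        show (S g * y).trace = (S g' * y).trace
        have hy' := hpre ⟨y, hy⟩
        rw [show y = S (pre ⟨y, hy⟩) from hy'.symm, ← hSmul, ← hSmul]
        exact congrArg Subtype.val (congrFun hgg' ⟨y, hy⟩)
      have := LinearMap.eqOn_span hon (x := S h) (by rw [hspan]; exact Submodule.subset_span ⟨h, rfl⟩)
      simpa [f, ← hSmul] using this
    intro m
    rw [mul_assoc, hTconj, mul_assoc g', ← hall, hTconj, mul_assoc m, inv_mul_cancel, mul_one]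
  have hinj : Function.Injective fun c : L ⧸ K => Φ c.out := fun c c' h => by
    rw [← QuotientGroup.out_eq' c, ← QuotientGroup.out_eq' c']
    exact QuotientGroup.eq.2 (hΦ _ _ h)
  rw [Subgroup.index]
  refine (Nat.card_le_card_of_injective _ hinj).trans ?_
  rw [Nat.card_fun]
  exact Nat.pow_le_pow_right Nat.card_pos hbcard

/-- Without an invariant subspace, the matrices have a form over the subfield. -/
theorem exists_form {d : ℕ} (A : L →* Matrix (Fin d) (Fin d) k) (v φ : Fin d → k) (hφv : φ ⬝ᵥ v = 1)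
    (hF : ∀ g, φ ⬝ᵥ (A g *ᵥ v) ∈ F)
    (hirr : ∀ W : Submodule k (Fin d → k), (∀ g, ∀ w ∈ W, A g *ᵥ w ∈ W) → W = ⊥ ∨ W = ⊤) :
    ∃ (C : L →* Matrix (Fin d) (Fin d) F) (G : Matrix (Fin d) (Fin d) k), IsUnit G.det ∧
      ∀ g, G * (C g).map F.subtype = A g * G := by
  have hAA : ∀ g h w, A g *ᵥ (A h *ᵥ w) = A (g * h) *ᵥ w := fun g h w => by
    rw [Matrix.mulVec_mulVec, map_mul]
  have hspan1 : Submodule.span k (Set.range fun g => A g *ᵥ v) = ⊤ := by
    refine (hirr _ fun g w hw => ?_).resolve_left fun h => ?_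
    · have := Submodule.mem_map_of_mem (f := Matrix.mulVecLin (A g)) hw
      rw [Submodule.map_span, ← Set.range_comp] at this
      refine Submodule.span_mono ?_ this
      rintro _ ⟨c, rfl⟩
      exact ⟨g * c, (hAA g c v).symm⟩
    · have hv : v ∈ Submodule.span k (Set.range fun g => A g *ᵥ v) :=
        Submodule.subset_span ⟨1, by simp⟩
      rw [h, Submodule.mem_bot] at hv
      rw [hv, dotProduct_zero] at hφv
      exact zero_ne_one hφv
  let W : Submodule k (Fin d → k) :=
    { carrier := {w | ∀ h, φ ⬝ᵥ (A h *ᵥ w) = 0}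
      add_mem' := fun {a b} ha hb h => by rw [Matrix.mulVec_add, dotProduct_add, ha h, hb h, add_zero]
      zero_mem' := fun h => by rw [Matrix.mulVec_zero, dotProduct_zero]
      smul_mem' := fun c a ha h => by rw [Matrix.mulVec_smul, dotProduct_smul, ha h, smul_zero] }
  have hW : W = ⊥ := (hirr W fun g w hw h => by rw [hAA]; exact hw _).resolve_right fun h => by
    have hv : v ∈ W := h ▸ Submodule.mem_top
    have := hv 1
    rw [map_one, Matrix.one_mulVec, hφv] at this
    exact one_ne_zero this
  have hspan2 : Submodule.span k (Set.range fun h => φ ᵥ* A h) = ⊤ := by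
    by_contra hne
    obtain ⟨f, hf0, hf⟩ := Submodule.exists_le_ker_of_lt_top _ (lt_top_iff_ne_top.2 hne)
    have hfw : ∀ w : Fin d → k, f w = w ⬝ᵥ fun a => f (Pi.single a 1) := fun w => by
      conv_lhs => rw [pi_eq_sum_univ' w]
      simp [dotProduct, map_sum]
    have hmem : (fun a => f (Pi.single a 1)) ∈ W := fun h => by
      rw [Matrix.dotProduct_mulVec, ← hfw]
      exact LinearMap.mem_ker.1 (hf (Submodule.subset_span ⟨h, rfl⟩))
    rw [hW, Submodule.mem_bot] at hmem
    refine hf0 (LinearMap.ext fun w => ?_)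
    rw [hfw, hmem, dotProduct_zero, LinearMap.zero_apply]
  have hpick : ∀ (f : L → (Fin d → k)), Submodule.span k (Set.range f) = ⊤ →
      ∃ g : Fin d → L, LinearIndependent k (f ∘ g) := by
    intro f hf
    obtain ⟨b, hbsub, hspan, hli⟩ := exists_linearIndependent k (Set.range f)
    haveI : Finite b := hli.finite
    haveI : Fintype b := Fintype.ofFinite b
    have hcard : Fintype.card b = d := by
      have h1 := Module.finrank_eq_card_basis (Basis.mk hli (by rw [Subtype.range_coe_subtype]; simp [hspan, hf]))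
      rw [Module.finrank_fin_fun] at h1
      exact h1.symm
    choose pre hpre using fun y : b => hbsub y.2
    refine ⟨pre ∘ (Fintype.equivFinOfCardEq hcard).symm, ?_⟩
    have e : f ∘ (pre ∘ (Fintype.equivFinOfCardEq hcard).symm) =
        (Subtype.val : b → (Fin d → k)) ∘ (Fintype.equivFinOfCardEq hcard).symm := funext fun a => hpre _
    rw [e]
    exact hli.comp _ (Equiv.injective _)
  obtain ⟨gs, hgs⟩ := hpick _ hspan1
  obtain ⟨hs, hhs⟩ := hpick _ hspan2
  set H : Matrix (Fin d) (Fin d) k := Matrix.of fun l a => (φ ᵥ* A (hs l)) a with hH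
  set G : Matrix (Fin d) (Fin d) k := Matrix.of fun a i => (A (gs i) *ᵥ v) a with hG
  have hHd : IsUnit H.det := (Matrix.isUnit_iff_isUnit_det _).1 (Matrix.linearIndependent_rows_iff_isUnit.1 hhs)
  have hGd : IsUnit G.det := (Matrix.isUnit_iff_isUnit_det _).1 (Matrix.linearIndependent_cols_iff_isUnit.1 hgs)
  have hent : ∀ g l i, (H * A g * G) l i = φ ⬝ᵥ (A (hs l * g * gs i) *ᵥ v) := fun g l i => by
    rw [← hAA, ← hAA, Matrix.dotProduct_mulVec φ (A (hs l)), Matrix.mul_assoc, Matrix.mul_apply]
    rfl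
  have hmem : ∀ g l i, (H * A g * G) l i ∈ F := fun g l i => by rw [hent]; exact hF _
  let M' : L → Matrix (Fin d) (Fin d) F := fun g => Matrix.of fun l i => ⟨_, hmem g l i⟩
  have hM' : ∀ g, (M' g).map F.subtype = H * A g * G := fun g => Matrix.ext fun _ _ => rfl
  have hMd : IsUnit (M' 1).det := by
    rw [isUnit_iff_ne_zero]
    intro h
    have h1 : (H * A 1 * G).det = 0 := by
      rw [← hM', ← RingHom.mapMatrix_apply, ← RingHom.map_det, h, map_zero]
    rw [map_one, Matrix.mul_one, Matrix.det_mul] at h1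
    exact (hHd.mul hGd).ne_zero h1
  have hkey : ∀ g, ((M' 1)⁻¹ * M' g).map F.subtype = G⁻¹ * A g * G := fun g => by
    have e : (M' 1).map F.subtype * ((M' 1)⁻¹ * M' g).map F.subtype = H * A g * G := by
      rw [← Matrix.map_mul, Matrix.mul_nonsing_inv_cancel_left _ _ hMd, hM']
    rw [hM', map_one, Matrix.mul_one] at e
    have e2 := congrArg (fun X => G⁻¹ * (H⁻¹ * X)) e
    simp only [Matrix.mul_assoc, Matrix.nonsing_inv_mul_cancel_left _ _ hHd,
      Matrix.nonsing_inv_mul_cancel_left _ _ hGd] at e2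
    rw [e2, Matrix.mul_assoc]
  have hinjF : Function.Injective fun X : Matrix (Fin d) (Fin d) F => X.map F.subtype :=
    fun X Y h => Matrix.ext fun a b => F.subtype.injective (congrFun (congrFun h a) b)
  refine ⟨{ toFun := fun g => (M' 1)⁻¹ * M' g
            map_one' := hinjF ?_
            map_mul' := fun g h => hinjF ?_ }, G, hGd, fun g => ?_⟩
  · show ((M' 1)⁻¹ * M' 1).map F.subtype = (1 : Matrix (Fin d) (Fin d) F).map F.subtype
    rw [Matrix.nonsing_inv_mul _ hMd]
  · show ((M' 1)⁻¹ * M' (g * h)).map F.subtype = ((M' 1)⁻¹ * M' g * ((M' 1)⁻¹ * M' h)).map F.subtype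
    rw [hkey (g * h), Matrix.map_mul, hkey, hkey, map_mul]
    simp only [Matrix.mul_assoc, Matrix.mul_nonsing_inv_cancel_left _ _ hGd]
  · show G * ((M' 1)⁻¹ * M' g).map F.subtype = A g * G
    rw [hkey, Matrix.mul_assoc, Matrix.mul_nonsing_inv_cancel_left _ _ hGd]

/-- The map to the projective special linear group over the subfield. -/
theorem exists_psl {d : ℕ} (hd : 2 ≤ d) (A : L →* Matrix (Fin d) (Fin d) k) (v φ : Fin d → k)
    (hφv : φ ⬝ᵥ v = 1) (hF : ∀ g, φ ⬝ᵥ (A g *ᵥ v) ∈ F)
    (hirr : ∀ W : Submodule k (Fin d → k), (∀ g, ∀ w ∈ W, A g *ᵥ w ∈ W) → W = ⊥ ∨ W = ⊤)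
    (hperf : commutator L = ⊤) (hnorm : ∀ M : Subgroup L, M.Normal → M ≠ ⊤ → M ≤ Subgroup.center L) :
    ∃ ψ : L →* Matrix.ProjectiveSpecialLinearGroup (Fin d) F, ψ.ker ≤ Subgroup.center L := by
  obtain ⟨C, G, hGd, hC⟩ := exists_form F A v φ hφv hF hirr
  let δ : L →* Fˣ := ((Matrix.detMonoidHom.comp C) : L →* F).toHomUnits
  have hdet : ∀ g, (C g).det = 1 := fun g => by
    have h1 : g ∈ δ.ker := Abelianization.commutator_subset_ker δ (hperf ▸ Subgroup.mem_top g)
    exact congrArg Units.val (MonoidHom.mem_ker.1 h1)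
  let C' : L →* Matrix.SpecialLinearGroup (Fin d) F :=
    { toFun := fun g => ⟨C g, hdet g⟩
      map_one' := Subtype.ext (map_one C)
      map_mul' := fun g h => Subtype.ext (map_mul C g h) }
  let ψ := (QuotientGroup.mk' (Subgroup.center (Matrix.SpecialLinearGroup (Fin d) F))).comp C'
  refine ⟨ψ, hnorm _ inferInstance fun htop => ?_⟩
  have hscal : ∀ g, ∃ r : k, A g *ᵥ v = r • v := fun g => by
    have h1 : g ∈ ψ.ker := htop ▸ Subgroup.mem_top g
    have h2 : C' g ∈ Subgroup.center _ := (QuotientGroup.eq_one_iff _).1 h1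
    obtain ⟨r, -, hr⟩ := Matrix.SpecialLinearGroup.mem_center_iff.1 h2
    refine ⟨r, ?_⟩
    have h3 : A g * G = (r : k) • G := by
      rw [← hC, show C g = Matrix.scalar (Fin d) r from hr.symm, Matrix.scalar_apply,
        Matrix.diagonal_map (map_zero _), ← smul_one_eq_diagonal, mul_smul_comm, Matrix.mul_one]
      rfl
    have h4 : A g = (r : k) • 1 := by
      have := congrArg (· * G⁻¹) h3
      simpa [Matrix.mul_assoc, Matrix.mul_nonsing_inv _ hGd, Matrix.smul_mul] using this
    rw [h4, Matrix.smul_mulVec, Matrix.one_mulVec]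
  rcases hirr (Submodule.span k {v}) (fun g w hw => by
      obtain ⟨c, rfl⟩ := Submodule.mem_span_singleton.1 hw
      obtain ⟨r, hr⟩ := hscal g
      rw [Matrix.mulVec_smul, hr, smul_smul]
      exact Submodule.smul_mem _ _ (Submodule.mem_span_singleton_self v)) with h | h
  · rw [Submodule.span_singleton_eq_bot] at h
    rw [h, dotProduct_zero] at hφv
    exact zero_ne_one hφv
  · have h1 := finrank_span_singleton (K := k) (v := v) fun h0 => by
      rw [h0, dotProduct_zero] at hφv
      exact zero_ne_one hφv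
    rw [h, finrank_top, Module.finrank_fin_fun] at h1
    omega

end Cfsg.Agent.Feit.SubField
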