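import Cfsg.Agent.Lib.Feit.ModTwo
import Cfsg.Agent.Lib.Feit.SubfieldForm
import Cfsg.Agent.Lib.Classical.SL
import Mathlib.Algebra.CharP.Subring
import Mathlib.FieldTheory.Finite.Basic
import Mathlib.LinearAlgebra.Determinant
import Mathlib.LinearAlgebra.FiniteDimensional.Lemmas

/-!
The order of a half core modulo its centre is small or divides the order of `PSL(3, 4)`.
-/

set_option autoImplicit false
set_option linter.unusedSectionVars false
set_option linter.style.haveILetI false

namespace Cfsg.Agent.Feit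

open Finset Module
open scoped Classical Matrix

universe u

/-- An invariant line of a perfect matrix group is fixed. -/
theorem line_fixed {L : Type u} [Group L] (hperf : commutator L = ⊤) {k : Type} [Field k] {n : ℕ}
    (B : L →* Matrix (Fin n) (Fin n) k) {v : Fin n → k} (hv0 : v ≠ 0)
    (hv : ∀ g, ∃ c : k, B g *ᵥ v = c • v) (g : L) : B g *ᵥ v = v := by
  choose c hc using hv
  have hinj : Function.Injective fun t : k => t • v := smul_left_injective k hv0
  let δ : L →* k :=
    { toFun := c
      map_one' := hinj (by show c 1 • v = (1 : k) • v; rw [← hc, map_one, Matrix.one_mulVec, one_smul])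
      map_mul' := fun a b => hinj (by
        show c (a * b) • v = (c a * c b) • v
        rw [← hc, map_mul, ← Matrix.mulVec_mulVec, hc, Matrix.mulVec_smul, hc, smul_smul, mul_comm]) }
  have h1 : g ∈ δ.toHomUnits.ker :=
    Abelianization.commutator_subset_ker δ.toHomUnits (hperf ▸ Subgroup.mem_top g)
  have h2 : c g = 1 := congrArg Units.val (MonoidHom.mem_ker.1 h1)
  rw [hc, h2, one_smul]

theorem orderOf_companion : ((!![0, 0, 0, 1; 1, 0, 0, 1; 0, 1, 0, 0; 0, 0, 1, 0] :
      Matrix (Fin 4) (Fin 4) (ZMod 2)) ^ 15 = 1) ∧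
    ((!![0, 0, 0, 1; 1, 0, 0, 1; 0, 1, 0, 0; 0, 0, 1, 0] : Matrix (Fin 4) (Fin 4) (ZMod 2)) ^ 5 ≠ 1) ∧
    ((!![0, 0, 0, 1; 1, 0, 0, 1; 0, 1, 0, 0; 0, 0, 1, 0] : Matrix (Fin 4) (Fin 4) (ZMod 2)) ^ 3 ≠ 1) ∧
    (!![0, 0, 0, 1; 1, 0, 0, 1; 0, 1, 0, 0; 0, 0, 1, 0] : Matrix (Fin 4) (Fin 4) (ZMod 2)).det = 1 := by
  decide +kernel

theorem exists_order_fifteen {F : Type} [Field F] [Finite F] [CharP F 2] (hF : Nat.card F = 2) :
    ∃ g : Matrix.ProjectiveSpecialLinearGroup (Fin 4) F, orderOf g = 15 := by
  obtain ⟨h15, h5, h3, hdet⟩ := orderOf_companion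
  let M : Matrix.SpecialLinearGroup (Fin 4) (ZMod 2) := ⟨_, hdet⟩
  have hM : orderOf M = 15 := by
    have h1 : orderOf M ∣ 15 := orderOf_dvd_of_pow_eq_one (Subtype.ext h15)
    have h2 : ¬ orderOf M ∣ 5 := by
      rw [orderOf_dvd_iff_pow_eq_one]
      intro h
      exact h5 (congrArg Subtype.val h)
    have h4 : ¬ orderOf M ∣ 3 := by
      rw [orderOf_dvd_iff_pow_eq_one]
      intro h
      exact h3 (congrArg Subtype.val h)
    have := Nat.le_of_dvd (by norm_num) h1
    interval_cases orderOf M <;> simp_all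
  set f := ZMod.castHom (dvd_refl 2) F
  have hf : Function.Injective (Matrix.SpecialLinearGroup.map (n := Fin 4) f) := fun a b h => by
    refine Subtype.ext (Matrix.ext fun i j => f.injective ?_)
    exact congrFun (congrFun (congrArg Subtype.val h) i) j
  have hc : Subgroup.center (Matrix.SpecialLinearGroup (Fin 4) F) = ⊥ := by
    rw [← Subgroup.card_eq_one, ClassicalSL.card_center_sl, hF]
    simp
  have hπ : Function.Injective (QuotientGroup.mk' (Subgroup.center (Matrix.SpecialLinearGroup (Fin 4) F))) := by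
    rw [← MonoidHom.ker_eq_bot_iff, QuotientGroup.ker_mk', hc]
  exact ⟨QuotientGroup.mk' _ (Matrix.SpecialLinearGroup.map f M), by
    rw [orderOf_injective _ hπ, orderOf_injective _ hf, hM]⟩

theorem sq_seven : ∀ r : ZMod 7, r * r ∈ ({0, 1, 2, 4} : Finset (ZMod 7)) := by
  decide +kernel

variable {L : Type u} [Group L] [Finite L] {p d : ℕ} [NeZero p]
variable {ρ : Representation ℂ L (Fin d → ℂ)} {x : L} (h : HalfCore p d ρ x)

include h

theorem x_not_mem_center (hzd : Nat.card (Subgroup.center L) ∣ d) : x ∉ Subgroup.center L := by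
  intro hx
  have h1 := (Subgroup.orderOf_dvd_natCard _ hx).trans hzd
  rw [h.ord] at h1
  rcases h.cases with ⟨rfl, rfl⟩ | ⟨rfl, rfl⟩ <;> norm_num at h1

/-- The centre has index at most `q ^ (d - 1)²`, or dividing `20160` and less for the prime seven. -/
theorem index_cases (hgal : GalFixed p ρ) (hzd : Nat.card (Subgroup.center L) ∣ d) :
    (Subgroup.center L).index ≤ qOf p ^ ((d - 1) * (d - 1)) ∨
      ((Subgroup.center L).index ∣ 20160 ∧ (p = 7 → (Subgroup.center L).index ≠ 20160)) := by
  obtain ⟨k, ik, ic, A, ψ, c, R⟩ := exists_red h hgal hzd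
  haveI : Fact (Nat.Prime 2) := ⟨Nat.prime_two⟩
  have hp : p = 5 ∨ p = 7 := h.cases.imp And.left And.left
  have hd : d = 3 ∨ d = 4 := h.cases.imp And.right And.right
  have hsq1 : IsSquare (1 : ZMod p) := IsSquare.one
  have hsq0 : IsSquare (0 : ZMod p) := ⟨0, by simp⟩
  have hpne : (1 : ZMod p) ≠ 0 := by rcases hp with rfl | rfl <;> decide
  obtain ⟨s, hs, hs2⟩ : ∃ s, qOf p = 2 ^ s ∧ s ≤ 2 := by
    rcases hp with rfl | rfl
    · exact ⟨2, rfl, le_rfl⟩
    · exact ⟨1, rfl, by omega⟩
  let F : Subfield k := (iterateFrobenius k 2 s).eqLocusField (RingHom.id k)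
  have hmemF : ∀ t, t ∈ F ↔ t ^ qOf p = t := fun t => by
    rw [hs, ← iterateFrobenius_def]; rfl
  set P : Polynomial k := Polynomial.X ^ qOf p - Polynomial.X with hP
  have hq1 : 1 < qOf p := by rcases hp with rfl | rfl <;> decide
  have hPd : P.natDegree = qOf p := FiniteField.X_pow_card_sub_X_natDegree_eq k hq1
  have hsub : (F : Set k) ⊆ ↑P.roots.toFinset := fun t ht => by
    rw [Finset.mem_coe, Multiset.mem_toFinset, Polynomial.mem_roots (FiniteField.X_pow_card_sub_X_ne_zero k hq1)]
    simp [hP, (hmemF t).1 ht]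
  haveI : Finite F := (P.roots.toFinset.finite_toSet.subset hsub).to_subtype
  haveI : CharP F 2 := (RingHom.charP_iff F.subtype F.subtype.injective 2).2 ic
  have hcardF : Nat.card F ≤ qOf p := by
    refine le_trans ?_ (le_trans (Multiset.toFinset_card_le _) (hPd ▸ Polynomial.card_roots' P))
    refine le_trans (Nat.card_mono P.roots.toFinset.finite_toSet hsub) (le_of_eq ?_)
    rw [Nat.card_coe_set_eq, Set.ncard_coe_finset]
  have hF : ∀ g, (A g).trace ∈ F := fun g => (hmemF _).2 (R.tr g)
  have hxp : x ^ p = 1 := by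
    conv_lhs => rw [← h.ord]
    exact pow_orderOf_eq_one x
  have hX : A x ^ p = 1 := by rw [← map_pow, hxp, map_one]
  -- the eigenvectors of `A x`
  have hline : ∀ j, IsSquare j → ∃ v : Fin d → k, v ≠ 0 ∧ A x *ᵥ v = ψ j • v ∧
      ∀ w, ∃ a : k, CMult.proj ψ c (A x) j *ᵥ w = a • v := by
    intro j hj
    set E := CMult.proj ψ c (A x) j with hE
    obtain ⟨a, ha⟩ : ∃ a, E *ᵥ Pi.single a 1 ≠ 0 := by
      by_contra hall
      push Not at hall
      have h1 := R.proj_tr j hj
      rw [← hE, show E = 0 from Matrix.ext fun i a => by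
        simpa [Matrix.mulVec_single_one] using congrFun (hall a) i] at h1
      simp at h1
    refine ⟨_, ha, ?_, fun w => ?_⟩
    · rw [Matrix.mulVec_mulVec, CMult.self_proj hX, Matrix.smul_mulVec]
    · have hsp : Submodule.span k {E *ᵥ Pi.single a 1} = LinearMap.range E.mulVecLin :=
        Submodule.eq_of_le_of_finrank_le
          ((Submodule.span_singleton_le_iff_mem _ _).2 ⟨_, rfl⟩)
          (by rw [finrank_span_singleton ha]; exact R.proj_rank j hj)
      have hw : E *ᵥ w ∈ LinearMap.range E.mulVecLin := ⟨w, rfl⟩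
      rw [← hsp, Submodule.mem_span_singleton] at hw
      obtain ⟨r, hr⟩ := hw
      exact ⟨r, hr.symm⟩
  have hxK : ∀ K : Subgroup L, x ∈ K → (∀ a ∈ K, ∀ g, (A (a * g)).trace = (A g).trace) → False := by
    intro K hxK hK
    have hi : ∀ i : ℕ, (A x ^ i).trace = (A 1).trace := fun i => by
      rw [← map_pow, ← mul_one (x ^ i), hK _ (K.pow_mem hxK i)]
    have h1 := R.proj_tr 1 hsq1
    simp only [CMult.proj, Matrix.trace_smul, Matrix.trace_sum, smul_eq_mul, hi] at h1
    rw [← Finset.sum_mul, show ∑ i : ZMod p, ψ (-(i * 1)) = 0 by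
      simpa using R.orth.zero (-1) (neg_ne_zero.2 hpne), zero_mul, mul_zero] at h1
    exact zero_ne_one h1
  have hsmall : ∀ K : Subgroup L, K.Normal → K.index ≤ Nat.card F ^ ((d - 1) * (d - 1)) →
      (∀ a ∈ K, ∀ g, (A (a * g)).trace = (A g).trace) →
      (Subgroup.center L).index ≤ qOf p ^ ((d - 1) * (d - 1)) := by
    intro K hKn hKi hKt
    have hne : K ≠ ⊤ := fun e => hxK K (e ▸ Subgroup.mem_top x) hKt
    exact ((Subgroup.index_antitone (h.norm K hKn hne)).trans hKi).trans (Nat.pow_le_pow_left hcardF _)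
  obtain ⟨n, hn⟩ : ∃ n, d = n + 1 := ⟨d - 1, by omega⟩
  by_cases hirr : ∀ W : Submodule k (Fin d → k), (∀ g, ∀ w ∈ W, A g *ᵥ w ∈ W) → W = ⊥ ∨ W = ⊤
  · -- irreducible
    obtain ⟨v, hv0, hv, hvE⟩ := hline 0 hsq0
    set E := CMult.proj ψ c (A x) 0 with hE
    choose φf hφf using fun a => hvE (Pi.single a (1 : k))
    set φ : Fin d → k := φf with hφ
    have hEw : ∀ i a, E i a = v i * φ a := fun i a => by
      have := congrFun (hφf a) i
      rw [Matrix.mulVec_single_one] at this
      rw [mul_comm]
      simpa using this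
    have hEv : E *ᵥ v = v := CMult.proj_mulVec_of_eigen R.orth hv
    have hφv : φ ⬝ᵥ v = 1 := by
      refine (smul_left_injective k hv0) ?_
      show (φ ⬝ᵥ v) • v = (1 : k) • v
      rw [one_smul]
      conv_rhs => rw [← hEv]
      funext i
      simp only [Pi.smul_apply, smul_eq_mul, Matrix.mulVec, dotProduct, hEw, Finset.sum_mul]
      exact Finset.sum_congr rfl fun a _ => by ring
    have hc1 : c = 1 := by
      have hp1 : (p : k) = 1 := by
        rcases hp with rfl | rfl
        · rw [← Nat.cast_one, CharP.natCast_eq_natCast k 2]; decide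
        · rw [← Nat.cast_one, CharP.natCast_eq_natCast k 2]; decide
      simpa [hp1] using R.orth.inv
    have hφF : ∀ g, φ ⬝ᵥ (A g *ᵥ v) ∈ F := by
      intro g
      have e : φ ⬝ᵥ (A g *ᵥ v) = (E * A g).trace := by
        simp only [dotProduct, Matrix.mulVec, Matrix.trace, Matrix.diag_apply, Matrix.mul_apply, hEw,
          Finset.mul_sum]
        rw [Finset.sum_comm]
        exact Finset.sum_congr rfl fun a _ => Finset.sum_congr rfl fun b _ => by ring
      rw [e, hE, CMult.proj]
      simp only [hc1, one_smul, mul_zero, neg_zero, AddChar.map_zero_eq_one, Finset.sum_mul, Matrix.trace_sum,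
        ← map_pow, ← map_mul]
      exact Subfield.sum_mem F fun i _ => hF _
    obtain ⟨ψ', hψ'⟩ := SubField.exists_psl F (by omega) A v φ hφv hφF hirr h.perf h.norm
    have hdvd : (Subgroup.center L).index ∣ Nat.card ψ'.range :=
      Subgroup.index_ker ψ' ▸ Subgroup.index_dvd_of_le hψ'
    haveI : Nonempty (Fin d) := ⟨⟨0, by omega⟩⟩
    have hcard := ClassicalSL.card_psl_mul (ι := Fin d) (F := F)
    rw [ClassicalSL.card_gl_fin rfl, Fintype.card_fin] at hcard
    haveI := Fintype.ofFinite F
    obtain ⟨e, -, hFe⟩ := FiniteField.card F 2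
    have he : (e : ℕ) ≤ s := (Nat.pow_le_pow_iff_right (by norm_num : 1 < 2)).1 (by
      rw [← hs, ← hFe, ← Nat.card_eq_fintype_card]; exact hcardF)
    have hFc : Nat.card F = 2 ∨ (Nat.card F = 4 ∧ p = 5) := by
      rw [Nat.card_eq_fintype_card, hFe]
      have := e.pos
      rcases hp with rfl | rfl
      · have : s = 2 := Nat.pow_right_injective le_rfl (hs.symm.trans (rfl : qOf 5 = 2 ^ 2))
        rcases (show (e : ℕ) = 1 ∨ (e : ℕ) = 2 by omega) with h1 | h1 <;> simp [h1]
      · have : s = 1 := Nat.pow_right_injective le_rfl (hs.symm.trans (rfl : qOf 7 = 2 ^ 1))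
        rw [show (e : ℕ) = 1 by omega]; simp
    have hdvd' : Nat.card (Matrix.ProjectiveSpecialLinearGroup (Fin d) F) ∣ 20160 := by
      generalize Nat.card (Matrix.ProjectiveSpecialLinearGroup (Fin d) F) = N at hcard ⊢
      rcases h.cases with ⟨hp5, rfl⟩ | ⟨hp7, rfl⟩ <;> rcases hFc with h2 | ⟨h4, hp5'⟩
      · rw [h2] at hcard; norm_num [Fin.prod_univ_three] at hcard; rw [hcard]; norm_num
      · rw [h4] at hcard; norm_num [Fin.prod_univ_three] at hcard; rw [show N = 20160 by omega]
      · rw [h2] at hcard; norm_num [Fin.prod_univ_four] at hcard; rw [hcard]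
      · omega
    refine Or.inr ⟨hdvd.trans ((Subgroup.card_subgroup_dvd_card _).trans hdvd'), fun hp7 heq => ?_⟩
    obtain rfl : d = 4 := by rcases h.cases with ⟨h1, -⟩ | ⟨-, h2⟩ <;> omega
    have hF2 : Nat.card F = 2 := hFc.resolve_right fun h4 => by omega
    have hsurj : ψ'.range = ⊤ := by
      refine Subgroup.eq_top_of_le_card _ ?_
      rw [heq] at hdvd
      exact (Nat.le_of_dvd (by norm_num) hdvd').trans (Nat.le_of_dvd Nat.card_pos hdvd)
    obtain ⟨g', hg'⟩ := exists_order_fifteen hF2
    obtain ⟨g, hg⟩ := MonoidHom.range_eq_top.1 hsurj g'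
    have h15 : 15 ∣ orderOf g := hg' ▸ hg ▸ orderOf_map_dvd ψ' g
    exact no_order_fifteen h hgal hzd hp7
      (orderOf_pow_orderOf_div (orderOf_pos g).ne' h15)
  · -- reducible
    left
    push Not at hirr
    obtain ⟨W, hW, hWb, hWt⟩ := hirr
    have hWd : finrank k W < d := by
      have := Submodule.finrank_lt hWt
      rwa [Module.finrank_fin_fun] at this
    have hW0 : 0 < finrank k W := by
      by_contra hz
      exact hWb (Submodule.finrank_eq_zero.1 (by omega))
    subst hn
    rcases (show finrank k W = 1 ∨ finrank k W = n ∨ (n = 3 ∧ finrank k W = 2) by omega) with h1 | h1 | ⟨hn3, h1⟩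
    · -- an invariant line
      obtain ⟨w, hw, hw0⟩ := Submodule.exists_mem_ne_zero_of_ne_bot hWb
      have hWw : Submodule.span k {w} = W :=
        Submodule.eq_of_le_of_finrank_le ((Submodule.span_singleton_le_iff_mem _ _).2 hw)
          (by rw [finrank_span_singleton hw0, h1])
      have hfix : ∀ g, A g *ᵥ w = w := line_fixed h.perf A hw0 fun g => by
        have := hW g w hw
        rw [← hWw, Submodule.mem_span_singleton] at this
        obtain ⟨r, hr⟩ := this
        exact ⟨r, hr.symm⟩
      obtain ⟨K, hK1, hK2, hK3⟩ := SubField.bound_of_fixed F A hw0 hfix hF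
      exact hsmall K hK1 (by simpa using hK2) hK3
    · -- an invariant hyperplane
      obtain ⟨f, hf0, hf⟩ := Submodule.exists_le_ker_of_lt_top W (lt_top_iff_ne_top.2 hWt)
      set φ : Fin (n + 1) → k := fun a => f (Pi.single a 1) with hφ
      have hfw : ∀ w, f w = φ ⬝ᵥ w := fun w => by
        conv_lhs => rw [pi_eq_sum_univ' w]
        simp [dotProduct, map_sum, hφ, mul_comm]
      have hφ0 : φ ≠ 0 := fun e => hf0 (LinearMap.ext fun w => by rw [hfw, e]; simp)
      have hker : W = LinearMap.ker f := by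
        refine Submodule.eq_of_le_of_finrank_le hf ?_
        have := Submodule.finrank_lt (s := LinearMap.ker f) (fun e => hf0 (LinearMap.ker_eq_top.1 e))
        rw [Module.finrank_fin_fun] at this
        omega
      obtain ⟨u, hu⟩ : ∃ u, f u = 1 := by
        obtain ⟨a, ha⟩ := Function.ne_iff.1 hφ0
        exact ⟨(φ a)⁻¹ • Pi.single a 1, by rw [map_smul, smul_eq_mul]; exact inv_mul_cancel₀ ha⟩
      let B : L →* Matrix (Fin (n + 1)) (Fin (n + 1)) k :=
        { toFun := fun g => (A g⁻¹).transpose
          map_one' := by simp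
          map_mul' := fun a b => by rw [mul_inv_rev, map_mul, Matrix.transpose_mul] }
      have hB : ∀ g, B g *ᵥ φ = φ := line_fixed h.perf B hφ0 fun g => by
        refine ⟨f (A g⁻¹ *ᵥ u), funext fun a => ?_⟩
        show ((A g⁻¹).transpose *ᵥ φ) a = _
        rw [Matrix.mulVec_transpose, Pi.smul_apply, smul_eq_mul]
        have hmem : Pi.single a 1 - φ a • u ∈ W := by
          rw [hker, LinearMap.mem_ker, map_sub, map_smul, hu]; simp [hφ]
        have := hW g⁻¹ _ hmem
        rw [hker, LinearMap.mem_ker, Matrix.mulVec_sub, Matrix.mulVec_smul, map_sub, map_smul, smul_eq_mul,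
          hfw (A g⁻¹ *ᵥ Pi.single a 1), sub_eq_zero, Matrix.dotProduct_mulVec, dotProduct_single, mul_one] at this
        rw [this, mul_comm]
      obtain ⟨K, hK1, hK2, hK3⟩ := SubField.bound_of_fixed F B hφ0 hB (fun g => by
        show ((A g⁻¹).transpose).trace ∈ F
        rw [Matrix.trace_transpose]; exact hF _)
      refine hsmall K hK1 (by simpa using hK2) fun a ha g => ?_
      have h2 := hK3 _ (hK1.conj_mem _ (K.inv_mem ha) g⁻¹) g⁻¹
      simp only [B, MonoidHom.coe_mk, OneHom.coe_mk, Matrix.trace_transpose, inv_inv] at h2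
      rwa [show (g⁻¹ * a⁻¹ * g * g⁻¹)⁻¹ = a * g by group] at h2
    · -- an invariant plane in degree four
      exfalso
      subst hn3
      obtain rfl : p = 7 := by rcases h.cases with ⟨-, h2⟩ | ⟨h2, -⟩ <;> omega
      have hP : ∀ j, ∀ w ∈ W, CMult.proj ψ c (A x) j *ᵥ w ∈ W := fun j w hw => by
        rw [CMult.proj, Matrix.smul_mulVec, Matrix.sum_mulVec]
        refine W.smul_mem _ (W.sum_mem fun i _ => ?_)
        rw [Matrix.smul_mulVec, ← map_pow]
        exact W.smul_mem _ (hW _ w hw)
      choose v hv0 hv hvE using fun j : {j : ZMod 7 // IsSquare j} => hline j j.2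
      have hψinj : Function.Injective ψ := by
        intro a b hab
        by_contra hne
        have hb : ψ (a - b) = 1 := by
          have h1 : ψ (a - b) * ψ b = ψ b := by rw [← AddChar.map_add_eq_mul, sub_add_cancel, hab]
          have h2 : ψ b ≠ 0 := fun h0 => by
            have := AddChar.map_add_eq_mul ψ b (-b)
            rw [add_neg_cancel, AddChar.map_zero_eq_one, h0, zero_mul] at this
            exact one_ne_zero this
          exact mul_right_cancel₀ h2 (h1.trans (one_mul _).symm)
        have h2 : ∀ i : ZMod 7, ψ ((a - b) * i) = 1 := fun i => by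
          rw [mul_comm, ← ZMod.natCast_zmod_val i, ← nsmul_eq_mul, AddChar.map_nsmul_eq_pow, hb, one_pow]
        have h3 := R.orth.zero _ (sub_ne_zero.2 hne)
        rw [Finset.sum_congr rfl fun i _ => h2 i, Finset.sum_const, Finset.card_univ, ZMod.card,
          nsmul_eq_mul, mul_one] at h3
        have := R.orth.inv
        rw [h3, mul_zero] at this
        exact zero_ne_one this
      let T : Finset {j : ZMod 7 // IsSquare j} := Finset.univ.filter fun j => v j ∈ W
      have hspan : W ≤ Submodule.span k (Set.range fun j : T => v j.1) := by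
        intro w hw
        rw [← Matrix.one_mulVec w, ← CMult.sum_proj R.orth (Y := A x), Matrix.sum_mulVec]
        refine Submodule.sum_mem _ fun j _ => ?_
        by_cases hj : IsSquare j
        · obtain ⟨r, hr⟩ := hvE ⟨j, hj⟩ w
          rcases eq_or_ne r 0 with hr0 | hr0
          · rw [hr, hr0, zero_smul]; exact Submodule.zero_mem _
          · have hvW : v ⟨j, hj⟩ ∈ W := by
              have := W.smul_mem r⁻¹ (hP j w hw)
              rwa [hr, inv_smul_smul₀ hr0] at this
            rw [hr]
            exact Submodule.smul_mem _ _ (Submodule.subset_span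
              ⟨⟨⟨j, hj⟩, Finset.mem_filter.2 ⟨Finset.mem_univ _, hvW⟩⟩, rfl⟩)
        · rw [R.proj_zero j hj, Matrix.zero_mulVec]; exact Submodule.zero_mem _
      have hli : LinearIndependent k fun j : T => v j.1 :=
        Module.End.eigenvectors_linearIndependent' (Matrix.mulVecLin (A x)) (fun j : T => ψ j.1.1)
          (fun a b e => Subtype.ext (Subtype.ext (hψinj e))) _
          (fun j => ⟨Module.End.mem_eigenspace_iff.2 (hv _), hv0 _⟩)
      have hTW : ∀ j : T, v j.1 ∈ W := fun j => (Finset.mem_filter.1 j.2).2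
      have heq : Submodule.span k (Set.range fun j : T => v j.1) = W :=
        le_antisymm (Submodule.span_le.2 (by rintro _ ⟨j, rfl⟩; exact hTW j)) hspan
      have hT2 : T.card = 2 := by
        rw [← Fintype.card_coe, ← finrank_span_eq_card hli, heq, h1]
      let r : L →* Module.End k W :=
        { toFun := fun g => (Matrix.mulVecLin (A g)).restrict (hW g)
          map_one' := LinearMap.ext fun w => Subtype.ext (by simp)
          map_mul' := fun a b => LinearMap.ext fun w => Subtype.ext (by
            simp [LinearMap.restrict, Matrix.mulVec_mulVec]) }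
      have hdet : LinearMap.det (r x) = 1 := by
        let δ : L →* kˣ := ((LinearMap.det).comp r).toHomUnits
        have h2 : x ∈ δ.ker := Abelianization.commutator_subset_ker δ (h.perf ▸ Subgroup.mem_top x)
        exact congrArg Units.val (MonoidHom.mem_ker.1 h2)
      have hliW : LinearIndependent k fun j : T => (⟨v j.1, hTW j⟩ : W) := by
        refine LinearIndependent.of_comp W.subtype ?_
        exact hli
      have hTne : Nonempty T := (Finset.card_pos.1 (by omega : 0 < T.card)).to_subtype
      let bW := basisOfLinearIndependentOfCardEqFinrank hliW (by rw [Fintype.card_coe, hT2, h1])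
      have hprod : LinearMap.det (r x) = ∏ j : T, ψ j.1.1 := by
        rw [← LinearMap.det_toMatrix bW, show LinearMap.toMatrix bW bW (r x) = Matrix.diagonal fun j : T => ψ j.1.1
          from Matrix.ext fun i j => ?_, Matrix.det_diagonal]
        have e : r x (bW j) = ψ j.1.1 • bW j := by
          rw [show bW j = ⟨v j.1, hTW j⟩ from congrFun (coe_basisOfLinearIndependentOfCardEqFinrank hliW _) j]
          exact Subtype.ext (hv j.1)
        rw [LinearMap.toMatrix_apply, e, map_smul, bW.repr_self, Finsupp.smul_apply, Finsupp.single_apply,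
          smul_eq_mul, Matrix.diagonal_apply]
        by_cases hij : i = j
        · subst hij; simp
        · simp [hij, Ne.symm hij]
      have hzero : ∑ j ∈ T.image (fun j : {j : ZMod 7 // IsSquare j} => j.1), j = 0 := by
        refine hψinj ?_
        rw [Finset.sum_image (fun a _ b _ e => Subtype.ext e), show ∀ U : Finset {j : ZMod 7 // IsSquare j}, ψ (∑ j ∈ U, j.1) = ∏ j ∈ U, ψ j.1 from fun U => by
            induction U using Finset.induction_on with
            | empty => simp
            | insert a U ha ih => rw [Finset.sum_insert ha, Finset.prod_insert ha, AddChar.map_add_eq_mul, ih], AddChar.map_zero_eq_one,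
          ← Finset.prod_coe_sort, ← hprod, hdet]
      have hkey : ∀ S : Finset (ZMod 7), S ⊆ {0, 1, 2, 4} → S.card = 2 → ∑ j ∈ S, j ≠ 0 := by
        intro S hS
        have hS' := Finset.mem_powerset.2 hS
        revert S
        decide +kernel
      refine hkey _ (fun j hj => ?_) (by rw [Finset.card_image_of_injective _ Subtype.coe_injective, hT2]) hzero
      obtain ⟨⟨j', hj'⟩, -, rfl⟩ := Finset.mem_image.1 hj
      obtain ⟨r, rfl⟩ := hj'
      exact sq_seven r

end Cfsg.Agent.Feit
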