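import Cfsg.Agent.Lib.Feit.Half
import Cfsg.Agent.Lib.Char.Galois
import Cfsg.Agent.Lib.SmallDim.HalfDegree
import Mathlib.LinearAlgebra.Eigenspace.Basic
import Mathlib.NumberTheory.LegendreSymbol.AddCharacter

/-!
The basic data of a half core: the eigenbasis, the exponents of the normaliser and the centre.
-/

set_option autoImplicit false
set_option linter.unusedSectionVars false
set_option linter.style.haveILetI false

namespace Cfsg.Agent.Feit

open Cfsg Module
open scoped ComplexConjugate

universe u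

theorem card_squares_five : Fintype.card {j : ZMod 5 // IsSquare j} = 3 := by decide

theorem card_squares_seven : Fintype.card {j : ZMod 7 // IsSquare j} = 4 := by decide

variable {p d : ℕ} [Fact p.Prime] [NeZero p] {L : Type u} [Group L] [Finite L]
  {ρ : Representation ℂ L (Fin d → ℂ)} {x : L}

namespace HalfCore

variable (h : HalfCore p d ρ x)
include h

theorem pow_p : x ^ p = 1 := by rw [← h.ord, pow_orderOf_eq_one]

theorem card_squares : Fintype.card {j : ZMod p // IsSquare j} = d := by
  rcases h.cases with ⟨rfl, rfl⟩ | ⟨rfl, rfl⟩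
  · convert card_squares_five
  · convert card_squares_seven

/-- The eigenbasis. -/
theorem exists_basis : ∃ (B : Module.Basis (Fin d) ℂ (Fin d → ℂ)) (ε : Fin d → ZMod p),
    Function.Injective ε ∧ (∀ j, IsSquare j ↔ ∃ i, ε i = j) ∧
    ∀ i, ρ x (B i) = ZMod.stdAddChar (ε i) • B i := by
  haveI : Nonempty (Fin d) := by
    rcases h.cases with ⟨-, rfl⟩ | ⟨-, rfl⟩ <;> infer_instance
  let en : {j : ZMod p // IsSquare j} ≃ Fin d := Fintype.equivFinOfCardEq h.card_squares
  choose v hv0 hv using fun i : Fin d => h.eig (en.symm i).1 (en.symm i).2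
  have hinj : Function.Injective fun i : Fin d => ((en.symm i).1 : ZMod p) :=
    Subtype.val_injective.comp en.symm.injective
  have hind : LinearIndependent ℂ v := Module.End.eigenvectors_linearIndependent' (ρ x)
    (fun i => ZMod.stdAddChar ((en.symm i).1)) (ZMod.injective_stdAddChar.comp hinj) v fun i =>
      Module.End.hasEigenvector_iff.2 ⟨Module.End.mem_eigenspace_iff.2 (hv i), hv0 i⟩
  refine ⟨basisOfLinearIndependentOfCardEqFinrank hind (by simp), fun i => (en.symm i).1, hinj,
    fun j => ⟨fun hj => ⟨en ⟨j, hj⟩, by simp⟩, ?_⟩, fun i => ?_⟩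
  · rintro ⟨i, rfl⟩
    exact (en.symm i).2
  · simp [hv i]

/-- The action of a power. -/
theorem apply_pow {v : Fin d → ℂ} {j : ZMod p} (hv : ρ x v = ZMod.stdAddChar j • v) (k : ℕ) :
    ρ (x ^ k) v = ZMod.stdAddChar ((k : ZMod p) * j) • v := by
  induction k with
  | zero => simp
  | succ k ih =>
    rw [pow_succ', map_mul, Module.End.mul_apply, ih, map_smul, hv, smul_smul, Nat.cast_succ,
      add_mul, one_mul, AddChar.map_add_eq_mul]

/-- The exponents of the normaliser are squares. -/
theorem exponent_sq {u : L} {k : ℕ} (hu : u * x * u⁻¹ = x ^ k) : IsSquare (k : ZMod p) := by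
  obtain ⟨B, ε, -, hε, hB⟩ := h.exists_basis
  obtain ⟨v, hv0, hv⟩ := h.eig 1 IsSquare.one
  have hw0 : ρ u v ≠ 0 := fun e => hv0 (by
    have h' := congrArg (ρ u⁻¹) e
    rwa [map_zero, ← Module.End.mul_apply, ← map_mul, inv_mul_cancel, map_one,
      Module.End.one_apply] at h')
  set w := ρ u v with hw
  have hxw : ρ (x ^ k) w = ZMod.stdAddChar (1 : ZMod p) • w := by
    rw [hw, ← hu, ← Module.End.mul_apply, ← map_mul, inv_mul_cancel_right, map_mul,
      Module.End.mul_apply, hv, map_smul]
  obtain ⟨i, hi⟩ : ∃ i, B.repr w i ≠ 0 := by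
    by_contra h'
    push Not at h'
    exact hw0 (B.repr.map_eq_zero_iff.1 (Finsupp.ext h'))
  have h1 : ρ (x ^ k) w = ∑ l, (B.repr w l * ZMod.stdAddChar ((k : ZMod p) * ε l)) • B l := by
    conv_lhs => rw [← B.sum_repr w]
    rw [map_sum]
    exact Finset.sum_congr rfl fun l _ => by rw [map_smul, h.apply_pow (hB l), smul_smul]
  have h2 := congrArg (fun w => B.repr w i) (h1.symm.trans hxw)
  simp only [B.repr_sum_self, map_smul, Finsupp.smul_apply, smul_eq_mul] at h2
  have h3 : (k : ZMod p) * ε i = 1 :=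
    ZMod.injective_stdAddChar (mul_left_cancel₀ hi (h2.trans (mul_comm _ _)))
  obtain ⟨r, hr⟩ := (hε (ε i)).2 ⟨i, rfl⟩
  exact ⟨(k : ZMod p) * r, by
    calc (k : ZMod p) = k * (k * ε i) := by rw [h3, mul_one]
      _ = _ := by rw [hr]; ring⟩

/-- Central elements act as scalars. -/
theorem exists_scalar {z : L} (hz : z ∈ Subgroup.center L) : ∃ s : ℂ, ρ z = s • LinearMap.id :=
  haveI := h.irr
  haveI : Fintype L := Fintype.ofFinite L
  Char.schur_scalar ρ (ρ z) fun g v => by
    rw [← Module.End.mul_apply, ← map_mul, ← Subgroup.mem_center_iff.1 hz g, map_mul,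
      Module.End.mul_apply]

/-- The exponent of the centre divides the degree. -/
theorem pow_degree {z : L} (hz : z ∈ Subgroup.center L) : z ^ d = 1 := by
  obtain ⟨s, hs⟩ := h.exists_scalar hz
  let δ : L →* ℂˣ := (Units.map (LinearMap.det : Module.End ℂ (Fin d → ℂ) →* ℂ)).comp ρ.toHomUnits
  have h1 : δ z = 1 := Abelianization.commutator_subset_ker δ (h.perf ▸ Subgroup.mem_top z)
  have h2 : LinearMap.det (ρ z) = 1 := congrArg Units.val h1
  rw [hs, LinearMap.det_smul, Module.finrank_fin_fun, LinearMap.det_id, mul_one] at h2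
  refine h.inj ?_
  rw [map_pow, hs, map_one, ← Module.End.one_eq_id, smul_pow, one_pow, h2, one_smul]

theorem coprime_degree : Nat.Coprime p d := by
  rcases h.cases with ⟨rfl, rfl⟩ | ⟨rfl, rfl⟩ <;> decide

/-- A central element is no non-trivial power of `x`. -/
theorem eq_one_of_pow {z : L} (hz : z ∈ Subgroup.center L) (hp : z ^ p = 1) : z = 1 :=
  orderOf_eq_one_iff.1 (Nat.eq_one_of_dvd_coprimes h.coprime_degree (orderOf_dvd_of_pow_eq_one hp)
    (orderOf_dvd_of_pow_eq_one (h.pow_degree hz)))

/-- The centre is cyclic of order dividing the degree. -/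
theorem card_center_dvd : Nat.card (Subgroup.center L) ∣ d := by
  classical
  haveI : Nonempty (Fin d) := by
    rcases h.cases with ⟨-, rfl⟩ | ⟨-, rfl⟩ <;> infer_instance
  obtain ⟨i⟩ : Nonempty (Fin d) := inferInstance
  choose s hs using fun z : Subgroup.center L => h.exists_scalar z.2
  have hval : ∀ z, s z = ρ (z : L) (Pi.single i 1) i := fun z => by
    rw [hs]; simp
  let f : Subgroup.center L →* ℂ :=
    { toFun := s
      map_one' := (hval 1).trans (by simp)
      map_mul' := fun a b => by
        rw [hval, Subgroup.coe_mul, map_mul, Module.End.mul_apply, hs a, hs b]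
        simp [mul_comm] }
  have hf : Function.Injective f := fun a b e => Subtype.ext (h.inj (by
    rw [hs a, hs b]
    exact congrArg (fun c : ℂ => c • (LinearMap.id : Module.End ℂ (Fin d → ℂ))) e))
  haveI := isCyclic_of_subgroup_isDomain f hf
  rw [← IsCyclic.exponent_eq_card]
  exact Monoid.exponent_dvd_of_forall_pow_eq_one fun z => Subtype.ext (h.pow_degree z.2)

/-- The character on the cosets of the centre. -/
theorem char_apply {z : L} (hz : z ∈ Subgroup.center L) {s : ℂ} (hs : ρ z = s • LinearMap.id)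
    (k : ℕ) :
    ρ.character (x ^ k * z) =
      s * ∑ j : {j : ZMod p // IsSquare j}, ZMod.stdAddChar ((k : ZMod p) * j.1) := by
  obtain ⟨B, ε, hinj, hε, hB⟩ := h.exists_basis
  have h1 : ∀ i, ρ (x ^ k * z) (B i) = (s * ZMod.stdAddChar ((k : ZMod p) * ε i)) • B i := fun i => by
    rw [map_mul, Module.End.mul_apply, hs, LinearMap.smul_apply, LinearMap.id_apply, map_smul,
      h.apply_pow (hB i), smul_smul]
  rw [Representation.character, LinearMap.trace_eq_matrix_trace ℂ B, Matrix.trace, Finset.mul_sum]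
  refine Fintype.sum_bijective (fun i => ⟨ε i, (hε _).2 ⟨i, rfl⟩⟩) ⟨fun a b e => hinj
    (congrArg Subtype.val e), fun j => ?_⟩ _ _ fun i => ?_
  · obtain ⟨i, hi⟩ := (hε j.1).1 j.2
    exact ⟨i, Subtype.ext hi⟩
  · rw [Matrix.diag_apply, LinearMap.toMatrix_apply, h1, map_smul, B.repr_self]
    simp

end HalfCore

end Cfsg.Agent.Feit
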