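import Cfsg.Agent.Lib.Feit.Three
import Mathlib.Analysis.SpecialFunctions.Complex.CircleAddChar

/-!
Degree three at the prime five: the Sylow subgroup has order five modulo the centre.
-/

set_option autoImplicit false
set_option linter.unusedSectionVars false
set_option linter.style.haveILetI false
set_option maxHeartbeats 800000

namespace Cfsg.Agent.Feit

open Cfsg Module SmallDim SmallDeg16

universe u

section Basis

variable {G : Type u} [Group G] [Finite G] {n : ℕ}

/-- A map with simple eigenvalues has an eigenbasis. -/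
theorem exists_eigenbasis (ρ : Representation ℂ G (Fin n → ℂ)) (g : G)
    (h : ∀ μ, finrank ℂ (Module.End.eigenspace (ρ g) μ) ≤ 1) :
    ∃ (B : Module.Basis (Fin n) ℂ (Fin n → ℂ)) (l : Fin n → ℂ), Function.Injective l ∧
      (∀ i, ρ g (B i) = l i • B i) ∧
      ∀ (μ : ℂ) (v : Fin n → ℂ), v ≠ 0 → ρ g v = μ • v → ∃ i, μ = l i := by
  haveI : Fintype G := Fintype.ofFinite G
  set S : Set (Fin n → ℂ) := {v | ∃ μ : ℂ, ρ g v = μ • v} with hS
  have hspan : ⊤ ≤ Submodule.span ℂ S := by
    rw [← iSup_eigenspace_rep ρ g]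
    exact iSup_le fun μ v hv => Submodule.subset_span ⟨μ, Module.End.mem_eigenspace_iff.1 hv⟩
  let B₀ := Module.Basis.ofSpan hspan
  haveI := Module.Finite.finite_basis B₀
  haveI := Fintype.ofFinite ((linearIndepOn_empty ℂ id).extend (Set.empty_subset S))
  let B := B₀.reindex (Fintype.equivFinOfCardEq
    ((Module.finrank_eq_card_basis B₀).symm.trans (Module.finrank_fin_fun ℂ)))
  have hB : ∀ i, ∃ μ : ℂ, ρ g (B i) = μ • B i := fun i => by
    have : B i ∈ S := by
      rw [Module.Basis.reindex_apply]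
      exact Module.Basis.ofSpan_subset hspan ⟨_, rfl⟩
    exact this
  choose l hl using hB
  refine ⟨B, l, fun i j hij => ?_, hl, fun μ v hv0 hv => ?_⟩
  · by_contra hne
    have hind : LinearIndependent ℂ ![B i, B j] := by
      have h' := B.linearIndependent.comp ![i, j] (fun a b hab => by
        fin_cases a <;> fin_cases b <;> simp_all [eq_comm])
      rwa [show (B : Fin n → Fin n → ℂ) ∘ ![i, j] = ![B i, B j] by
        funext a; fin_cases a <;> rfl] at h'
    have hle : Submodule.span ℂ (Set.range ![B i, B j]) ≤ Module.End.eigenspace (ρ g) (l i) := by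
      rw [Submodule.span_le]
      rintro _ ⟨a, rfl⟩
      fin_cases a <;> simp [hl, hij]
    have h2 := (Submodule.finrank_mono hle).trans (h (l i))
    rw [finrank_span_eq_card hind, Fintype.card_fin] at h2
    omega
  · obtain ⟨i, hi⟩ : ∃ i, B.repr v i ≠ 0 := by
      by_contra h'
      push Not at h'
      exact hv0 (B.repr.map_eq_zero_iff.1 (Finsupp.ext h'))
    refine ⟨i, mul_right_cancel₀ hi ?_⟩
    have h1 : ρ g v = ∑ j, (B.repr v j * l j) • B j := by
      conv_lhs => rw [← B.sum_repr v]
      rw [map_sum]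
      exact Finset.sum_congr rfl fun j _ => by rw [map_smul, hl, smul_smul]
    have h2 := congrArg (fun w => B.repr w i) (h1.symm.trans hv)
    simp only [B.repr_sum_self, map_smul, Finsupp.smul_apply, smul_eq_mul] at h2
    rw [← h2, mul_comm]

/-- A commuting element acts by a scalar on a simple eigenline. -/
theorem scalar_on_line (ρ : Representation ℂ G (Fin n → ℂ)) {g z : G} (hc : Commute g z) {μ : ℂ}
    (h : finrank ℂ (Module.End.eigenspace (ρ g) μ) ≤ 1) {v : Fin n → ℂ} (hv : ρ g v = μ • v)
    (hv0 : v ≠ 0) : ∃ c : ℂ, ρ z v = c • v := by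
  have hmem : ρ z v ∈ Module.End.eigenspace (ρ g) μ := by
    rw [Module.End.mem_eigenspace_iff, ← Module.End.mul_apply, ← map_mul, hc.eq, map_mul,
      Module.End.mul_apply, hv, map_smul]
  have hsp : Submodule.span ℂ {v} = Module.End.eigenspace (ρ g) μ :=
    Submodule.eq_of_le_of_finrank_le
      ((Submodule.span_singleton_le_iff_mem _ _).2 (Module.End.mem_eigenspace_iff.2 hv))
      (by rw [finrank_span_singleton hv0]; exact h)
  rw [← hsp, Submodule.mem_span_singleton] at hmem
  obtain ⟨c, hc⟩ := hmem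
  exact ⟨c, hc.symm⟩

end Basis

/-- The combinatorics of three residues modulo twenty-five. -/
theorem arc_twentyfive : ∀ v : Fin 25, (v : ℕ) % 5 ≠ 0 → (v : ℕ) % 5 ≠ 1 →
    ∃ j : Fin 25, j ≠ 0 ∧ ∃ s : Fin 25, (0 - s + 2 : Fin 25).val < 5 ∧ (j - s + 2).val < 5 ∧
      (j * v - s + 2).val < 5 := by
  decide +kernel

/-- Three residues modulo twenty-five distinct modulo five have a multiple in a short arc. -/
theorem exists_arc (a b c : ZMod 25) (h1 : 5 * a ≠ 5 * b) (h2 : 5 * a ≠ 5 * c) (h3 : 5 * b ≠ 5 * c) :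
    ∃ j : ZMod 25, j ≠ 0 ∧ ∃ s : ZMod 25, ∀ x ∈ [a, b, c], (j * x - s + 2).val < 5 := by
  have hfive : ∀ d : ZMod 25, (5 * d = 0 ↔ d.val % 5 = 0) := by decide +kernel
  have hinv : ∀ d : ZMod 25, d.val % 5 ≠ 0 → ∃ u : ZMod 25, d * u = 1 := by decide +kernel
  obtain ⟨u, hu⟩ := hinv (b - a) fun h => h1 (by
    have h' := (hfive (b - a)).2 h
    rw [mul_sub, sub_eq_zero] at h'
    exact h'.symm)
  obtain ⟨j, hj0, s, hs0, hs1, hs2⟩ := arc_twentyfive ((c - a) * u) (fun h => h2 (by
      have h' : (5 : ZMod 25) * ((c - a) * u) = 0 := (hfive _).2 h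
      have h'' : 5 * (c - a) = 0 := by linear_combination (b - a) * h' - 5 * (c - a) * hu
      linear_combination -h''))
    (fun h => h3 (by
      have h' : (5 : ZMod 25) * ((c - a) * u - 1) = 0 := by
        refine (hfive _).2 ?_
        have key : ∀ d : ZMod 25, d.val % 5 = 1 → (d - 1).val % 5 = 0 := by decide +kernel
        exact key _ h
      linear_combination (-(b - a)) * h' + 5 * (c - a) * hu))
  let j' : ZMod 25 := j
  let s' : ZMod 25 := s
  refine ⟨j' * u, fun h => hj0 ?_, s' + j' * u * a, ?_⟩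
  · have : j' = 0 := by linear_combination (b - a) * h - j' * hu
    exact this
  intro x hx
  simp only [List.mem_cons, List.not_mem_nil, or_false] at hx
  rcases hx with hx | hx | hx <;> subst hx
  · rw [show j' * u * x - (s' + j' * u * x) + 2 = 0 - s' + 2 by ring]
    exact hs0
  · rw [show j' * u * x - (s' + j' * u * a) + 2 = j' - s' + 2 by linear_combination j' * hu]
    exact hs1
  · rw [show j' * u * x - (s' + j' * u * a) + 2 = j' * ((x - a) * u) - s' + 2 by ring]
    exact hs2

/-- The points of a short arc are near a common one. -/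
theorem norm_arc_le {δ : ZMod 25} (h : (δ + 2).val < 5) :
    ‖ZMod.stdAddChar δ - ((9 / 10 : ℝ) : ℂ)‖ ≤ 49 / 100 := by
  obtain ⟨k, hk, rfl⟩ : ∃ k : ℤ, |k| ≤ 2 ∧ δ = (k : ZMod 25) := by
    refine ⟨((δ + 2).val : ℤ) - 2, abs_le.2 ⟨by omega, by omega⟩, ?_⟩
    rw [Int.cast_sub, Int.cast_natCast, ZMod.natCast_zmod_val]
    norm_num
  rw [ZMod.stdAddChar_coe]
  set θ : ℝ := 2 * Real.pi * k / 25 with hθ
  have he : 2 * (Real.pi : ℂ) * Complex.I * (k : ℂ) / ((25 : ℕ) : ℂ) = (θ : ℂ) * Complex.I := by
    rw [hθ]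
    push_cast
    ring
  rw [he]
  have hcos : 873 / 1000 ≤ Real.cos θ := by
    have h1 := Real.one_sub_sq_div_two_le_cos (x := θ)
    have h2 : θ ^ 2 ≤ (503 / 1000) ^ 2 := by
      rw [sq_le_sq, abs_of_nonneg (by norm_num : (0 : ℝ) ≤ 503 / 1000), hθ, abs_div, abs_mul,
        abs_of_nonneg (by positivity : (0 : ℝ) ≤ 2 * Real.pi), abs_of_nonneg (by norm_num : (0 : ℝ) ≤ 25)]
      have hk' : |(k : ℝ)| ≤ 2 := by exact_mod_cast hk
      have := Real.pi_lt_d4
      have hp := Real.pi_pos
      rw [div_le_iff₀ (by norm_num)]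
      calc 2 * Real.pi * |(k : ℝ)| ≤ 2 * Real.pi * 2 := by gcongr
        _ ≤ _ := by linarith
    linarith
  refine le_of_pow_le_pow_left₀ two_ne_zero (by norm_num) ?_
  rw [Complex.sq_norm, Complex.normSq_apply]
  simp only [Complex.sub_re, Complex.sub_im, Complex.ofReal_re, Complex.ofReal_im, sub_zero,
    Complex.exp_ofReal_mul_I_re, Complex.exp_ofReal_mul_I_im]
  have := Real.sin_sq_add_cos_sq θ
  nlinarith

variable {G : Type u} [Group G] [Finite G] [hpF : Fact (Nat.Prime 5)]

/-- With a `5'`-centre the Sylow subgroups have order at most five. -/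
theorem not_sq_dvd_three (ρ : Representation ℂ G (Fin 3 → ℂ)) [ρ.IsIrreducible]
    (hρ : Function.Injective ρ) (hG : ¬ PNormal 5 G) (hZ : ¬ 5 ∣ Nat.card (Subgroup.center G)) :
    ¬ 5 ^ 2 ∣ Nat.card G := by
  intro hsq
  obtain ⟨P⟩ : Nonempty (Sylow 5 G) := inferInstance
  have hcen : ∀ y ∈ (P : Subgroup G), y ∈ Subgroup.center G → y = 1 := by
    intro y hy hyc
    obtain ⟨k, hk⟩ := isPElt_of_mem P.isPGroup' hy
    rw [← orderOf_eq_one_iff]
    exact Nat.eq_one_of_dvd_coprimes
      (Nat.Coprime.pow_left k ((hpF.out.coprime_iff_not_dvd).2 hZ)) (orderOf_dvd_of_pow_eq_one hk)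
      (Subgroup.orderOf_dvd_natCard _ hyc)
  have hsimple : ∀ y ∈ (P : Subgroup G), orderOf y = 5 →
      ∀ μ, finrank ℂ (Module.End.eigenspace (ρ y) μ) ≤ 1 := by
    intro y hy hyo μ
    by_contra h
    rw [hcen y hy (mem_center_of_double ρ hρ hG hyo (μ := μ) (by omega)), orderOf_one] at hyo
    norm_num at hyo
  by_cases hex : ∀ y ∈ (P : Subgroup G), y ^ 5 = 1
  · obtain ⟨⟨y, hy⟩, hyo⟩ := exists_prime_orderOf_dvd_card' (G := (P : Subgroup G)) 5
      ((dvd_pow_self 5 two_ne_zero).trans (P.pow_dvd_card_of_pow_dvd_card hsq))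
    rw [Subgroup.orderOf_mk] at hyo
    obtain ⟨B, l, hl, hB, -⟩ := exists_eigenbasis ρ y (hsimple y hy hyo)
    have hsc : ∀ (z : (P : Subgroup G)) (i : Fin 3), ∃ c : ℂ, ρ (z : G) (B i) = c • B i :=
      fun z i => scalar_on_line ρ
        (Char.Blich.comm_of_small ρ hρ (by norm_num) _ P.isPGroup' y hy z z.2)
        (hsimple y hy hyo _) (hB i) (B.ne_zero i)
    choose c hc using hsc
    have hc5 : ∀ z i, c z i ^ 5 = 1 := fun z i => by
      have h := Module.End.mem_eigenspace_iff.1 (eigenspace_le_pow (ρ (z : G)) (c z i) 5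
        (Module.End.mem_eigenspace_iff.2 (hc z i)))
      rw [← map_pow, hex z z.2, map_one, Module.End.one_apply] at h
      exact (smul_left_injective ℂ (B.ne_zero i) ((one_smul ℂ (B i)).trans h)).symm
    haveI : Fintype (P : Subgroup G) := Fintype.ofFinite _
    classical
    obtain ⟨z, -, z', -, hne, he⟩ := Finset.exists_ne_map_eq_of_card_lt_of_maps_to
      (s := (Finset.univ : Finset (P : Subgroup G))) (t := (Polynomial.nthRoots 5 (1 : ℂ)).toFinset)
      (f := fun z => c z 0 / c z 1) (by
        refine lt_of_le_of_lt ((Multiset.toFinset_card_le _).trans (Polynomial.card_nthRoots _ _)) ?_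
        rw [Finset.card_univ, ← Nat.card_eq_fintype_card]
        have := Nat.le_of_dvd Nat.card_pos (P.pow_dvd_card_of_pow_dvd_card hsq)
        omega)
      (fun z _ => by
        rw [Finset.mem_coe, Multiset.mem_toFinset, Polynomial.mem_nthRoots (by norm_num), div_pow,
          hc5, hc5, div_one])
    have hne0 : ∀ z i, c z i ≠ 0 := fun z i e => by
      have := hc5 z i
      rw [e] at this
      norm_num at this
    set w : (P : Subgroup G) := z'⁻¹ * z with hw
    have hw1 : (w : G) ≠ 1 := fun e => hne (inv_mul_eq_one.1 (Subtype.ext e)).symm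
    have hcw : ∀ i, c z' i * c w i = c z i := fun i => by
      have h := hc z i
      rw [show (z : G) = z' * w by rw [hw]; simp, map_mul, Module.End.mul_apply, hc, map_smul, hc,
        smul_smul] at h
      rw [mul_comm]
      exact smul_left_injective ℂ (B.ne_zero i) h
    have hdbl : c w 0 = c w 1 := by
      change c z 0 / c z 1 = c z' 0 / c z' 1 at he
      rw [← hcw 0, ← hcw 1] at he
      have := hne0 z' 0
      have := hne0 z' 1
      have := hne0 w 1
      field_simp at he
      exact he
    have hwo : orderOf (w : G) = 5 := orderOf_eq_prime (hex w w.2) hw1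
    have hle : Submodule.span ℂ (Set.range ![B 0, B 1]) ≤
        Module.End.eigenspace (ρ (w : G)) (c w 0) := by
      rw [Submodule.span_le]
      rintro _ ⟨a, rfl⟩
      fin_cases a <;> simp [hc, hdbl]
    have h2 := (Submodule.finrank_mono hle).trans (hsimple w w.2 hwo _)
    have hind : LinearIndependent ℂ ![B 0, B 1] := by
      have h' := B.linearIndependent.comp ![(0 : Fin 3), 1] (by decide)
      rwa [show (B : Fin 3 → Fin 3 → ℂ) ∘ ![0, 1] = ![B 0, B 1] by
        funext a; fin_cases a <;> rfl] at h'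
    rw [finrank_span_eq_card hind, Fintype.card_fin] at h2
    omega
  · push Not at hex
    obtain ⟨y, hy, hy5⟩ := hex
    obtain ⟨k, hk⟩ := isPElt_of_mem P.isPGroup' hy
    obtain ⟨i, -, hi⟩ := (Nat.dvd_prime_pow hpF.out).1 (orderOf_dvd_of_pow_eq_one hk)
    have hi2 : 2 ≤ i := by
      by_contra h
      refine hy5 (orderOf_dvd_iff_pow_eq_one.1 (hi ▸ ?_))
      exact (pow_dvd_pow 5 (show i ≤ 1 by omega)).trans (by norm_num)
    set g := y ^ 5 ^ (i - 2) with hg
    have hgo : orderOf g = 25 := by
      rw [hg, orderOf_pow' _ (by positivity), hi,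
        Nat.gcd_eq_right (pow_dvd_pow 5 (by omega)), Nat.pow_div (by omega) (by norm_num),
        show i - (i - 2) = 2 by omega]
    have hgP : g ∈ (P : Subgroup G) := pow_mem hy _
    clear_value g
    have hg5o : orderOf (g ^ 5) = 5 := by rw [orderOf_pow' _ (by norm_num), hgo]; norm_num
    have hsimp5 := hsimple _ (pow_mem hgP 5) hg5o
    have hsimp : ∀ μ, finrank ℂ (Module.End.eigenspace (ρ g) μ) ≤ 1 := fun μ => by
      have h := eigenspace_le_pow (ρ g) μ 5
      rw [← map_pow] at h
      exact (Submodule.finrank_mono h).trans (hsimp5 (μ ^ 5))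
    obtain ⟨B, l, -, hB, hall⟩ := exists_eigenbasis ρ g hsimp
    have hl25 : ∀ i, ∃ a : ZMod 25, l i = ZMod.stdAddChar a := fun i => by
      have h := Module.End.mem_eigenspace_iff.1 (eigenspace_le_pow (ρ g) (l i) 25
        (Module.End.mem_eigenspace_iff.2 (hB i)))
      rw [← map_pow, ← hgo, pow_orderOf_eq_one, map_one, Module.End.one_apply, hgo] at h
      have h1 := (smul_left_injective ℂ (B.ne_zero i) ((one_smul ℂ (B i)).trans h)).symm
      have hprim : IsPrimitiveRoot (ZMod.stdAddChar (1 : ZMod 25)) 25 := by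
        have e : ZMod.stdAddChar (1 : ZMod 25) =
            Complex.exp (2 * (Real.pi : ℂ) * Complex.I / (25 : ℕ)) := by
          have := ZMod.stdAddChar_coe (N := 25) 1
          rw [Int.cast_one, Int.cast_one, mul_one] at this
          exact this
        rw [e]
        exact Complex.isPrimitiveRoot_exp 25 (by norm_num)
      obtain ⟨a, -, ha⟩ := hprim.eq_pow_of_pow_eq_one h1
      refine ⟨(a : ZMod 25), ?_⟩
      rw [← ha, ← AddChar.map_nsmul_eq_pow, nsmul_eq_mul, mul_one]
    choose a ha using hl25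
    have hdist : ∀ i j, i ≠ j → 5 * a i ≠ 5 * a j := by
      intro i j hij he
      have he' : ∀ k, ρ (g ^ 5) (B k) = ZMod.stdAddChar (5 * a k) • B k := fun k => by
        rw [map_pow, Module.End.mem_eigenspace_iff.1 (eigenspace_le_pow (ρ g) (l k) 5
          (Module.End.mem_eigenspace_iff.2 (hB k))), ha, ← AddChar.map_nsmul_eq_pow, nsmul_eq_mul]
        norm_num
      have hle : Submodule.span ℂ (Set.range ![B i, B j]) ≤
          Module.End.eigenspace (ρ (g ^ 5)) (ZMod.stdAddChar (5 * a i)) := by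
        rw [Submodule.span_le]
        rintro _ ⟨b, rfl⟩
        fin_cases b
        · exact Module.End.mem_eigenspace_iff.2 (he' i)
        · exact Module.End.mem_eigenspace_iff.2 (he ▸ he' j)
      have h2 := (Submodule.finrank_mono hle).trans (hsimp5 _)
      have hind : LinearIndependent ℂ ![B i, B j] := by
        have h' := B.linearIndependent.comp ![i, j] (fun x y hxy => by
          fin_cases x <;> fin_cases y <;>
            first
              | rfl
              | exact absurd hxy hij
              | exact absurd hxy.symm hij)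
        rwa [show (B : Fin 3 → Fin 3 → ℂ) ∘ ![i, j] = ![B i, B j] by
          funext x; fin_cases x <;> rfl] at h'
      rw [finrank_span_eq_card hind, Fintype.card_fin] at h2
      omega
    obtain ⟨j, hj, s, hs⟩ := exists_arc (a 0) (a 1) (a 2) (hdist _ _ (by decide))
      (hdist _ _ (by decide)) (hdist _ _ (by decide))
    have hjB : ∀ i, ρ (g ^ j.val) (B i) = ZMod.stdAddChar (j * a i) • B i := fun i => by
      rw [map_pow, Module.End.mem_eigenspace_iff.1 (eigenspace_le_pow (ρ g) (l i) j.val
        (Module.End.mem_eigenspace_iff.2 (hB i))), ha, ← AddChar.map_nsmul_eq_pow, nsmul_eq_mul,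
        ZMod.natCast_zmod_val]
    have hc : g ^ j.val ∈ Subgroup.center G := by
      refine mem_center_of_arc ρ hρ (by norm_num) hG
        (ZMod.stdAddChar s * ((9 / 10 : ℝ) : ℂ)) (r := 49 / 100) (by norm_num) fun μ v hv0 hv => ?_
      obtain ⟨i, hi⟩ : ∃ i, μ = ZMod.stdAddChar (j * a i) := by
        obtain ⟨i, hi⟩ : ∃ i, B.repr v i ≠ 0 := by
          by_contra h'
          push Not at h'
          exact hv0 (B.repr.map_eq_zero_iff.1 (Finsupp.ext h'))
        refine ⟨i, mul_right_cancel₀ hi ?_⟩
        have h1 : ρ (g ^ j.val) v = ∑ k, (B.repr v k * ZMod.stdAddChar (j * a k)) • B k := by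
          conv_lhs => rw [← B.sum_repr v]
          rw [map_sum]
          exact Finset.sum_congr rfl fun k _ => by rw [map_smul, hjB, smul_smul]
        have h2 := congrArg (fun w => B.repr w i) (h1.symm.trans hv)
        simp only [B.repr_sum_self, map_smul, Finsupp.smul_apply, smul_eq_mul] at h2
        rw [← h2, mul_comm]
      rw [hi, show j * a i = s + (j * a i - s) by ring, AddChar.map_add_eq_mul, ← mul_sub, norm_mul,
        AddChar.norm_apply, one_mul]
      exact norm_arc_le (hs _ (by fin_cases i <;> simp))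
    have h1 := orderOf_dvd_of_pow_eq_one (hcen _ (pow_mem hgP _) hc)
    rw [hgo] at h1
    have := ZMod.val_lt j
    rcases Nat.eq_zero_or_pos j.val with h0 | h0
    · exact hj ((ZMod.val_eq_zero j).1 h0)
    · have := Nat.le_of_dvd h0 h1
      omega

/-- In degree three the Sylow subgroup has order five modulo the centre, unless it is normal. -/
theorem sqBound_three : SqBound.{u} 5 3 := by
  intro G _ _ ρ hρ hirr hG
  haveI := hirr
  obtain ⟨N, hN, τ, hτ, hτi, hτn, hτZ, hind⟩ := exists_twist ρ hρ (by norm_num) hG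
  haveI := hτi
  intro h
  exact not_sq_dvd_three τ hτ hτn hτZ ((hind ▸ h).trans (Subgroup.index_dvd_card _))

end Cfsg.Agent.Feit
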