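import Cfsg.Agent.Lib.Feit.ConjSum
import Cfsg.Agent.Lib.Feit.HalfData
import Cfsg.Agent.Lib.Feit.ThreeIndex
import Cfsg.Agent.Lib.Feit.Cases

/-!
The half cores in degree three at the prime five and in degree four at the prime seven.
-/

set_option autoImplicit false
set_option linter.unusedSectionVars false
set_option linter.style.haveILetI false

namespace Cfsg.Agent.Feit

open Cfsg Module SmallDim SmallDeg16
open Cfsg.Agent.Char Cfsg.Agent.Blocks Cfsg.Agent.CCSylow Cfsg.Agent.DefOne

universe u

/-- The squares miss the negatives of the cube roots of unity modulo seven. -/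
theorem roots_seven : ∀ j : ZMod 7, IsSquare j → (-j) ^ 3 ≠ 1 := by decide

/-- The non-zero squares modulo five. -/
theorem squares_five :
    ((Finset.univ : Finset (ZMod 5)).filter fun k => IsSquare k ∧ k ≠ 0).card = 2 := by decide

/-- Three values covering the squares are squares. -/
theorem three_squares : ∀ a b c : ZMod 5, (∀ j : ZMod 5, IsSquare j → j = a ∨ j = b ∨ j = c) →
    IsSquare a ∧ IsSquare b ∧ IsSquare c := by decide

/-- The inverse of a square is a square. -/
theorem square_of_mul_eq_one : ∀ n m : ZMod 5, IsSquare m → n * m = 1 → IsSquare n := by decide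

section Seven

variable {L : Type u} [Group L] [Finite L]

set_option maxHeartbeats 800000 in
/-- The half core in degree four at the prime seven. -/
theorem half_seven (hcore : Core 7 L) (ρ : Representation ℂ L (Fin 4 → ℂ)) [ρ.IsIrreducible]
    (hρ : Function.Injective ρ) : ∃ x : L, HalfCore 7 4 ρ x := by
  classical
  haveI : Fintype L := Fintype.ofFinite L
  haveI : Fact (Nat.Prime 7) := ⟨hcore.prime⟩
  obtain ⟨P⟩ : Nonempty (Sylow 7 L) := inferInstance
  have hP := card_sylow hcore P
  obtain ⟨V, e, K, -⟩ := exists_conf hcore.prime P hP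
  haveI : Fintype ((P : Subgroup L) →* ℂˣ) := Fintype.ofFinite _
  obtain ⟨M, hM⟩ := exists_isPModular_witness 7
  haveI := IsPModular.isPrime hM
  obtain ⟨hde, b, C, E⟩ := exists_exc K hcore hM (by norm_num) (by norm_num) ρ hρ
    ⟨ρ.character, isIrrCharacter_of_rep ρ⟩ rfl
  obtain rfl : e = 3 := by omega
  set y : L := (C.y : L) with hy
  have hy7 : y ^ 7 = 1 := congrArg Subtype.val C.pow
  have hy1 : y ≠ 1 := fun h => by
    have h1 := C.val
    rw [show C.y = 1 from Subtype.ext h, map_one, Units.val_one] at h1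
    exact one_ne_zero (ZMod.injective_stdAddChar ((AddChar.map_zero_eq_one _).trans h1)).symm
  have hyo : orderOf y = 7 := orderOf_eq_prime hy7 hy1
  refine ⟨y⁻¹, Or.inr ⟨rfl, rfl⟩, hρ, inferInstance, hcore.perf, hcore.sq, hcore.norm,
    by rw [orderOf_inv, hyo], fun c hc => ?_, fun j hj => ?_⟩
  · have hcy : c ∈ Subgroup.centralizer ({y} : Set L) := by
      rw [Subgroup.mem_centralizer_singleton_iff]
      simpa using (show Commute c y⁻¹ from hc).inv_right.eq
    rw [centralizer_singleton_eq hcore.prime hP C.y.2 hy1] at hcy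
    obtain ⟨z, hz, v, hv, rfl⟩ := (K.hC c).1 hcy
    obtain ⟨i, hi⟩ := C.surj ⟨z, hz⟩
    refine ⟨(-i).val, v, E.center ▸ hv, ?_⟩
    congr 1
    have hi' : y ^ i.val = z := congrArg Subtype.val hi
    rw [← hi', inv_pow, eq_inv_iff_mul_eq_one, ← pow_add, pow_eq_pow_mod _ hy7, ← ZMod.val_add,
      add_neg_cancel, ZMod.val_zero, pow_zero]
  · -- the projection on the eigenspace
    have ha : aJ 7 3 1 (-j) = 1 := by
      rw [aJ, inv_one, mul_one, if_neg (roots_seven j hj)]
    set f : ZMod 7 → ℂ := fun i => ZMod.stdAddChar (i * j) with hf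
    set Pr : Module.End ℂ (Fin 4 → ℂ) := ∑ i : ZMod 7, f i • ρ (C.el i : L) with hPr
    have htr : LinearMap.trace ℂ _ Pr = 7 := by
      rw [hPr, map_sum]
      simp only [map_smul, smul_eq_mul]
      have hval : ∀ i, LinearMap.trace ℂ _ (ρ (C.el i : L)) =
          ∑ m : ZMod 7, (aJ 7 3 1 m : ℂ) * ZMod.stdAddChar (i * m) := fun i => E.mz i
      simp only [hval, Finset.mul_sum]
      rw [Finset.sum_comm]
      have key : ∀ m : ZMod 7, ∑ i : ZMod 7, f i * ((aJ 7 3 1 m : ℂ) * ZMod.stdAddChar (i * m)) =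
          (aJ 7 3 1 m : ℂ) * (if j + m = 0 then (7 : ℂ) else 0) := fun m => by
        rw [Finset.sum_congr rfl (g := fun i => (aJ 7 3 1 m : ℂ) * ZMod.stdAddChar (i * (j + m)))
          fun i _ => by rw [hf, mul_add, AddChar.map_add_eq_mul]; ring, ← Finset.mul_sum,
          AddChar.sum_mulShift (j + m) (ZMod.isPrimitive_stdAddChar 7), ZMod.card]
        push_cast
        rfl
      rw [Finset.sum_congr rfl fun m _ => key m, Finset.sum_eq_single (-j)]
      · rw [ha, if_pos (add_neg_cancel j)]; norm_num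
      · intro m _ hm
        rw [if_neg fun e => hm (eq_neg_of_add_eq_zero_right e), mul_zero]
      · exact fun h => absurd (Finset.mem_univ _) h
    obtain ⟨w, hw⟩ : ∃ w, Pr w ≠ 0 := by
      by_contra h
      push Not at h
      rw [show Pr = 0 from LinearMap.ext h, map_zero] at htr
      norm_num at htr
    refine ⟨Pr w, hw, ?_⟩
    have hmul : ρ y⁻¹ * Pr = ZMod.stdAddChar j • Pr := by
      rw [hPr, Finset.mul_sum, Finset.smul_sum]
      refine Fintype.sum_equiv (Equiv.subRight 1) _ _ fun i => ?_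
      rw [mul_smul_comm, ← map_mul, Equiv.subRight_apply, smul_smul, hf,
        ← AddChar.map_add_eq_mul, show j + (i - 1) * j = i * j by ring]
      congr 2
      rw [hy, inv_mul_eq_iff_eq_mul, show C.el i = C.y * C.el (i - 1) by
        conv_lhs => rw [show i = 1 + (i - 1) by ring, C.el_add]
        rw [show C.el 1 = C.y by rw [Coord.el, ZMod.val_one, pow_one]], Subgroup.coe_mul]
    rw [← Module.End.mul_apply, hmul, LinearMap.smul_apply]

end Seven

section Five

/-- The exponents of three eigenvalues of product one. -/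
theorem squares_of_three : ∀ a b c : ZMod 5, a ≠ b → a ≠ c → b ≠ c → a + b + c = 0 →
    ∃ k : ZMod 5, k ≠ 0 ∧ ∀ j : ZMod 5, IsSquare j → j = k * a ∨ j = k * b ∨ j = k * c := by
  decide

variable {G : Type u} [Group G] [Finite G] [hpF : Fact (Nat.Prime 5)]

set_option maxHeartbeats 800000 in
/-- The centraliser of the element with three eigenvalues. -/
theorem cent_five (ρ : Representation ℂ G (Fin 3 → ℂ)) [ρ.IsIrreducible]
    (hρ : Function.Injective ρ) (hsq : ¬ 5 ^ 2 ∣ Nat.card G) {x : G} (hx : orderOf x = 5)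
    (heig : ∀ j : ZMod 5, IsSquare j → ∃ v : Fin 3 → ℂ, v ≠ 0 ∧ ρ x v = ZMod.stdAddChar j • v)
    (hexp : ∀ (u : G) (k : ℕ), u * x * u⁻¹ = x ^ k → IsSquare (k : ZMod 5))
    (hsimple : ∀ μ, finrank ℂ (Module.End.eigenspace (ρ x) μ) ≤ 1) {c : G} (hc : c * x = x * c) :
    ∃ i : ℕ, ∃ z ∈ Subgroup.center G, c = x ^ i * z := by
  classical
  haveI : Fintype G := Fintype.ofFinite G
  have hx5 : x ^ 5 = 1 := by rw [← hx, pow_orderOf_eq_one]
  let en : {j : ZMod 5 // IsSquare j} ≃ Fin 3 := Fintype.equivFinOfCardEq card_squares_five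
  choose v hv0 hv using fun i : Fin 3 => heig (en.symm i).1 (en.symm i).2
  have hind : LinearIndependent ℂ v := Module.End.eigenvectors_linearIndependent' (ρ x)
    (fun i => ZMod.stdAddChar ((en.symm i).1))
    (ZMod.injective_stdAddChar.comp (Subtype.val_injective.comp en.symm.injective)) v fun i =>
      Module.End.hasEigenvector_iff.2 ⟨Module.End.mem_eigenspace_iff.2 (hv i), hv0 i⟩
  let B := basisOfLinearIndependentOfCardEqFinrank hind (by simp)
  have hB : ∀ i, B i = v i := fun i => by simp [B]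
  set D : Subgroup G := Subgroup.centralizer ({x} : Set G) with hD
  have hl : ∀ (d : D) (i : Fin 3), ∃ l : ℂ, ρ (d : G) (v i) = l • v i := fun d i =>
    scalar_on_line ρ (show Commute x (d : G) from
      (Subgroup.mem_centralizer_singleton_iff.1 d.2).symm) (hsimple _) (hv i) (hv0 i)
  choose l hl using hl
  let lh : Fin 3 → (D →* ℂ) := fun i =>
    { toFun := fun d => l d i
      map_one' := smul_left_injective ℂ (hv0 i) (by
        show l 1 i • v i = (1 : ℂ) • v i
        rw [← hl, OneMemClass.coe_one, map_one, Module.End.one_apply, one_smul])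
      map_mul' := fun a b => smul_left_injective ℂ (hv0 i) (by
        show l (a * b) i • v i = (l a i * l b i) • v i
        rw [← hl, Subgroup.coe_mul, map_mul, Module.End.mul_apply, hl, map_smul, hl, smul_smul,
          mul_comm]) }
  have hχ : ∀ d : D, ρ.character (d : G) = ∑ i, l d i := fun d => by
    rw [Representation.character, LinearMap.trace_eq_matrix_trace ℂ B, Matrix.trace]
    refine Finset.sum_congr rfl fun i _ => ?_
    rw [Matrix.diag_apply, LinearMap.toMatrix_apply, hB, hl, map_smul, ← hB, B.repr_self]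
    simp
  have hDc : ∀ a b : D, a * b = b * a := fun a b => Subtype.ext (hρ (B.ext fun i => by
    rw [hB, Subgroup.coe_mul, Subgroup.coe_mul, map_mul, map_mul, Module.End.mul_apply,
      Module.End.mul_apply]
    simp only [hl, map_smul]
    exact smul_comm _ _ _))
  have hxD : x ∈ D := Subgroup.mem_centralizer_singleton_iff.2 rfl
  obtain ⟨n, hn⟩ : 5 ∣ Nat.card D := hx ▸ Subgroup.orderOf_dvd_natCard D hxD
  have hn5 : ¬ 5 ∣ n := fun ⟨q, hq⟩ => hsq (dvd_trans ⟨q, by rw [hn, hq]; ring⟩
    (Subgroup.card_subgroup_dvd_card D))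
  have hco : Nat.Coprime 5 n := (hpF.out.coprime_iff_not_dvd).2 hn5
  letI : CommGroup D := { (inferInstance : Group D) with mul_comm := hDc }
  set C0 : Subgroup D := (powMonoidHom n : D →* D).ker with hC0
  -- every element is a power of `x` times an element of the complement
  haveI : Fintype D := Fintype.ofFinite D
  haveI : Fintype C0 := Fintype.ofFinite C0
  set g : ZMod 5 × C0 → G := fun t => x ^ t.1.val * ((t.2 : D) : G) with hg
  have hC0n : ∀ c : C0, ((c : D) : G) ^ n = 1 := fun c => by
    have h := congrArg Subtype.val (show (c : D) ^ n = 1 from MonoidHom.mem_ker.1 c.2)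
    simpa using h
  have hcm : ∀ (k : ℕ) (c : C0), Commute (x ^ k) ((c : D) : G) := fun k c =>
    ((show Commute x ((c : D) : G) from
      (Subgroup.mem_centralizer_singleton_iff.1 (c : D).2).symm).pow_left k)
  have hgn : ∀ t, g t ^ n = x ^ (t.1.val * n) := fun t => by
    rw [hg, (hcm _ _).mul_pow, hC0n, mul_one, ← pow_mul]
  have hginj : Function.Injective g := by
    rintro ⟨i, a⟩ ⟨j, b⟩ h
    have h1 := congrArg (fun w => w ^ n) h
    simp only [hgn] at h1
    rw [pow_inj_mod, hx] at h1
    have h2 : ((i.val * n : ℕ) : ZMod 5) = ((j.val * n : ℕ) : ZMod 5) :=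
      (ZMod.natCast_eq_natCast_iff' _ _ _).2 h1
    rw [Nat.cast_mul, Nat.cast_mul, ZMod.natCast_zmod_val, ZMod.natCast_zmod_val] at h2
    obtain rfl : i = j := mul_right_cancel₀ (fun e => hn5 ((ZMod.natCast_eq_zero_iff _ _).1 e)) h2
    exact Prod.ext rfl (Subtype.ext (Subtype.ext (mul_left_cancel h)))
  set M := (Finset.univ : Finset G).filter fun u => ∃ k : ℕ, u * x * u⁻¹ = x ^ k with hM
  have hMem : ∀ u (i j : {t : ZMod 5 × C0 // t.1 ≠ 0}), u * g i.1 * u⁻¹ = g j.1 → u ∈ M := by
    intro u i j h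
    refine Finset.mem_filter.2 ⟨Finset.mem_univ _, ?_⟩
    have h1 := congrArg (fun w => w ^ n) h
    simp only [conj_pow, hgn] at h1
    obtain ⟨r, hr⟩ : ∃ r, (x ^ (i.1.1.val * n)) ^ r = x := by
      have hcop : Nat.Coprime (i.1.1.val * n) 5 := by
        refine Nat.Coprime.mul_left ?_ hco.symm
        refine Nat.Coprime.symm ((hpF.out.coprime_iff_not_dvd).2 fun h5 => i.2 ?_)
        rw [← ZMod.natCast_zmod_val i.1.1, ZMod.natCast_eq_zero_iff]
        exact h5
      obtain ⟨r, hr⟩ := exists_pow_eq_self_of_coprime (by rwa [hx] : (i.1.1.val * n).Coprime (orderOf x))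
      exact ⟨r, hr⟩
    refine ⟨j.1.1.val * n * r, ?_⟩
    conv_lhs => rw [← hr]
    rw [← conj_pow, h1, ← pow_mul]
  have hbound := conj_sum_le (fun w => Complex.normSq (ρ.character w))
    (fun w => Complex.normSq_nonneg _) (fun a w => by rw [ρ.char_conj])
    (fun t : {t : ZMod 5 × C0 // t.1 ≠ 0} => g t.1) (hginj.comp Subtype.val_injective) M hMem
  -- the total is less than the order
  set Y := (Finset.univ : Finset (G × {t : ZMod 5 × C0 // t.1 ≠ 0})).image
    fun t => t.1 * g t.2.1 * t.1⁻¹ with hY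
  have htot : ∑ w ∈ Y, Complex.normSq (ρ.character w) < (Nat.card G : ℝ) := by
    have hself : ∑ w, Complex.normSq (ρ.character w) = (Nat.card G : ℝ) := by
      have h1 := classInner_self_irr (isIrrCharacter_of_rep ρ)
      rw [classInner, inv_mul_eq_one₀ (Nat.cast_ne_zero.2 Nat.card_pos.ne')] at h1
      apply Complex.ofReal_injective
      rw [Complex.ofReal_sum, Complex.ofReal_natCast, h1]
      exact Finset.sum_congr rfl fun w _ => (Complex.mul_conj _).symm
    rw [← hself]
    refine Finset.sum_lt_sum_of_subset (Finset.subset_univ Y) (i := (1 : G)) (Finset.mem_univ _) ?_ ?_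
      fun w _ _ => Complex.normSq_nonneg _
    · intro h1
      obtain ⟨⟨a, t⟩, -, h2⟩ := Finset.mem_image.1 h1
      rw [conj_eq_one_iff] at h2
      have h3 : g t.1 = g (0, 1) := by rw [h2]; simp [hg]
      exact t.2 (congrArg Prod.fst (hginj h3))
    · rw [Representation.char_one, Module.finrank_fin_fun]
      norm_num
  have hMcard : (M.card : ℝ) ≤ 2 * (Nat.card D : ℝ) := by
    have h1 := card_normalising_le hx5 ((Finset.univ : Finset (ZMod 5)).filter fun k => IsSquare k ∧ k ≠ 0)
      fun u k hu => Finset.mem_filter.2 ⟨Finset.mem_univ _, hexp u k hu, fun e => by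
        rw [ZMod.natCast_eq_zero_iff] at e
        rw [orderOf_dvd_iff_pow_eq_one.1 (hx.symm ▸ e : orderOf x ∣ k), conj_eq_one_iff] at hu
        rw [hu, orderOf_one] at hx
        norm_num at hx⟩
    have h2 : ((Finset.univ : Finset (ZMod 5)).filter fun k => IsSquare k ∧ k ≠ 0).card = 2 := by
      convert squares_five
    have h3 : ((Finset.univ : Finset G).filter fun c => c * x = x * c).card = Nat.card D := by
      rw [Nat.card_eq_fintype_card, Fintype.card_subtype]
      exact congrArg Finset.card (Finset.filter_congr fun w _ => by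
        rw [hD, Subgroup.mem_centralizer_singleton_iff])
    rw [h2, h3] at h1
    exact_mod_cast h1
  have hfin : ∑ t : {t : ZMod 5 × C0 // t.1 ≠ 0}, Complex.normSq (ρ.character (g t.1)) <
      2 * (Nat.card D : ℝ) := by
    have hG : (0 : ℝ) < Nat.card G := by exact_mod_cast Nat.card_pos
    have hYnn : (0 : ℝ) ≤ ∑ w ∈ Y, Complex.normSq (ρ.character w) :=
      Finset.sum_nonneg fun w _ => Complex.normSq_nonneg _
    have hDpos : (0 : ℝ) < Nat.card D := by exact_mod_cast Nat.card_pos
    have h1 := hbound.trans (mul_le_mul_of_nonneg_right hMcard hYnn)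
    refine lt_of_mul_lt_mul_left (a := (Nat.card G : ℝ)) (lt_of_le_of_lt h1 ?_) hG.le
    rw [mul_comm (Nat.card G : ℝ)]
    exact mul_lt_mul_of_pos_left htot (by positivity)
  -- orthogonality on the whole centraliser and on the complement
  have hsumabs : ∀ {H : Type u} [Group H] [Fintype H] (f : Fin 3 → H →* ℂ),
      (∀ h i, ‖f i h‖ = 1) →
      ∑ h : H, Complex.normSq (∑ i, f i h) =
        (Fintype.card H : ℝ) * ((Finset.univ : Finset (Fin 3 × Fin 3)).filter fun q => f q.1 = f q.2).card := by
    intro H _ _ f hf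
    apply Complex.ofReal_injective
    rw [Complex.ofReal_sum]
    have hh : ∀ h : H, (Complex.normSq (∑ i, f i h) : ℂ) =
        ∑ q : Fin 3 × Fin 3, f q.1 h * (starRingEnd ℂ) (f q.2 h) := fun h => by
      rw [← Complex.mul_conj, map_sum, Finset.sum_mul_sum, Fintype.sum_prod_type]
    rw [Finset.sum_congr rfl fun h _ => hh h, Finset.sum_comm]
    have hq : ∀ q : Fin 3 × Fin 3, ∑ h : H, f q.1 h * (starRingEnd ℂ) (f q.2 h) =
        if f q.1 = f q.2 then (Fintype.card H : ℂ) else 0 := by
      intro q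
      let φ : H →* ℂ :=
        { toFun := fun h => f q.1 h * (starRingEnd ℂ) (f q.2 h)
          map_one' := by simp
          map_mul' := fun a b => by simp only [map_mul]; ring }
      have h1 : ∀ h, f q.2 h * (starRingEnd ℂ) (f q.2 h) = 1 := fun h => by
        rw [Complex.mul_conj', hf]; simp
      split_ifs with e
      · rw [Finset.sum_congr rfl (g := fun _ => (1 : ℂ)) fun h _ => by rw [e, h1]]
        simp
      · refine sum_hom_units_eq_zero φ fun hφ => e (MonoidHom.ext fun h => ?_)
        have h2 : f q.1 h * (starRingEnd ℂ) (f q.2 h) = 1 := DFunLike.congr_fun hφ h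
        calc f q.1 h = f q.1 h * (f q.2 h * (starRingEnd ℂ) (f q.2 h)) := by rw [h1, mul_one]
          _ = f q.2 h * (f q.1 h * (starRingEnd ℂ) (f q.2 h)) := by ring
          _ = f q.2 h := by rw [h2, mul_one]
    rw [Finset.sum_congr rfl fun q _ => hq q, Finset.sum_ite, Finset.sum_const_zero, add_zero,
      Finset.sum_const, nsmul_eq_mul]
    push_cast
    ring
  have hnorm : ∀ (d : D) i, ‖lh i d‖ = 1 := fun d i =>
    Complex.norm_eq_one_of_pow_eq_one (n := orderOf d)
      (by rw [← map_pow, pow_orderOf_eq_one, map_one]) (orderOf_pos d).ne'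
  have hS0 := hsumabs (fun i => (lh i).comp C0.subtype) fun h i => hnorm _ i
  -- the sum over all elements
  have hgbij : Function.Bijective fun t : ZMod 5 × C0 =>
      (⟨g t, D.mul_mem (pow_mem hxD _) (t.2 : D).2⟩ : D) := by
    refine ⟨fun a b h => hginj (congrArg Subtype.val h), fun d => ?_⟩
    obtain ⟨r, hr⟩ : ∃ r : ℕ, (r : ZMod 5) * n = 1 := by
      refine ⟨((n : ZMod 5)⁻¹).val, ?_⟩
      rw [ZMod.natCast_zmod_val, inv_mul_cancel₀ fun e => hn5 ((ZMod.natCast_eq_zero_iff _ _).1 e)]
    -- the fifth part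
    have hd5 : ((d : G) ^ n) ^ 5 = 1 := by
      rw [← pow_mul, mul_comm, ← hn]
      exact congrArg Subtype.val (pow_card_eq_one' (x := d))
    have hD5 : ∀ w ∈ D, w ^ 5 = 1 → w ∈ Subgroup.zpowers x := by
      intro w hw hw5
      have hN : (Subgroup.zpowers (⟨x, hxD⟩ : D)).Normal := ⟨fun a ha b => by
        rwa [hDc b a, mul_inv_cancel_right]⟩
      have hidx : ¬ 5 ∣ (Subgroup.zpowers (⟨x, hxD⟩ : D)).index := by
        intro h5
        have hm := Subgroup.card_mul_index (Subgroup.zpowers (⟨x, hxD⟩ : D))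
        rw [Nat.card_zpowers, ← Subgroup.orderOf_coe, hx, hn] at hm
        exact hn5 (Nat.eq_of_mul_eq_mul_left (by norm_num) hm ▸ h5)
      obtain ⟨i, hi⟩ := Subgroup.mem_zpowers_iff.1
        (mem_of_not_dvd_index hidx (show (⟨w, hw⟩ : D) ^ 5 = 1 from Subtype.ext hw5))
      exact Subgroup.mem_zpowers_iff.2 ⟨i, by simpa using congrArg Subtype.val hi⟩
    obtain ⟨k, hk⟩ : ∃ k : ℕ, x ^ k = (d : G) ^ n := by
      have := hD5 _ (pow_mem d.2 n) hd5
      exact (isOfFinOrder_of_finite x).mem_powers_iff_mem_zpowers.2 this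
    set i : ZMod 5 := (k : ZMod 5) * r with hi
    have hcmd : Commute x (d : G) := (Subgroup.mem_centralizer_singleton_iff.1 d.2).symm
    have hmem : (⟨(x ^ i.val)⁻¹ * (d : G), D.mul_mem (D.inv_mem (pow_mem hxD _)) d.2⟩ : D) ∈ C0 := by
      rw [hC0, MonoidHom.mem_ker]
      refine Subtype.ext ?_
      show ((x ^ i.val)⁻¹ * (d : G)) ^ n = 1
      rw [((hcmd.pow_left i.val).inv_left).mul_pow, inv_pow, ← hk, inv_mul_eq_one, ← pow_mul,
        pow_inj_mod, hx, ← ZMod.natCast_eq_natCast_iff', Nat.cast_mul, ZMod.natCast_zmod_val, hi,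
        mul_assoc, hr, mul_one]
    exact ⟨(i, ⟨_, hmem⟩), Subtype.ext (by simp [hg])⟩
  have hsumD := hsumabs lh hnorm
  -- all three characters agree on the complement
  have hall : ∀ c : C0, ∀ i i', l (c : D) i = l (c : D) i' := by
    have h9 : ((Finset.univ : Finset (Fin 3 × Fin 3)).filter
        fun q => (lh q.1).comp C0.subtype = (lh q.2).comp C0.subtype).card > 5 := by
      have hsplit : ∑ t : {t : ZMod 5 × C0 // t.1 ≠ 0}, Complex.normSq (ρ.character (g t.1)) =
          ∑ d : D, Complex.normSq (∑ i, lh i d) -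
            ∑ c : C0, Complex.normSq (∑ i, lh i (c : D)) := by
        have h1 : ∑ d : D, Complex.normSq (∑ i, lh i d) =
            ∑ t : ZMod 5 × C0, Complex.normSq (ρ.character (g t)) :=
          (Fintype.sum_bijective _ hgbij _ _ fun t => congrArg Complex.normSq
            (hχ ⟨g t, D.mul_mem (pow_mem hxD _) (t.2 : D).2⟩)).symm
        rw [h1, ← Fintype.sum_subtype_add_sum_subtype (fun t : ZMod 5 × C0 => t.1 ≠ 0), eq_sub_iff_add_eq]
        congr 1
        let em : {t : ZMod 5 × C0 // ¬ t.1 ≠ 0} ≃ C0 :=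
          { toFun := fun t => t.1.2
            invFun := fun c => ⟨(0, c), fun h => h rfl⟩
            left_inv := fun t => Subtype.ext (Prod.ext (not_not.1 t.2).symm rfl)
            right_inv := fun _ => rfl }
        refine (Fintype.sum_equiv em _ _ fun t => ?_).symm
        show Complex.normSq (ρ.character (g t.1)) = Complex.normSq (∑ i, lh i (t.1.2 : D))
        rw [hg]
        simp only [not_not.1 t.2, ZMod.val_zero, pow_zero, one_mul]
        exact congrArg Complex.normSq (hχ (t.1.2 : D))
      have hDn : (Fintype.card D : ℝ) = 5 * Fintype.card C0 := by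
        have h1 := Fintype.card_of_bijective hgbij
        rw [Fintype.card_prod, ZMod.card] at h1
        exact_mod_cast h1.symm
      have h3 : 3 ≤ ((Finset.univ : Finset (Fin 3 × Fin 3)).filter fun q => lh q.1 = lh q.2).card := by
        refine le_trans (show 3 ≤ ((Finset.univ : Finset (Fin 3)).image fun i => (i, i)).card by decide)
          (Finset.card_le_card ?_)
        intro q hq
        obtain ⟨i, -, rfl⟩ := Finset.mem_image.1 hq
        simp
      replace hfin := lt_of_eq_of_lt hsplit.symm hfin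
      rw [hsumD, hDn, Nat.card_eq_fintype_card, hDn] at hfin
      have hS0' : ∑ c : C0, Complex.normSq (∑ i, lh i (c : D)) = (Fintype.card C0 : ℝ) *
          ((Finset.univ : Finset (Fin 3 × Fin 3)).filter
            fun q => (lh q.1).comp C0.subtype = (lh q.2).comp C0.subtype).card := hS0
      rw [hS0'] at hfin
      have hC0pos : (0 : ℝ) < Fintype.card C0 := by exact_mod_cast Fintype.card_pos
      have h3' : (3 : ℝ) ≤ ((Finset.univ : Finset (Fin 3 × Fin 3)).filter
          fun q => lh q.1 = lh q.2).card := by exact_mod_cast h3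
      by_contra hle
      push Not at hle
      have hle' : (((Finset.univ : Finset (Fin 3 × Fin 3)).filter
          fun q => (lh q.1).comp C0.subtype = (lh q.2).comp C0.subtype).card : ℝ) ≤ 5 := by
        exact_mod_cast hle
      nlinarith
    intro c i i'
    by_contra hne
    -- two different characters leave at most five coincidences
    set R : Finset (Fin 3 × Fin 3) := (Finset.univ : Finset (Fin 3 × Fin 3)).filter
      fun q => (lh q.1).comp C0.subtype = (lh q.2).comp C0.subtype
    have hii : (lh i).comp C0.subtype ≠ (lh i').comp C0.subtype := fun e =>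
      hne (DFunLike.congr_fun e c)
    obtain ⟨k, hk⟩ : ∃ k : Fin 3, k ≠ i ∧ k ≠ i' := by
      have : i ≠ i' := fun e => hii (by rw [e])
      revert this; clear_value lh; clear * -
      revert i i'; decide
    have hk2 : (lh k).comp C0.subtype ≠ (lh i).comp C0.subtype ∨
        (lh k).comp C0.subtype ≠ (lh i').comp C0.subtype := by
      by_contra h
      push Not at h
      exact hii (h.1.symm.trans h.2)
    have hsub : ∀ q ∈ R, q ≠ (i, i') ∧ q ≠ (i', i) ∧
        ((q ≠ (k, i) ∧ q ≠ (i, k)) ∨ (q ≠ (k, i') ∧ q ≠ (i', k))) := by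
      intro q hq
      have hq' := (Finset.mem_filter.1 hq).2
      refine ⟨fun e => hii (by rw [e] at hq'; exact hq'), fun e => hii (by rw [e] at hq'; exact hq'.symm), ?_⟩
      rcases hk2 with h | h
      · exact Or.inl ⟨fun e => h (by rw [e] at hq'; exact hq'), fun e => h (by rw [e] at hq'; exact hq'.symm)⟩
      · exact Or.inr ⟨fun e => h (by rw [e] at hq'; exact hq'), fun e => h (by rw [e] at hq'; exact hq'.symm)⟩
    have : R.card ≤ 5 := by
      rcases hk2 with h | h
      · refine (Finset.card_le_card (t := (Finset.univ : Finset (Fin 3 × Fin 3)).filter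
          fun q => q ≠ (i, i') ∧ q ≠ (i', i) ∧ q ≠ (k, i) ∧ q ≠ (i, k)) fun q hq => ?_).trans ?_
        · have hq' := (Finset.mem_filter.1 hq).2
          exact Finset.mem_filter.2 ⟨Finset.mem_univ _, (hsub q hq).1, (hsub q hq).2.1,
            fun e => h (by rw [e] at hq'; exact hq'), fun e => h (by rw [e] at hq'; exact hq'.symm)⟩
        · have h1 := hk; have h2 : i ≠ i' := fun e => hii (by rw [e])
          revert h1 h2; clear * -
          revert i i' k; decide
      · refine (Finset.card_le_card (t := (Finset.univ : Finset (Fin 3 × Fin 3)).filter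
          fun q => q ≠ (i, i') ∧ q ≠ (i', i) ∧ q ≠ (k, i') ∧ q ≠ (i', k)) fun q hq => ?_).trans ?_
        · have hq' := (Finset.mem_filter.1 hq).2
          exact Finset.mem_filter.2 ⟨Finset.mem_univ _, (hsub q hq).1, (hsub q hq).2.1,
            fun e => h (by rw [e] at hq'; exact hq'), fun e => h (by rw [e] at hq'; exact hq'.symm)⟩
        · have h1 := hk; have h2 : i ≠ i' := fun e => hii (by rw [e])
          revert h1 h2; clear * -
          revert i i' k; decide
    omega
  obtain ⟨⟨i, c₀⟩, hic⟩ := hgbij.2 ⟨c, Subgroup.mem_centralizer_singleton_iff.2 hc⟩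
  refine ⟨i.val, ((c₀ : D) : G), ?_, (congrArg Subtype.val hic).symm⟩
  refine mem_center_of_scalar ρ hρ (c := l (c₀ : D) 0) fun w => ?_
  have h : ρ ((c₀ : D) : G) = l (c₀ : D) 0 • LinearMap.id := B.ext fun j => by
    rw [hB, LinearMap.smul_apply, LinearMap.id_apply, hl, hall c₀ j 0]
  rw [h]; rfl

/-- The half core in degree three at the prime five. -/
theorem exists_half_five (ρ : Representation ℂ G (Fin 3 → ℂ)) [ρ.IsIrreducible]
    (hρ : Function.Injective ρ) (P : Sylow 5 G) (hP : ¬ (P : Subgroup G).Normal) :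
    ∃ L : Subgroup G, L.Normal ∧ ∃ x : L,
      HalfCore 5 3 (MonoidHom.comp ρ L.subtype : Representation ℂ L (Fin 3 → ℂ)) x := by
  haveI : Fintype G := Fintype.ofFinite G
  have hG : ¬ PNormal 5 G := fun h => hP (h P)
  have hind := sqBound_three G ρ hρ inferInstance hG
  obtain ⟨x, hx⟩ := exists_prime_orderOf_dvd_card' 5
    (dvd_commutator_of_not_pnormal ρ hρ (by norm_num) hG)
  have hxo : orderOf (x : G) = 5 := by rw [Subgroup.orderOf_coe, hx]
  have hxc := not_mem_center_of_derived ρ hρ (by norm_num) hxo x.2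
  obtain ⟨hsq, -⟩ := exists_derived_element ρ hρ (by norm_num) hind hxo hxc
  set L := Subgroup.normalClosure ({(x : G)} : Set G) with hL
  obtain ⟨hperf, hdvd, hsqL, hnorm⟩ := core_fields_normalClosure ρ hρ (by norm_num) hsq x.2 hxo
    (not_normal_zpowers hind P hP hxo hxc)
  refine ⟨L, Subgroup.normalClosure_normal, ?_⟩
  let σ : Representation ℂ L (Fin 3 → ℂ) := MonoidHom.comp ρ L.subtype
  have hσ : Function.Injective σ := hρ.comp L.subtype_injective
  have hLn : ¬ PNormal 5 L := fun h => by
    obtain ⟨Q⟩ : Nonempty (Sylow 5 L) := inferInstance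
    exact Q.not_dvd_index (by
      rw [eq_bot_of_normal_pGroup hperf hsqL hnorm _ (h Q) Q.isPGroup', Subgroup.index_bot]
      exact hdvd)
  haveI : σ.IsIrreducible := (pnormal_or_irreducible ρ hρ (by norm_num) L).resolve_left hLn
  haveI : Fintype L := Fintype.ofFinite L
  set y : L := ⟨(x : G), Subgroup.subset_normalClosure rfl⟩ with hy
  have hyo : orderOf y = 5 := by rw [← Subgroup.orderOf_coe, hy, hxo]
  have hy5 : y ^ 5 = 1 := by rw [← hyo, pow_orderOf_eq_one]
  have hsimple : ∀ μ, finrank ℂ (Module.End.eigenspace (σ y) μ) ≤ 1 := fun μ => by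
    by_contra h
    exact not_mem_center_of_order hperf hsqL hyo
      (mem_center_of_double σ hσ hLn hyo (μ := μ) (by omega))
  obtain ⟨B, l, hl, hB, -⟩ := exists_eigenbasis σ y hsimple
  have hroot : ∀ i, ∃ a : ZMod 5, l i = ZMod.stdAddChar a := fun i => by
    have h := Module.End.mem_eigenspace_iff.1 (eigenspace_le_pow (σ y) (l i) 5
      (Module.End.mem_eigenspace_iff.2 (hB i)))
    rw [← map_pow, hy5, map_one, Module.End.one_apply] at h
    have h1 := (smul_left_injective ℂ (B.ne_zero i) ((one_smul ℂ (B i)).trans h)).symm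
    have hprim : IsPrimitiveRoot (ZMod.stdAddChar (1 : ZMod 5)) 5 := by
      refine IsPrimitiveRoot.iff_orderOf.2 (orderOf_eq_prime (p := 5) ?_ ?_)
      · rw [← AddChar.map_nsmul_eq_pow, nsmul_eq_mul, mul_one, ZMod.natCast_self,
          AddChar.map_zero_eq_one]
      · exact fun e => one_ne_zero (ZMod.injective_stdAddChar
          (e.trans (AddChar.map_zero_eq_one _).symm))
    obtain ⟨a, -, ha⟩ := hprim.eq_pow_of_pow_eq_one h1
    exact ⟨(a : ZMod 5), by rw [← ha, ← AddChar.map_nsmul_eq_pow, nsmul_eq_mul, mul_one]⟩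
  choose a ha using hroot
  have hsum : a 0 + a 1 + a 2 = 0 := by
    have hM : LinearMap.toMatrix B B (σ y) = Matrix.diagonal l := by
      refine Matrix.ext fun i j => ?_
      rw [LinearMap.toMatrix_apply, hB, map_smul, Finsupp.smul_apply, B.repr_self,
        Finsupp.single_apply, Matrix.diagonal_apply]
      by_cases e : i = j
      · subst e; simp
      · rw [if_neg (Ne.symm e), if_neg e, smul_zero]
    have hd : LinearMap.det (σ y) = 1 := det_of_derived σ (hperf ▸ Subgroup.mem_top y)
    rw [← LinearMap.det_toMatrix B, hM, Matrix.det_diagonal, Fin.prod_univ_three, ha, ha, ha,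
      ← AddChar.map_add_eq_mul, ← AddChar.map_add_eq_mul] at hd
    exact ZMod.injective_stdAddChar (hd.trans (AddChar.map_zero_eq_one _).symm)
  have hne : ∀ i j, i ≠ j → a i ≠ a j := fun i j hij e => hij (hl (by rw [ha, ha, e]))
  obtain ⟨k, hk, hsqk⟩ := squares_of_three (a 0) (a 1) (a 2) (hne _ _ (by decide))
    (hne _ _ (by decide)) (hne _ _ (by decide)) hsum
  set z := y ^ k.val with hz
  have hz5 : z ^ 5 = 1 := by rw [hz, ← pow_mul, mul_comm, pow_mul, hy5, one_pow]
  have hzo : orderOf z = 5 := orderOf_eq_prime hz5 fun e => by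
    have h1 := orderOf_dvd_of_pow_eq_one (hz ▸ e : y ^ k.val = 1)
    rw [hyo] at h1
    have := ZMod.val_lt k
    rcases Nat.eq_zero_or_pos k.val with h0 | h0
    · exact hk ((ZMod.val_eq_zero k).1 h0)
    · have := Nat.le_of_dvd h0 h1
      omega
  have hzB : ∀ i, σ z (B i) = ZMod.stdAddChar (k * a i) • B i := fun i => by
    rw [hz, map_pow, Module.End.mem_eigenspace_iff.1 (eigenspace_le_pow (σ y) (l i) k.val
      (Module.End.mem_eigenspace_iff.2 (hB i))), ha, ← AddChar.map_nsmul_eq_pow, nsmul_eq_mul,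
      ZMod.natCast_zmod_val]
  have heig : ∀ j : ZMod 5, IsSquare j →
      ∃ v : Fin 3 → ℂ, v ≠ 0 ∧ σ z v = ZMod.stdAddChar j • v := by
    intro j hj
    rcases hsqk j hj with e | e | e
    · exact ⟨B 0, B.ne_zero 0, e ▸ hzB 0⟩
    · exact ⟨B 1, B.ne_zero 1, e ▸ hzB 1⟩
    · exact ⟨B 2, B.ne_zero 2, e ▸ hzB 2⟩
  have hzsimple : ∀ μ, finrank ℂ (Module.End.eigenspace (σ z) μ) ≤ 1 := fun μ => by
    by_contra h
    exact not_mem_center_of_order hperf hsqL hzo
      (mem_center_of_double σ hσ hLn hzo (μ := μ) (by omega))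
  have hexp : ∀ (u : L) (n : ℕ), u * z * u⁻¹ = z ^ n → IsSquare (n : ZMod 5) := by
    intro u n hu
    obtain ⟨v, hv0, hv⟩ := heig 1 IsSquare.one
    set w := σ u v with hw
    have hw0 : w ≠ 0 := fun e => hv0 (by
      have h' := congrArg (σ u⁻¹) e
      rwa [hw, map_zero, ← Module.End.mul_apply, ← map_mul, inv_mul_cancel, map_one,
        Module.End.one_apply] at h')
    have hzw : σ (z ^ n) w = ZMod.stdAddChar (1 : ZMod 5) • w := by
      rw [hw, ← hu, ← Module.End.mul_apply, ← map_mul, inv_mul_cancel_right, map_mul,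
        Module.End.mul_apply, hv, map_smul]
    obtain ⟨i, hi⟩ : ∃ i, B.repr w i ≠ 0 := by
      by_contra h'
      push Not at h'
      exact hw0 (B.repr.map_eq_zero_iff.1 (Finsupp.ext h'))
    have h1 : σ (z ^ n) w = ∑ m, (B.repr w m * ZMod.stdAddChar ((n : ZMod 5) * (k * a m))) • B m := by
      conv_lhs => rw [← B.sum_repr w]
      rw [map_sum]
      exact Finset.sum_congr rfl fun m _ => by
        rw [map_smul, map_pow, Module.End.mem_eigenspace_iff.1 (eigenspace_le_pow (σ z) _ n
          (Module.End.mem_eigenspace_iff.2 (hzB m))), ← AddChar.map_nsmul_eq_pow, nsmul_eq_mul,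
          smul_smul]
    have h2 := congrArg (fun w => B.repr w i) (h1.symm.trans hzw)
    simp only [B.repr_sum_self, map_smul, Finsupp.smul_apply, smul_eq_mul] at h2
    have h3 : (n : ZMod 5) * (k * a i) = 1 :=
      ZMod.injective_stdAddChar (mul_left_cancel₀ hi (h2.trans (mul_comm _ _)))
    obtain ⟨q0, q1, q2⟩ := three_squares _ _ _ hsqk
    fin_cases i
    · exact square_of_mul_eq_one _ _ q0 h3
    · exact square_of_mul_eq_one _ _ q1 h3
    · exact square_of_mul_eq_one _ _ q2 h3
  exact ⟨z, Or.inl ⟨rfl, rfl⟩, hσ, inferInstance, hperf, hsqL, hnorm, hzo,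
    fun c hc => cent_five σ hσ hsqL hzo heig hexp hzsimple hc, heig⟩

end Five

end Cfsg.Agent.Feit
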