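import Cfsg.Agent.Lib.Feit.HalfData

/-!
The values of the character of a half core do not change under the Galois conjugations fixing its
values at the elements of order divisible by `p`.
-/

set_option autoImplicit false
set_option linter.unusedSectionVars false
set_option linter.style.haveILetI false

namespace Cfsg.Agent.Feit

open Cfsg Module Finset
open scoped ComplexConjugate

universe u

/-- The square norms of the sums over the squares, over all shifts. -/
theorem sum_normSq_squares {p : ℕ} [Fact p.Prime] [NeZero p] :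
    ∑ k : ZMod p, Complex.normSq (∑ j : {j : ZMod p // IsSquare j}, ZMod.stdAddChar (k * j.1)) =
      p * Fintype.card {j : ZMod p // IsSquare j} := by
  classical
  have key : ∀ k : ZMod p,
      (Complex.normSq (∑ j : {j : ZMod p // IsSquare j}, ZMod.stdAddChar (k * j.1)) : ℂ) =
        ∑ a : {j : ZMod p // IsSquare j}, ∑ b : {j : ZMod p // IsSquare j},
          ZMod.stdAddChar (k * (a.1 - b.1)) := fun k => by
    rw [Complex.normSq_eq_conj_mul_self, map_sum, Finset.sum_mul_sum, Finset.sum_comm]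
    refine Finset.sum_congr rfl fun a _ => Finset.sum_congr rfl fun b _ => ?_
    rw [← AddChar.map_neg_eq_conj, ← AddChar.map_add_eq_mul]
    congr 1
    ring
  apply Complex.ofReal_injective
  rw [Complex.ofReal_sum, Finset.sum_congr rfl fun k _ => key k, Finset.sum_comm]
  rw [Finset.sum_congr rfl fun a _ => Finset.sum_comm,
    Finset.sum_congr rfl fun a _ => Finset.sum_congr rfl fun b _ =>
      AddChar.sum_mulShift (a.1 - b.1) (ZMod.isPrimitive_stdAddChar p)]
  simp only [sub_eq_zero, Subtype.val_inj, ZMod.card]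
  simp [Finset.sum_ite_eq, mul_comm]

theorem squares_ne_zero_five :
    2 * (Finset.univ.filter fun k : ZMod 5 => IsSquare k ∧ k ≠ 0).card + 1 = 5 := by decide

theorem squares_ne_zero_seven :
    2 * (Finset.univ.filter fun k : ZMod 7 => IsSquare k ∧ k ≠ 0).card + 1 = 7 := by decide

variable {p d : ℕ} [Fact p.Prime] [NeZero p] {L : Type u} [Group L] [Finite L]
  {ρ : Representation ℂ L (Fin d → ℂ)} {x : L}

namespace HalfCore

variable (h : HalfCore p d ρ x)
include h

set_option maxHeartbeats 800000 in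
/-- A character which is more than half of the norm of `χ` at the singular elements. -/
theorem eq_of_eq_on_singular {ψ : L → ℂ} (hψ : Cfsg.IsIrrCharacter L ψ)
    (hagree : ∀ (a : L) (k : ℕ) (z : L), z ∈ Subgroup.center L → ¬ p ∣ k →
      ψ (a * (x ^ k * z) * a⁻¹) = ρ.character (x ^ k * z)) :
    ψ = ρ.character := by
  classical
  haveI : Fintype L := Fintype.ofFinite L
  haveI := h.irr
  by_contra hne
  set χ : L → ℂ := ρ.character with hχd
  have hχirr : Cfsg.IsIrrCharacter L χ := Char.isIrrCharacter_of_rep ρ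
  have hconj : ∀ a g, χ (a * g * a⁻¹) = χ g := fun a g => ρ.char_conj g a
  have hself : ∀ φ : L → ℂ, Cfsg.IsIrrCharacter L φ →
      ∑ g, Complex.normSq (φ g) = (Nat.card L : ℝ) := fun φ hφ => by
    have h1 := Char.classInner_self_irr hφ
    rw [classInner, inv_mul_eq_one₀ (Nat.cast_ne_zero.2 Nat.card_pos.ne')] at h1
    apply Complex.ofReal_injective
    rw [Complex.ofReal_sum, Complex.ofReal_natCast, h1]
    exact Finset.sum_congr rfl fun g _ => (Complex.mul_conj _).symm
  have horth : ∑ g, χ g * conj (ψ g) = 0 := by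
    have h1 := Char.classInner_irr_of_ne hχirr hψ (fun e => hne e.symm)
    rw [classInner, mul_eq_zero] at h1
    exact h1.resolve_left (inv_ne_zero (Nat.cast_ne_zero.2 Nat.card_pos.ne'))
  -- the singular set
  let T : Finset (L × ZMod p × Subgroup.center L) := Finset.univ.filter fun t => t.2.1 ≠ 0
  let Φ : L × ZMod p × Subgroup.center L → L := fun t =>
    t.1 * (x ^ t.2.1.val * (t.2.2 : L)) * t.1⁻¹
  set Y : Finset L := T.image Φ with hY
  have hYeq : ∀ g ∈ Y, ψ g = χ g := by
    intro g hg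
    obtain ⟨⟨a, k, z⟩, ht, rfl⟩ := Finset.mem_image.1 hg
    show ψ (a * _ * a⁻¹) = χ (a * _ * a⁻¹)
    rw [hconj]
    refine hagree a _ _ z.2 fun hdvd => (Finset.mem_filter.1 ht).2 ?_
    show k = 0
    rw [← ZMod.natCast_zmod_val k, ZMod.natCast_eq_zero_iff]
    exact hdvd
  -- the sum over the singular set is small
  have hupper : 2 * ∑ g ∈ Y, Complex.normSq (χ g) ≤ (Nat.card L : ℝ) := by
    have h1 := congrArg Complex.re horth
    rw [Complex.re_sum, ← Finset.sum_add_sum_compl Y, Complex.zero_re] at h1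
    have h2 : ∑ g ∈ Y, (χ g * conj (ψ g)).re = ∑ g ∈ Y, Complex.normSq (χ g) :=
      Finset.sum_congr rfl fun g hg => by rw [hYeq g hg, Complex.mul_conj, Complex.ofReal_re]
    have h3 : ∀ a b : ℂ, -(2 * (a * conj b).re) ≤ Complex.normSq a + Complex.normSq b := by
      intro a b
      have h4 := Complex.normSq_nonneg (a + b)
      rw [Complex.normSq_add] at h4
      linarith
    have h4 := Finset.sum_le_sum (s := Yᶜ) fun g _ => h3 (χ g) (ψ g)
    rw [Finset.sum_neg_distrib, ← Finset.mul_sum, Finset.sum_add_distrib] at h4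
    have h5 : ∑ g ∈ Y, Complex.normSq (χ g) + ∑ g ∈ Yᶜ, Complex.normSq (χ g) = (Nat.card L : ℝ) :=
      (Finset.sum_add_sum_compl Y _).trans (hself χ hχirr)
    have h6 : ∑ g ∈ Y, Complex.normSq (ψ g) + ∑ g ∈ Yᶜ, Complex.normSq (ψ g) = (Nat.card L : ℝ) :=
      (Finset.sum_add_sum_compl Y _).trans (hself ψ hψ)
    rw [Finset.sum_congr rfl fun g hg => congrArg Complex.normSq (hYeq g hg)] at h6
    linarith
  -- the fibres are small
  set K : Finset (ZMod p) := Finset.univ.filter fun k => IsSquare k ∧ k ≠ 0 with hK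
  set D : Finset L := Finset.univ.filter fun c => c * x = x * c with hD
  have hDcard : D.card ≤ p * Nat.card (Subgroup.center L) := by
    have hsub : D ⊆ (Finset.univ : Finset (ZMod p × Subgroup.center L)).image
        fun t => x ^ t.1.val * (t.2 : L) := by
      intro c hc
      obtain ⟨i, z, hz, rfl⟩ := h.cent c (Finset.mem_filter.1 hc).2
      exact Finset.mem_image.2 ⟨((i : ZMod p), ⟨z, hz⟩), Finset.mem_univ _, by
        show x ^ (i : ZMod p).val * z = _
        rw [ZMod.val_natCast, ← pow_eq_pow_mod _ h.pow_p]⟩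
    refine (Finset.card_le_card hsub).trans (Finset.card_image_le.trans ?_)
    rw [Finset.card_univ, Fintype.card_prod, ZMod.card, Nat.card_eq_fintype_card]
  have hfib : ∀ w : L, (T.filter fun t => Φ t = w).card ≤ K.card * D.card := by
    intro w
    rcases (T.filter fun t => Φ t = w).eq_empty_or_nonempty with he | ⟨⟨a₀, k₀, z₀⟩, ht₀⟩
    · rw [he, Finset.card_empty]; exact Nat.zero_le _
    obtain ⟨ht₀T, hw₀⟩ := Finset.mem_filter.1 ht₀
    have hk₀ : k₀ ≠ 0 := (Finset.mem_filter.1 ht₀T).2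
    have hkey : ∀ t ∈ T.filter fun t => Φ t = w, t.2.2 = z₀ ∧ t.2.1 * k₀⁻¹ ∈ K ∧
        (t.1⁻¹ * a₀) * x * (t.1⁻¹ * a₀)⁻¹ = x ^ (t.2.1 * k₀⁻¹).val := by
      rintro ⟨a, k, z⟩ ht
      obtain ⟨htT, hw⟩ := Finset.mem_filter.1 ht
      have hk : k ≠ 0 := (Finset.mem_filter.1 htT).2
      change a * (x ^ k.val * (z : L)) * a⁻¹ = w at hw
      change a₀ * (x ^ k₀.val * (z₀ : L)) * a₀⁻¹ = w at hw₀
      set u := a⁻¹ * a₀ with hu
      have h1 : u * x ^ k₀.val * u⁻¹ = x ^ k.val * ((z : L) * (z₀ : L)⁻¹) := by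
        have hz₀u : u * (z₀ : L) * u⁻¹ = z₀ := by
          rw [Subgroup.mem_center_iff.1 z₀.2 u, mul_inv_cancel_right]
        calc u * x ^ k₀.val * u⁻¹
            = u * (x ^ k₀.val * (z₀ : L)) * u⁻¹ * (u * (z₀ : L) * u⁻¹)⁻¹ := by group
          _ = a⁻¹ * w * a * (z₀ : L)⁻¹ := by rw [hz₀u, ← hw₀, hu]; group
          _ = x ^ k.val * ((z : L) * (z₀ : L)⁻¹) := by rw [← hw]; group
      have hzz : (z : L) * (z₀ : L)⁻¹ = 1 := by
        refine h.eq_one_of_pow (mul_mem z.2 (inv_mem z₀.2)) ?_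
        have h2 := congrArg (fun y => y ^ p) h1
        simp only [conj_pow] at h2
        rw [← pow_mul, mul_comm, pow_mul, h.pow_p, one_pow, mul_one, mul_inv_cancel,
          (show Commute (x ^ k.val) ((z : L) * (z₀ : L)⁻¹) from
            Subgroup.mem_center_iff.1 (mul_mem z.2 (inv_mem z₀.2)) _).mul_pow,
          ← pow_mul, mul_comm, pow_mul, h.pow_p, one_pow, one_mul] at h2
        exact h2.symm
      rw [hzz, mul_one] at h1
      have h3 : u * x * u⁻¹ = x ^ (k * k₀⁻¹).val := by
        have e1 : x = (x ^ k₀.val) ^ (k₀⁻¹).val := by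
          rw [← pow_mul, pow_eq_pow_mod _ h.pow_p, ← ZMod.val_mul, mul_inv_cancel₀ hk₀,
            ZMod.val_one, pow_one]
        conv_lhs => rw [e1]
        rw [← conj_pow, h1, ← pow_mul, pow_eq_pow_mod _ h.pow_p, ← ZMod.val_mul]
      refine ⟨Subtype.ext (mul_inv_eq_one.1 hzz),
        Finset.mem_filter.2 ⟨Finset.mem_univ _, ?_, mul_ne_zero hk (inv_ne_zero hk₀)⟩, h3⟩
      simpa using h.exponent_sq h3
    -- choose a conjugating element for every exponent
    have hex : ∀ k : ZMod p, ∃ u : L, (∃ v : L, v * x * v⁻¹ = x ^ k.val) → u * x * u⁻¹ = x ^ k.val :=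
      fun k => by
        by_cases hc : ∃ v : L, v * x * v⁻¹ = x ^ k.val
        · exact ⟨hc.choose, fun _ => hc.choose_spec⟩
        · exact ⟨1, fun e => absurd e hc⟩
    choose U hU using hex
    refine le_of_le_of_eq (Finset.card_le_card_of_injOn
      (fun t => (t.2.1 * k₀⁻¹, (U (t.2.1 * k₀⁻¹))⁻¹ * (t.1⁻¹ * a₀))) (fun t ht => ?_)
      fun t ht t' ht' e => ?_) (Finset.card_product K D)
    · obtain ⟨-, hkK, hu⟩ := hkey t ht
      refine Finset.mem_product.2 ⟨hkK, Finset.mem_filter.2 ⟨Finset.mem_univ _, ?_⟩⟩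
      have hU' := hU _ ⟨_, hu⟩
      show (U _)⁻¹ * (t.1⁻¹ * a₀) * x = x * ((U _)⁻¹ * (t.1⁻¹ * a₀))
      calc (U (t.2.1 * k₀⁻¹))⁻¹ * (t.1⁻¹ * a₀) * x
          = (U (t.2.1 * k₀⁻¹))⁻¹ * ((t.1⁻¹ * a₀) * x * (t.1⁻¹ * a₀)⁻¹) * (t.1⁻¹ * a₀) := by group
        _ = (U (t.2.1 * k₀⁻¹))⁻¹ * (U (t.2.1 * k₀⁻¹) * x * (U (t.2.1 * k₀⁻¹))⁻¹) * (t.1⁻¹ * a₀) := by
            rw [hu, hU']
        _ = x * ((U (t.2.1 * k₀⁻¹))⁻¹ * (t.1⁻¹ * a₀)) := by group
    · obtain ⟨hz, -, -⟩ := hkey t ht
      obtain ⟨hz', -, -⟩ := hkey t' ht'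
      obtain ⟨e1, e2⟩ := Prod.mk.injEq .. ▸ e
      have hk : t.2.1 = t'.2.1 := mul_right_cancel₀ (inv_ne_zero hk₀) e1
      rw [hk] at e2
      exact Prod.ext (inv_injective (mul_right_cancel (mul_left_cancel e2)))
        (Prod.ext hk (hz.trans hz'.symm))
  -- so the sum is large
  have hlower : (Nat.card L : ℝ) * ((Nat.card (Subgroup.center L) : ℝ) * ((p : ℝ) * d - d * d)) ≤
      (K.card * D.card : ℕ) * ∑ g ∈ Y, Complex.normSq (χ g) := by
    have h1 : ∑ t ∈ T, Complex.normSq (χ (Φ t)) =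
        (Nat.card L : ℝ) * ((Nat.card (Subgroup.center L) : ℝ) * ((p : ℝ) * d - d * d)) := by
      have h2 : ∀ t : L × ZMod p × Subgroup.center L, Complex.normSq (χ (Φ t)) =
          Complex.normSq (∑ j : {j : ZMod p // IsSquare j}, ZMod.stdAddChar (t.2.1 * j.1)) := by
        rintro ⟨a, k, z⟩
        obtain ⟨s, hs⟩ := h.exists_scalar z.2
        show Complex.normSq (χ (a * _ * a⁻¹)) = _
        rw [hconj, hχd, h.char_apply z.2 hs, map_mul, ZMod.natCast_zmod_val]
        have hs1 : Complex.normSq s = 1 := by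
          rw [Complex.normSq_eq_norm_sq]
          have h3 : s ^ d = 1 := by
            have hne0 : (1 : Module.End ℂ (Fin d → ℂ)) ≠ 0 := by
              haveI := Char.nontrivial_of_irreducible ρ
              exact one_ne_zero
            have h4 := congrArg ρ (h.pow_degree z.2)
            rw [map_pow, hs, map_one, ← Module.End.one_eq_id, smul_pow, one_pow] at h4
            exact smul_left_injective ℂ hne0 (h4.trans (one_smul ℂ _).symm)
          rw [Complex.norm_eq_one_of_pow_eq_one h3 (by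
            rcases h.cases with ⟨-, rfl⟩ | ⟨-, rfl⟩ <;> norm_num)]
          norm_num
        rw [hs1, one_mul]
      have hTeq : T = (Finset.univ : Finset L) ×ˢ
          ((Finset.univ.erase (0 : ZMod p)) ×ˢ (Finset.univ : Finset (Subgroup.center L))) := by
        ext t
        simp [T]
      rw [Finset.sum_congr rfl fun t _ => h2 t, hTeq, Finset.sum_product]
      simp only [Finset.sum_product, Finset.sum_const, Finset.card_univ, nsmul_eq_mul]
      rw [← Finset.mul_sum, Finset.sum_erase_eq_sub (Finset.mem_univ 0), sum_normSq_squares,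
        h.card_squares, Nat.card_eq_fintype_card (α := L), Nat.card_eq_fintype_card]
      simp [h.card_squares]
    rw [← h1, ← Finset.sum_fiberwise_of_maps_to (g := Φ) (t := Y)
      (fun t ht => Finset.mem_image_of_mem Φ ht), Finset.mul_sum]
    refine Finset.sum_le_sum fun g hg => ?_
    rw [Finset.sum_congr rfl (g := fun _ => Complex.normSq (χ g)) fun t ht => by
      rw [(Finset.mem_filter.1 ht).2], Finset.sum_const, nsmul_eq_mul]
    exact mul_le_mul_of_nonneg_right (by exact_mod_cast hfib g) (Complex.normSq_nonneg _)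
  have hKcard : 2 * K.card + 1 = p := by
    rw [hK]
    rcases h.cases with ⟨rfl, rfl⟩ | ⟨rfl, rfl⟩
    · convert squares_ne_zero_five
    · convert squares_ne_zero_seven
  have hle : ((K.card * D.card : ℕ) : ℝ) ≤
      (K.card : ℝ) * ((p : ℝ) * Nat.card (Subgroup.center L)) := by
    exact_mod_cast Nat.mul_le_mul_left K.card hDcard
  have hYnn : (0 : ℝ) ≤ ∑ g ∈ Y, Complex.normSq (χ g) :=
    Finset.sum_nonneg fun g _ => Complex.normSq_nonneg _
  have hfin := hlower.trans (mul_le_mul_of_nonneg_right hle hYnn)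
  have hZ : (0 : ℝ) < Nat.card (Subgroup.center L) := by exact_mod_cast Nat.card_pos
  have hLpos : (0 : ℝ) < Nat.card L := by exact_mod_cast Nat.card_pos
  have hKr : (2 : ℝ) * K.card + 1 = p := by exact_mod_cast hKcard
  have hfin' : (Nat.card L : ℝ) * ((p : ℝ) * d - d * d) ≤
      (K.card : ℝ) * p * ∑ g ∈ Y, Complex.normSq (χ g) := by
    refine le_of_mul_le_mul_left ?_ hZ
    linarith
  rcases h.cases with ⟨rfl, rfl⟩ | ⟨rfl, rfl⟩
  · have e : (K.card : ℝ) = 2 := by push_cast at hKr; linarith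
    rw [e] at hfin'
    push_cast at hfin'
    linarith
  · have e : (K.card : ℝ) = 3 := by push_cast at hKr; linarith
    rw [e] at hfin'
    push_cast at hfin'
    linarith

/-- The Galois invariance. -/
theorem char_pow_eq {k : ℕ} (hk : k.Coprime (Nat.card L)) (hsq : IsSquare (k : ZMod p))
    (hz : ∀ z ∈ Subgroup.center L, z ^ k = z) (g : L) : ρ.character (g ^ k) = ρ.character g := by
  haveI := h.irr
  haveI : Fintype L := Fintype.ofFinite L
  have hk0 : (k : ZMod p) ≠ 0 := fun e => by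
    rw [ZMod.natCast_eq_zero_iff] at e
    have := Nat.dvd_gcd e (h.ord ▸ orderOf_dvd_natCard x)
    rw [hk] at this
    exact (Fact.out : p.Prime).one_lt.not_ge (Nat.le_of_dvd one_pos this)
  refine congrFun (h.eq_of_eq_on_singular
    (CharGalois.IsIrrCharacter.powMap (Char.isIrrCharacter_of_rep ρ) hk) fun a i z hzc hi => ?_) g
  obtain ⟨s, hs⟩ := h.exists_scalar hzc
  show ρ.character ((a * (x ^ i * z) * a⁻¹) ^ k) = _
  rw [conj_pow, ρ.char_conj, (show Commute (x ^ i) z from Subgroup.mem_center_iff.1 hzc _).mul_pow,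
    ← pow_mul, hz z hzc, h.char_apply hzc hs, h.char_apply hzc hs]
  congr 1
  obtain ⟨r, hr⟩ := hsq
  let e : {j : ZMod p // IsSquare j} → {j : ZMod p // IsSquare j} :=
    fun j => ⟨(k : ZMod p) * j.1, IsSquare.mul ⟨r, hr⟩ j.2⟩
  refine Fintype.sum_bijective e (Finite.injective_iff_bijective.1 fun a b e' =>
    Subtype.ext (mul_left_cancel₀ hk0 (congrArg Subtype.val e'))) _ _ fun j => ?_
  show _ = ZMod.stdAddChar (_ * ((k : ZMod p) * j.1))
  rw [Nat.cast_mul, mul_assoc]

end HalfCore

end Cfsg.Agent.Feit
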