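import Cfsg.Agent.Lib.Feit.ConjSum
import Cfsg.Agent.Lib.Feit.HalfData
import Cfsg.Agent.Lib.Feit.ThreeIndex
import Cfsg.Agent.Lib.Feit.Reduce

/-!
A group with a half core is the core times the centre.
-/

set_option autoImplicit false
set_option linter.unusedSectionVars false
set_option linter.style.haveILetI false

namespace Cfsg.Agent.Feit

open Cfsg Module Finset
open SmallDim
open SmallDeg16 (not_dvd_index_of_sq mem_center_of_scalar)
open scoped ComplexConjugate Pointwise

universe u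

/-- The square norms of a weighted sum over the squares, over all shifts. -/
theorem sum_normSq_weighted {p : ℕ} [Fact p.Prime] [NeZero p] {n : ℕ} (ε : Fin n → ZMod p)
    (hε : Function.Injective ε) (w : Fin n → ℂ) :
    ∑ k : ZMod p, Complex.normSq (∑ i, w i * ZMod.stdAddChar (k * ε i)) =
      p * ∑ i, Complex.normSq (w i) := by
  classical
  have key : ∀ k : ZMod p,
      (Complex.normSq (∑ i, w i * ZMod.stdAddChar (k * ε i)) : ℂ) =
        ∑ a, ∑ b, w a * conj (w b) * ZMod.stdAddChar (k * (ε a - ε b)) := fun k => by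
    rw [← Complex.mul_conj, map_sum, Finset.sum_mul_sum]
    refine Finset.sum_congr rfl fun a _ => Finset.sum_congr rfl fun b _ => ?_
    have h1 : ZMod.stdAddChar (k * (ε a - ε b)) =
        ZMod.stdAddChar (k * ε a) * conj (ZMod.stdAddChar (k * ε b)) := by
      rw [← AddChar.map_neg_eq_conj, ← AddChar.map_add_eq_mul]
      congr 1
      ring
    rw [h1, map_mul (starRingEnd ℂ)]
    ring
  apply Complex.ofReal_injective
  rw [Complex.ofReal_sum, Finset.sum_congr rfl fun k _ => key k, Finset.sum_comm,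
    Finset.sum_congr rfl fun a _ => Finset.sum_comm]
  simp only [← Finset.mul_sum, AddChar.sum_mulShift _ (ZMod.isPrimitive_stdAddChar p), ZMod.card,
    sub_eq_zero, hε.eq_iff, Nat.cast_ite, Nat.cast_zero, mul_ite, mul_zero, Finset.sum_ite_eq,
    Finset.mem_univ, if_true]
  push_cast
  rw [Finset.mul_sum]
  exact Finset.sum_congr rfl fun a _ => by rw [Complex.mul_conj, mul_comm]

/-- The non-zero squares form one orbit under a non-trivial one of them. -/
theorem orbit_five : ∀ k j : ZMod 5, IsSquare k → k ≠ 0 → k ≠ 1 → IsSquare j → j ≠ 0 →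
    j = 1 ∨ j = k ∨ j = k * k := by decide

/-- The non-zero squares form one orbit under a non-trivial one of them. -/
theorem orbit_seven : ∀ k j : ZMod 7, IsSquare k → k ≠ 0 → k ≠ 1 → IsSquare j → j ≠ 0 →
    j = 1 ∨ j = k ∨ j = k * k := by decide

/-- There are two different non-zero squares. -/
theorem two_squares_five : ∃ j : ZMod 5, IsSquare j ∧ j ≠ 0 ∧ j ≠ 1 := by decide

/-- There are two different non-zero squares. -/
theorem two_squares_seven : ∃ j : ZMod 7, IsSquare j ∧ j ≠ 0 ∧ j ≠ 1 := by decide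

theorem card_nonzero_five :
    2 * ((Finset.univ : Finset (ZMod 5)).filter fun k => IsSquare k ∧ k ≠ 0).card + 1 = 5 := by decide

theorem card_nonzero_seven :
    2 * ((Finset.univ : Finset (ZMod 7)).filter fun k => IsSquare k ∧ k ≠ 0).card + 1 = 7 := by decide

namespace HalfCore

variable {p d : ℕ} [Fact p.Prime] [NeZero p]

theorem orbit {L : Type u} [Group L] {ρ : Representation ℂ L (Fin d → ℂ)} {x : L}
    (h : HalfCore p d ρ x) {k j : ZMod p} (hk : IsSquare k) (hk0 : k ≠ 0) (hk1 : k ≠ 1)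
    (hj : IsSquare j) (hj0 : j ≠ 0) : j = 1 ∨ j = k ∨ j = k * k := by
  rcases h.cases with ⟨rfl, -⟩ | ⟨rfl, -⟩
  · exact orbit_five k j hk hk0 hk1 hj hj0
  · exact orbit_seven k j hk hk0 hk1 hj hj0

theorem two_squares {L : Type u} [Group L] {ρ : Representation ℂ L (Fin d → ℂ)} {x : L}
    (h : HalfCore p d ρ x) : ∃ j : ZMod p, IsSquare j ∧ j ≠ 0 ∧ j ≠ 1 := by
  rcases h.cases with ⟨rfl, -⟩ | ⟨rfl, -⟩
  · exact two_squares_five
  · exact two_squares_seven

variable {L : Type u} [Group L] [Finite L] {ρ : Representation ℂ L (Fin d → ℂ)} {x : L}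

/-- The normaliser induces a non-trivial exponent. -/
theorem exists_exponent (h : HalfCore p d ρ x) :
    ∃ (u : L) (k : ℕ), u * x * u⁻¹ = x ^ k ∧ (k : ZMod p) ≠ 1 := by
  classical
  by_contra hne
  push Not at hne
  have hcard : Nat.card (Subgroup.zpowers x) = p := by rw [Nat.card_zpowers, h.ord]
  have hidx : ¬ p ∣ (Subgroup.zpowers x).index := not_dvd_index_of_sq (by rw [hcard]) h.sq
  let P : Sylow p L := (IsPGroup.of_card (n := 1) (by rw [hcard, pow_one])).toSylow hidx
  have hP : (P : Subgroup L) = Subgroup.zpowers x := IsPGroup.toSylow_coe _ _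
  haveI : IsMulCommutative (P : Subgroup L) := by
    rw [hP]
    infer_instance
  have hle : Subgroup.normalizer ((P : Subgroup L) : Set L) ≤
      Subgroup.centralizer ((P : Subgroup L) : Set L) := by
    intro u hu
    rw [hP] at hu ⊢
    have hux : u * x * u⁻¹ ∈ Subgroup.zpowers x :=
      (Subgroup.mem_normalizer_iff.1 hu x).1 (Subgroup.mem_zpowers x)
    obtain ⟨k, hk⟩ := (isOfFinOrder_of_finite x).mem_powers_iff_mem_zpowers.2 hux
    have h1 := hne u k hk.symm
    have h2 : x ^ k = x := by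
      rw [pow_eq_pow_mod _ h.pow_p, ← ZMod.val_natCast, h1, ZMod.val_one, pow_one]
    have h3 : u * x * u⁻¹ = x := hk.symm.trans h2
    rw [Subgroup.mem_centralizer_iff]
    intro w hw
    obtain ⟨i, rfl⟩ := Subgroup.mem_zpowers_iff.1 hw
    exact ((show Commute u x from mul_inv_eq_iff_eq_mul.1 h3).zpow_right i).symm.eq
  have hker := MonoidHom.ker_transferSylow_isComplement' P hle
  have htop : (MonoidHom.transferSylow P hle).ker = ⊤ := by
    open scoped IsMulCommutative in
    exact top_le_iff.1 (h.perf ▸ Abelianization.commutator_subset_ker _)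
  rw [htop, Subgroup.isComplement'_top_left] at hker
  rw [hker, eq_comm, Subgroup.zpowers_eq_bot] at hP
  have := h.ord
  rw [hP, orderOf_one] at this
  exact (Fact.out : p.Prime).ne_one this.symm

variable {G : Type u} [Group G] [Finite G] (θ : Representation ℂ G (Fin d → ℂ)) (M : Subgroup G)
  [M.Normal] {y : M}

set_option maxHeartbeats 1600000 in
/-- Every element is one of the core times a central one. -/
theorem mem_sup_center [θ.IsIrreducible] (hθ : Function.Injective θ)
    (hind : ¬ p ^ 2 ∣ (Subgroup.center G).index)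
    (h : HalfCore p d (MonoidHom.comp θ M.subtype : Representation ℂ M (Fin d → ℂ)) y) (g : G) :
    g ∈ M ⊔ Subgroup.center G := by
  classical
  haveI : Fintype G := Fintype.ofFinite G
  haveI := h.irr
  set σ : Representation ℂ M (Fin d → ℂ) := MonoidHom.comp θ M.subtype with hσ
  have hp := (Fact.out : p.Prime)
  obtain ⟨B, ε, hεi, hε, hB⟩ := h.exists_basis
  have hB' : ∀ i, θ (y : G) (B i) = ZMod.stdAddChar (ε i) • B i := hB
  have hyp : (y : G) ^ p = 1 := congrArg Subtype.val h.pow_p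
  have hypow : ∀ (k : ℕ) i, θ ((y : G) ^ k) (B i) = ZMod.stdAddChar ((k : ZMod p) * ε i) • B i :=
    fun k i => h.apply_pow (hB i) k
  -- eigenvectors of `y`
  have heigvec : ∀ (v : Fin d → ℂ) (k : ℕ) (j : ZMod p),
      θ ((y : G) ^ k) v = ZMod.stdAddChar j • v → ∀ i, B.repr v i ≠ 0 → (k : ZMod p) * ε i = j := by
    intro v k j hv i hi
    have h1 : θ ((y : G) ^ k) v =
        ∑ m, (B.repr v m * ZMod.stdAddChar ((k : ZMod p) * ε m)) • B m := by
      conv_lhs => rw [← B.sum_repr v]
      rw [map_sum]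
      exact Finset.sum_congr rfl fun m _ => by rw [map_smul, hypow, smul_smul]
    have h2 := congrArg (fun w => B.repr w i) (h1.symm.trans hv)
    simp only [B.repr_sum_self, map_smul, Finsupp.smul_apply, smul_eq_mul] at h2
    exact ZMod.injective_stdAddChar (mul_left_cancel₀ hi (h2.trans (mul_comm _ _)))
  have hne0 : ∀ (c : G) (v : Fin d → ℂ), v ≠ 0 → θ c v ≠ 0 := fun c v hv e => hv (by
    have h' := congrArg (θ c⁻¹) e
    rwa [map_zero, ← Module.End.mul_apply, ← map_mul, inv_mul_cancel, map_one,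
      Module.End.one_apply] at h')
  have hexpG : ∀ (u : G) (k : ℕ), u * (y : G) * u⁻¹ = (y : G) ^ k →
      IsSquare (k : ZMod p) ∧ (k : ZMod p) ≠ 0 := by
    intro u k hu
    obtain ⟨i₁, hi₁⟩ := (hε 1).1 IsSquare.one
    set w := θ u (B i₁) with hw
    have hxw : θ ((y : G) ^ k) w = ZMod.stdAddChar (1 : ZMod p) • w := by
      rw [hw, ← hu, ← Module.End.mul_apply, ← map_mul, inv_mul_cancel_right, map_mul,
        Module.End.mul_apply, hB', hi₁, map_smul]
    obtain ⟨i, hi⟩ : ∃ i, B.repr w i ≠ 0 := by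
      by_contra h'
      push Not at h'
      exact hne0 u _ (B.ne_zero i₁) (B.repr.map_eq_zero_iff.1 (Finsupp.ext h'))
    have h3 := heigvec w k 1 hxw i hi
    obtain ⟨r, hr⟩ := (hε (ε i)).2 ⟨i, rfl⟩
    refine ⟨⟨(k : ZMod p) * r, ?_⟩, fun e => ?_⟩
    · calc (k : ZMod p) = k * (k * ε i) := by rw [h3, mul_one]
        _ = _ := by rw [hr]; ring
    · rw [e, zero_mul] at h3
      exact zero_ne_one h3
  -- the diagonal action of the centraliser
  set D : Subgroup G := Subgroup.centralizer ({(y : G)} : Set G) with hD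
  have hDcomm : ∀ c : D, (c : G) * y = y * c := fun c => Subgroup.mem_centralizer_singleton_iff.1 c.2
  have hl : ∀ (c : D) (i : Fin d), ∃ a : ℂ, θ (c : G) (B i) = a • B i := by
    intro c i
    refine ⟨B.repr (θ (c : G) (B i)) i, ?_⟩
    conv_lhs => rw [← B.sum_repr (θ (c : G) (B i))]
    refine Finset.sum_eq_single i (fun j _ hj => ?_) fun h' => absurd (Finset.mem_univ i) h'
    have hv : θ ((y : G) ^ 1) (θ (c : G) (B i)) = ZMod.stdAddChar (ε i) • θ (c : G) (B i) := by
      rw [pow_one, ← Module.End.mul_apply, ← map_mul, ← hDcomm c, map_mul, Module.End.mul_apply,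
        hB', map_smul]
    have h0 : B.repr (θ (c : G) (B i)) j = 0 := by
      by_contra hne
      refine hj (hεi ?_)
      have h4 := heigvec _ 1 (ε i) hv j hne
      rwa [Nat.cast_one, one_mul] at h4
    rw [h0, zero_smul]
  choose l hl using hl
  have hl1 : ∀ i, l 1 i = 1 := fun i => smul_left_injective ℂ (B.ne_zero i) (by
    show l 1 i • B i = (1 : ℂ) • B i
    rw [← hl, OneMemClass.coe_one, map_one, Module.End.one_apply, one_smul])
  have hlm : ∀ a b i, l (a * b) i = l a i * l b i := fun a b i =>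
    smul_left_injective ℂ (B.ne_zero i) (by
      show l (a * b) i • B i = (l a i * l b i) • B i
      rw [← hl, Subgroup.coe_mul, map_mul, Module.End.mul_apply, hl, map_smul, hl, smul_smul, mul_comm])
  have hln : ∀ c i, ‖l c i‖ = 1 := fun c i => by
    let f : D →* ℂ := { toFun := fun c => l c i, map_one' := hl1 i, map_mul' := fun a b => hlm a b i }
    exact Complex.norm_eq_one_of_pow_eq_one (n := orderOf c)
      (show f c ^ orderOf c = 1 by rw [← map_pow, pow_orderOf_eq_one, map_one]) (orderOf_pos c).ne'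
  have hl0 : ∀ c i, l c i ≠ 0 := fun c i => norm_ne_zero_iff.1 (by rw [hln]; exact one_ne_zero)
  -- the elements constant on the orbit
  set C0 : Subgroup D :=
    { carrier := {c | ∀ i i', ε i ≠ 0 → ε i' ≠ 0 → l c i = l c i'}
      one_mem' := fun i i' _ _ => by rw [hl1, hl1]
      mul_mem' := fun {a b} ha hb i i' hi hi' => by rw [hlm, hlm, ha i i' hi hi', hb i i' hi hi']
      inv_mem' := fun {a} ha i i' hi hi' => by
        refine mul_left_cancel₀ (hl0 a i) ?_
        conv_rhs => rw [ha i i' hi hi']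
        rw [← hlm, ← hlm, mul_inv_cancel, hl1, hl1] } with hC0
  obtain ⟨i₀, hi₀⟩ := (hε 0).1 IsSquare.zero
  obtain ⟨i₁, hi₁⟩ := (hε 1).1 IsSquare.one
  have hi₁' : ε i₁ ≠ 0 := by rw [hi₁]; exact one_ne_zero
  obtain ⟨j₂, hj₂, hj₂0, hj₂1⟩ := h.two_squares
  obtain ⟨i₂, hi₂⟩ := (hε j₂).1 hj₂
  have hi₂' : ε i₂ ≠ 0 := by rw [hi₂]; exact hj₂0
  have hscalC : ∀ c : C0, l (c : D) i₀ = l (c : D) i₁ → ((c : D) : G) ∈ Subgroup.center G := by
    intro c hc
    refine mem_center_of_scalar θ hθ (c := l (c : D) i₁) fun v => ?_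
    have e : θ ((c : D) : G) = l (c : D) i₁ • LinearMap.id := B.ext fun i => by
      rw [LinearMap.smul_apply, LinearMap.id_apply, hl]
      by_cases hi : ε i = 0
      · rw [hεi (hi.trans hi₀.symm), hc]
      · rw [c.2 i i₁ hi hi₁']
    rw [e]; rfl
  have hscal0 : ∀ z ∈ Subgroup.center G, ∀ (hz : z ∈ D) i i', l ⟨z, hz⟩ i = l ⟨z, hz⟩ i' := by
    intro z hzc hz i i'
    obtain ⟨s, hs⟩ := Char.schur_scalar θ (θ z) fun u v => by
      rw [← Module.End.mul_apply, ← map_mul, ← Subgroup.mem_center_iff.1 hzc u, map_mul,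
        Module.End.mul_apply]
    have key : ∀ i, l ⟨z, hz⟩ i = s := fun i => smul_left_injective ℂ (B.ne_zero i) (by
      show l ⟨z, hz⟩ i • B i = s • B i
      rw [← hl]
      show θ z (B i) = _
      rw [hs]; rfl)
    rw [key, key]
  -- powers of `y` times central elements
  have hyD : (y : G) ∈ D := Subgroup.mem_centralizer_singleton_iff.2 rfl
  set yD : D := ⟨(y : G), hyD⟩ with hyDd
  have hly : ∀ (k : ℕ) i, l (yD ^ k) i = ZMod.stdAddChar ((k : ZMod p) * ε i) := fun k i =>
    smul_left_injective ℂ (B.ne_zero i) (by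
      show l (yD ^ k) i • B i = _
      rw [← hl, SubmonoidClass.coe_pow]
      exact hypow k i)
  have hkzero : ∀ (k : ℕ) (c c' : C0), (yD ^ k) * (c : D) = (c' : D) → (k : ZMod p) = 0 := by
    intro k c c' e
    have h1 := congrArg (fun w => l w i₁) e
    have h2 := congrArg (fun w => l w i₂) e
    simp only [hlm, hly] at h1 h2
    rw [← c'.2 i₁ i₂ hi₁' hi₂', ← c.2 i₁ i₂ hi₁' hi₂', ← h1] at h2
    have h3 := ZMod.injective_stdAddChar (mul_right_cancel₀ (hl0 _ _) h2)
    rw [hi₁, hi₂, mul_one] at h3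
    have h4 : (k : ZMod p) * (j₂ - 1) = 0 := by rw [mul_sub, mul_one, h3, sub_self]
    exact (mul_eq_zero.1 h4).resolve_right (sub_ne_zero.2 hj₂1)
  have hscalM : ∀ c : C0, ((c : D) : G) ∈ M → ((c : D) : G) ∈ Subgroup.center G := by
    intro c hc
    obtain ⟨k, z, hz, e⟩ := h.cent ⟨_, hc⟩ (Subtype.ext (hDcomm c))
    have hzG : (z : G) ∈ Subgroup.center G := center_map_le θ hθ M ⟨z, hz, rfl⟩
    have hzD : (z : G) ∈ D := Subgroup.mem_centralizer_singleton_iff.2
      (Subgroup.mem_center_iff.1 hzG _).symm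
    have hzC : (⟨(z : G), hzD⟩ : D) ∈ C0 := fun i i' _ _ => hscal0 _ hzG hzD i i'
    have e' : ((c : D) : G) = (y : G) ^ k * (z : G) := congrArg Subtype.val e
    have hk := hkzero k ⟨_, hzC⟩ c (Subtype.ext e'.symm)
    rw [e', pow_eq_pow_mod _ hyp, ← ZMod.val_natCast, hk, ZMod.val_zero, pow_zero, one_mul]
    exact hzG
  -- the decomposition
  obtain ⟨u, k₀, hu, hk₀⟩ := h.exists_exponent
  have huG : (u : G) * (y : G) * (u : G)⁻¹ = (y : G) ^ k₀ := congrArg Subtype.val hu
  obtain ⟨hk₀s, hk₀0⟩ := hexpG _ _ huG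
  have hcd : ∀ c : D, ∃ k : ℕ, (c * yD ^ k) ∈ C0 := by
    intro c
    have hyk : (u : G) * ((y : G) ^ 1) * (u : G)⁻¹ = (y : G) ^ k₀ := by rw [pow_one, huG]
    set v := (u : G) * (c : G) * (u : G)⁻¹ * (c : G)⁻¹ with hv
    have hvM : v ∈ M := by
      have : (c : G) * (u : G)⁻¹ * (c : G)⁻¹ ∈ M :=
        (inferInstance : M.Normal).conj_mem _ (inv_mem u.2) _
      rw [hv, show (u : G) * (c : G) * (u : G)⁻¹ * (c : G)⁻¹ =
        (u : G) * ((c : G) * (u : G)⁻¹ * (c : G)⁻¹) by group]
      exact M.mul_mem u.2 this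
    have hcy : Commute (c : G) (y : G) := hDcomm c
    have huc : Commute ((u : G) * (c : G) * (u : G)⁻¹) ((y : G) ^ k₀) := by
      rw [← huG]
      show _ * _ = _ * _
      calc (u : G) * c * (u : G)⁻¹ * ((u : G) * y * (u : G)⁻¹) = u * ((c : G) * y) * (u : G)⁻¹ := by group
        _ = u * ((y : G) * c) * (u : G)⁻¹ := by rw [hcy.eq]
        _ = _ := by group
    obtain ⟨r, hr⟩ : ∃ r : ℕ, (y : G) = ((y : G) ^ k₀) ^ r := by
      refine ⟨(k₀ : ZMod p)⁻¹.val, ?_⟩
      rw [← pow_mul, pow_eq_pow_mod _ hyp, ← ZMod.val_natCast, Nat.cast_mul, ZMod.natCast_zmod_val,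
        mul_inv_cancel₀ hk₀0, ZMod.val_one, pow_one]
    have hvy : v * (y : G) = y * v := by
      have h1 : Commute ((u : G) * (c : G) * (u : G)⁻¹) (y : G) := by
        rw [hr]; exact huc.pow_right r
      exact (h1.mul_left hcy.inv_left).eq
    obtain ⟨i, z, hz, e⟩ := h.cent ⟨v, hvM⟩ (Subtype.ext hvy)
    have e' : v = (y : G) ^ i * (z : G) := congrArg Subtype.val e
    have hzG : (z : G) ∈ Subgroup.center G := center_map_le θ hθ M ⟨z, hz, rfl⟩
    set j : ZMod p := -((i : ZMod p) * ((k₀ : ZMod p) - 1)⁻¹) with hj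
    refine ⟨j.val, ?_⟩
    set c2 : D := c * yD ^ j.val with hc2
    have hcomm : (u : G) * (c2 : G) * (u : G)⁻¹ = (z : G) * (c2 : G) := by
      rw [hc2, Subgroup.coe_mul, SubmonoidClass.coe_pow]
      show (u : G) * ((c : G) * (y : G) ^ j.val) * (u : G)⁻¹ = (z : G) * ((c : G) * (y : G) ^ j.val)
      have e1 : (u : G) * (c : G) * (u : G)⁻¹ = v * (c : G) := by rw [hv]; group
      calc (u : G) * ((c : G) * (y : G) ^ j.val) * (u : G)⁻¹
          = ((u : G) * c * (u : G)⁻¹) * ((u : G) * y * (u : G)⁻¹) ^ j.val := by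
            rw [conj_pow]; group
        _ = (y : G) ^ i * (z : G) * c * (y : G) ^ (k₀ * j.val) := by rw [e1, e', huG, ← pow_mul]
        _ = (z : G) * ((c : G) * ((y : G) ^ i * (y : G) ^ (k₀ * j.val))) := by
            rw [Subgroup.mem_center_iff.1 hzG ((y : G) ^ i), mul_assoc (z : G), ← (hcy.pow_right i).eq]
            group
        _ = (z : G) * ((c : G) * (y : G) ^ j.val) := by
            rw [← pow_add]
            congr 2
            rw [pow_eq_pow_mod _ hyp, ← ZMod.val_natCast, Nat.cast_add, Nat.cast_mul,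
              ZMod.natCast_zmod_val]
            congr 2
            rw [hj]
            field_simp [sub_ne_zero.2 hk₀]
            ring
    -- `u` moves the eigenlines along the orbit
    have hmove : ∀ i', ∀ m, B.repr (θ (u : G) (B i')) m ≠ 0 → (k₀ : ZMod p) * ε m = ε i' := by
      intro i' m hm
      refine heigvec _ k₀ (ε i') ?_ m hm
      rw [← huG, ← Module.End.mul_apply, ← map_mul, inv_mul_cancel_right, map_mul,
        Module.End.mul_apply, hB', map_smul]
    obtain ⟨s, hs⟩ := Char.schur_scalar θ (θ (z : G)) fun w v => by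
      rw [← Module.End.mul_apply, ← map_mul, ← Subgroup.mem_center_iff.1 hzG w, map_mul,
        Module.End.mul_apply]
    have hrel : ∀ i' m, B.repr (θ (u : G) (B i')) m ≠ 0 → s * l c2 m = l c2 i' := by
      intro i' m hm
      have h1 : θ (u : G) (θ (c2 : G) (B i')) = θ (z : G) (θ (c2 : G) (θ (u : G) (B i'))) := by
        have h2 : (u : G) * (c2 : G) = (z : G) * (c2 : G) * (u : G) := by
          rw [← hcomm, inv_mul_cancel_right]
        rw [← Module.End.mul_apply, ← map_mul, h2, map_mul, map_mul, Module.End.mul_apply,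
          Module.End.mul_apply]
      have h3 : θ (c2 : G) (θ (u : G) (B i')) =
          ∑ n, (B.repr (θ (u : G) (B i')) n * l c2 n) • B n := by
        conv_lhs => rw [← B.sum_repr (θ (u : G) (B i'))]
        rw [map_sum]
        exact Finset.sum_congr rfl fun n _ => by rw [map_smul, hl, smul_smul]
      rw [hl, map_smul, hs, LinearMap.smul_apply, LinearMap.id_apply, h3] at h1
      have h4 := congrArg (fun w => B.repr w m) h1
      simp only [map_smul, Finsupp.smul_apply, smul_eq_mul, B.repr_sum_self] at h4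
      exact mul_right_cancel₀ hm (by linear_combination -h4)
    have hex : ∀ i', ∃ m, B.repr (θ (u : G) (B i')) m ≠ 0 := fun i' => by
      by_contra h'
      push Not at h'
      exact hne0 _ _ (B.ne_zero i') (B.repr.map_eq_zero_iff.1 (Finsupp.ext h'))
    have hs1 : s = 1 := by
      obtain ⟨m, hm⟩ := hex i₀
      have h1 := hmove i₀ m hm
      rw [hi₀, mul_eq_zero, or_iff_right hk₀0] at h1
      obtain rfl : m = i₀ := hεi (h1.trans hi₀.symm)
      exact (mul_eq_right₀ (hl0 _ _)).1 (hrel _ _ hm)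
    have hstep : ∀ a b, (k₀ : ZMod p) * ε b = ε a → l c2 b = l c2 a := by
      intro a b hab
      obtain ⟨m, hm⟩ := hex a
      obtain rfl : m = b := hεi (mul_left_cancel₀ hk₀0 ((hmove a m hm).trans hab.symm))
      have := hrel a m hm
      rwa [hs1, one_mul] at this
    have hall : ∀ a, ε a ≠ 0 → l c2 a = l c2 i₁ := by
      intro a ha
      rcases h.orbit hk₀s hk₀0 hk₀ ((hε _).2 ⟨a, rfl⟩) ha with e1 | e1 | e1
      · rw [hεi (e1.trans hi₁.symm)]
      · exact (hstep a i₁ (by rw [e1, hi₁, mul_one])).symm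
      · obtain ⟨b, hb⟩ := (hε (k₀ : ZMod p)).1 hk₀s
        exact ((hstep b i₁ (by rw [hb, hi₁, mul_one])).trans (hstep a b (by rw [e1, hb]))).symm
    exact fun a b ha hb => (hall a ha).trans (hall b hb).symm
  have hdecomp : ∀ w : G, ∃ c : C0, w * ((c : D) : G)⁻¹ ∈ M := by
    intro w
    set y' : M := ⟨w * y * w⁻¹, (inferInstance : M.Normal).conj_mem _ y.2 w⟩ with hy'
    have hy1 : (y : G) ≠ 1 := fun e => by
      have := h.ord
      rw [show y = 1 from Subtype.ext e, orderOf_one] at this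
      exact hp.ne_one this.symm
    have hy'o : orderOf y' = p := by
      refine orderOf_eq_prime (Subtype.ext ?_) fun e => hy1 ?_
      · show (w * y * w⁻¹) ^ p = 1
        rw [conj_pow, hyp, mul_one, mul_inv_cancel]
      · exact conj_eq_one_iff.1 (congrArg Subtype.val e)
    have hsyl : ∀ z : M, orderOf z = p →
        IsPGroup p (Subgroup.zpowers z) ∧ ¬ p ∣ (Subgroup.zpowers z).index := fun z hz => by
      have hc : Nat.card (Subgroup.zpowers z) = p := by rw [Nat.card_zpowers, hz]
      exact ⟨IsPGroup.of_card (n := 1) (by rw [hc, pow_one]), not_dvd_index_of_sq (by rw [hc]) h.sq⟩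
    obtain ⟨a, ha⟩ := MulAction.exists_smul_eq M ((hsyl y' hy'o).1.toSylow (hsyl y' hy'o).2)
      ((hsyl y h.ord).1.toSylow (hsyl y h.ord).2)
    have hmem : a * y' * a⁻¹ ∈ Subgroup.zpowers y := by
      have h' := congrArg Sylow.toSubgroup ha
      rw [Sylow.coe_subgroup_smul, IsPGroup.toSylow_coe, IsPGroup.toSylow_coe] at h'
      rw [← h', Subgroup.mem_smul_pointwise_iff_exists]
      exact ⟨y', Subgroup.mem_zpowers _, by rw [MulAut.smul_def, MulAut.conj_apply]⟩
    obtain ⟨k, hk⟩ := (isOfFinOrder_of_finite y).mem_powers_iff_mem_zpowers.2 hmem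
    set n := (a : G) * w with hn
    have hnk : n * (y : G) * n⁻¹ = (y : G) ^ k := by
      have h' : (y : G) ^ k = (a : G) * (w * y * w⁻¹) * (a : G)⁻¹ := congrArg Subtype.val hk
      rw [h', hn]; group
    obtain ⟨hks, hk0⟩ := hexpG n k hnk
    obtain ⟨m, hm⟩ : ∃ m : M, (m : G) * y * (m : G)⁻¹ = (y : G) ^ k := by
      have hred : ∀ a b : ℕ, (a : ZMod p) = (b : ZMod p) → (y : G) ^ a = (y : G) ^ b := fun a b e => by
        rw [pow_eq_pow_mod a hyp, pow_eq_pow_mod b hyp, ← ZMod.val_natCast, e, ZMod.val_natCast]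
      rcases h.orbit hk₀s hk₀0 hk₀ hks hk0 with e | e | e
      · refine ⟨1, ?_⟩
        rw [hred k 1 (by rw [e, Nat.cast_one]), OneMemClass.coe_one, one_mul, inv_one, mul_one,
          pow_one]
      · exact ⟨u, huG.trans (hred k₀ k e.symm)⟩
      · refine ⟨u * u, ?_⟩
        rw [Subgroup.coe_mul, show (u : G) * u * y * ((u : G) * u)⁻¹ = u * (u * y * (u : G)⁻¹) * (u : G)⁻¹ by
          group, huG, ← conj_pow, huG, ← pow_mul]
        exact hred _ _ (by rw [Nat.cast_mul, e])
    have hc : (m : G)⁻¹ * n ∈ D := by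
      rw [hD, Subgroup.mem_centralizer_singleton_iff]
      calc (m : G)⁻¹ * n * y = (m : G)⁻¹ * (n * y * n⁻¹) * n := by group
        _ = (m : G)⁻¹ * ((m : G) * y * (m : G)⁻¹) * n := by rw [hnk, hm]
        _ = y * ((m : G)⁻¹ * n) := by group
    obtain ⟨j, hj⟩ := hcd ⟨_, hc⟩
    refine ⟨⟨_, hj⟩, ?_⟩
    show w * ((m : G)⁻¹ * n * (y : G) ^ j)⁻¹ ∈ M
    rw [hn, show w * ((m : G)⁻¹ * ((a : G) * w) * (y : G) ^ j)⁻¹ =
      w * ((y : G) ^ j)⁻¹ * w⁻¹ * ((a : G)⁻¹ * (m : G)) by group]
    exact M.mul_mem ((inferInstance : M.Normal).conj_mem _ (M.inv_mem (pow_mem y.2 j)) w)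
      (M.mul_mem (M.inv_mem a.2) m.2)
  choose pc hpc using hdecomp
  -- the linear character
  let m : C0 →* ℂ :=
    { toFun := fun c => l (c : D) i₀ * conj (l (c : D) i₁)
      map_one' := by simp [hl1]
      map_mul' := fun a b => by simp only [Subgroup.coe_mul, hlm, map_mul]; ring }
  have hm1 : ∀ c : C0, m c = 1 → ((c : D) : G) ∈ Subgroup.center G := fun c hc => hscalC c (by
    have h1 : l (c : D) i₁ * conj (l (c : D) i₁) = 1 := by rw [Complex.mul_conj', hln]; simp
    calc l (c : D) i₀ = l (c : D) i₀ * (l (c : D) i₁ * conj (l (c : D) i₁)) := by rw [h1, mul_one]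
      _ = l (c : D) i₁ * m c := by
          rw [show m c = l (c : D) i₀ * conj (l (c : D) i₁) from rfl]; ring
      _ = l (c : D) i₁ := by rw [hc, mul_one])
  have hmcen : ∀ c : C0, ((c : D) : G) ∈ Subgroup.center G → m c = 1 := fun c hc => by
    show l (c : D) i₀ * conj (l (c : D) i₁) = 1
    rw [show l (c : D) i₀ = l (c : D) i₁ from hscal0 _ hc (c : D).2 i₀ i₁, Complex.mul_conj', hln]
    simp
  have hwell : ∀ (w : G) (c : C0), w * ((c : D) : G)⁻¹ ∈ M → m (pc w) = m c := by
    intro w c hc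
    have h1 : (((pc w * c⁻¹ : C0) : D) : G) ∈ M := by
      have := M.mul_mem (M.inv_mem (hpc w)) hc
      rw [show (w * ((pc w : D) : G)⁻¹)⁻¹ * (w * ((c : D) : G)⁻¹) =
        ((pc w : D) : G) * ((c : D) : G)⁻¹ by group] at this
      exact this
    have h2 := hmcen _ (hscalM _ h1)
    calc m (pc w) = m (pc w * c⁻¹ * c) := by rw [inv_mul_cancel_right]
      _ = m c := by rw [map_mul, h2, one_mul]
  let E : G →* ℂ :=
    { toFun := fun w => m (pc w)
      map_one' := (hwell 1 1 (by simp)).trans (map_one m)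
      map_mul' := fun a b => by
        rw [← map_mul]
        refine hwell _ _ ?_
        show a * b * (((pc a : D) : G) * ((pc b : D) : G))⁻¹ ∈ M
        rw [show a * b * (((pc a : D) : G) * ((pc b : D) : G))⁻¹ =
          a * (b * ((pc b : D) : G)⁻¹) * a⁻¹ * (a * ((pc a : D) : G)⁻¹) by group]
        exact M.mul_mem ((inferInstance : M.Normal).conj_mem _ (hpc b) a) (hpc a) }
  have hEc : ∀ c : C0, E ((c : D) : G) = m c := fun c => hwell _ c (by simp)
  suffices hE : ∀ c : C0, m c = 1 by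
    have hgc : ((pc g : D) : G) ∈ Subgroup.center G := hm1 _ (hE _)
    rw [show g = g * ((pc g : D) : G)⁻¹ * ((pc g : D) : G) by group]
    exact Subgroup.mul_mem_sup (hpc g) hgc
  by_contra hne
  push Not at hne
  obtain ⟨c₁, hc₁⟩ := hne
  -- no `p`-part
  have hpfree : ∀ c : C0, m c ^ p = 1 → m c = 1 := by
    intro c hc
    set Q := G ⧸ Subgroup.center G
    let π := QuotientGroup.mk' (Subgroup.center G)
    have hcp : (π ((c : D) : G)) ^ p = 1 := by
      rw [← map_pow]
      refine (QuotientGroup.eq_one_iff _).2 ?_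
      have := hm1 (c ^ p) (by rw [map_pow, hc])
      simpa using this
    have hyπ : (π (y : G)) ^ p = 1 := by rw [← map_pow, hyp, map_one]
    have hπc : Commute (π (y : G)) (π ((c : D) : G)) := (show Commute (y : G) ((c : D) : G) from
      (hDcomm c).symm).map π
    set K := Subgroup.closure ({π (y : G), π ((c : D) : G)} : Set Q) with hK
    haveI : IsMulCommutative K := Subgroup.isMulCommutative_closure (by
      rintro a (rfl | rfl) b (rfl | rfl)
      exacts [rfl, hπc.eq, hπc.eq.symm, rfl])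
    have hKp : ∀ w ∈ K, w ^ p = 1 := by
      intro w hw
      induction hw using Subgroup.closure_induction with
      | mem a ha => rcases ha with rfl | rfl <;> assumption
      | one => exact one_pow p
      | mul a b ha hb iha ihb =>
        have hab : Commute a b := congrArg Subtype.val
          (IsMulCommutative.is_comm.comm (⟨a, ha⟩ : K) ⟨b, hb⟩)
        rw [hab.mul_pow, iha, ihb, one_mul]
      | inv a _ ih => rw [inv_pow, ih, inv_one]
    obtain ⟨n, hn⟩ := (show IsPGroup p K from fun w => ⟨1, by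
      rw [pow_one]; exact Subtype.ext (hKp w w.2)⟩).exists_card_eq
    have hle : Subgroup.zpowers (π (y : G)) ≤ K :=
      Subgroup.zpowers_le.2 (Subgroup.subset_closure (by simp))
    have hy1 : π (y : G) ≠ 1 := fun e => by
      have h1 := (QuotientGroup.eq_one_iff _).1 e
      have := h.eq_one_of_pow (z := y) (Subgroup.mem_center_iff.2 fun a =>
        Subtype.ext (Subgroup.mem_center_iff.1 h1 a)) h.pow_p
      have h2 := h.ord
      rw [this, orderOf_one] at h2
      exact hp.ne_one h2.symm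
    have hKeq : Subgroup.zpowers (π (y : G)) = K := by
      refine Subgroup.eq_of_le_of_card_ge hle ?_
      rw [Nat.card_zpowers, orderOf_eq_prime hyπ hy1, hn]
      have hn2 : n < 2 := by
        by_contra hn2
        refine hind ((pow_dvd_pow p (show 2 ≤ n by omega)).trans ?_)
        rw [← hn, Subgroup.index_eq_card]
        exact Subgroup.card_subgroup_dvd_card K
      calc p ^ n ≤ p ^ 1 := Nat.pow_le_pow_right hp.pos (by omega)
        _ = p := pow_one p
    obtain ⟨k, hk⟩ := (isOfFinOrder_of_finite (π (y : G))).mem_powers_iff_mem_zpowers.2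
      (hKeq.symm ▸ Subgroup.subset_closure (by simp) :
        π ((c : D) : G) ∈ Subgroup.zpowers (π (y : G)))
    have hz : ((y : G) ^ k)⁻¹ * ((c : D) : G) ∈ Subgroup.center G := by
      refine QuotientGroup.eq.1 ?_
      exact hk
    have hzD : ((y : G) ^ k)⁻¹ * ((c : D) : G) ∈ D :=
      D.mul_mem (D.inv_mem (pow_mem hyD k)) (c : D).2
    have hzC : (⟨_, hzD⟩ : D) ∈ C0 := fun i i' _ _ => hscal0 _ hz hzD i i'
    have hk0 := hkzero k ⟨_, hzC⟩ c (Subtype.ext (by
      show (y : G) ^ k * (((y : G) ^ k)⁻¹ * ((c : D) : G)) = _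
      rw [mul_inv_cancel_left]))
    refine hmcen c ?_
    rwa [pow_eq_pow_mod _ hyp, ← ZMod.val_natCast, hk0, ZMod.val_zero, pow_zero, inv_one,
      one_mul] at hz
  have hcop : ∀ c : C0, ∃ N : ℕ, ¬ p ∣ N ∧ ((c : D) : G) ^ N ∈ Subgroup.center G := by
    intro c
    have hfin : IsOfFinOrder (m c) := ⟨orderOf c, orderOf_pos c, by
      rw [isPeriodicPt_mul_iff_pow_eq_one, ← map_pow, pow_orderOf_eq_one, map_one]⟩
    refine ⟨orderOf (m c), fun ⟨q, hq⟩ => ?_, ?_⟩
    · have h1 : m (c ^ q) = 1 := hpfree _ (by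
        rw [map_pow, ← pow_mul, mul_comm, ← hq, pow_orderOf_eq_one])
      rw [map_pow] at h1
      have h2 := Nat.le_of_dvd (Nat.pos_of_ne_zero fun e => by
        rw [e, mul_zero] at hq; exact hfin.orderOf_pos.ne' hq) (orderOf_dvd_of_pow_eq_one h1)
      rw [hq] at h2
      have hq0 : 0 < q := Nat.pos_of_ne_zero fun e => by
        rw [e, mul_zero] at hq; exact hfin.orderOf_pos.ne' hq
      have := Nat.mul_le_mul_right q hp.two_le
      omega
    · have := hm1 (c ^ orderOf (m c)) (by rw [map_pow, pow_orderOf_eq_one])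
      simpa using this
  -- the family
  set g' : {t : ZMod p × C0 // t.1 ≠ 0} → G := fun t => (y : G) ^ t.1.1.val * ((t.1.2 : D) : G)
    with hg'
  have hginj : Function.Injective g' := by
    rintro ⟨⟨a, c⟩, ha⟩ ⟨⟨b, c'⟩, hb⟩ e
    have e' : yD ^ a.val * (c : D) = yD ^ b.val * (c' : D) := Subtype.ext e
    have h1 : yD ^ (a - b).val * (c : D) = (c' : D) := by
      have h2 : yD ^ b.val * (yD ^ (a - b).val) = yD ^ a.val := by
        refine Subtype.ext ?_
        show (y : G) ^ b.val * (y : G) ^ (a - b).val = (y : G) ^ a.val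
        rw [← pow_add, pow_eq_pow_mod _ hyp, ← ZMod.val_add, add_sub_cancel]
      rw [← h2, mul_assoc] at e'
      exact mul_left_cancel e'
    have h3 := hkzero _ c c' h1
    rw [ZMod.natCast_zmod_val, sub_eq_zero] at h3
    subst h3
    rw [sub_self, ZMod.val_zero, pow_zero, one_mul] at h1
    exact Subtype.ext (Prod.ext rfl (Subtype.ext h1))
  have hpow : ∀ (t : {t : ZMod p × C0 // t.1 ≠ 0}) (N : ℕ),
      g' t ^ N = (y : G) ^ (t.1.1.val * N) * ((t.1.2 : D) : G) ^ N := fun t N => by
    rw [hg', ((show Commute (y : G) ((t.1.2 : D) : G) from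
      (hDcomm _).symm).pow_left _).mul_pow, ← pow_mul]
  set Nm := (Finset.univ : Finset G).filter fun w => ∃ k : ℕ, w * (y : G) * w⁻¹ = (y : G) ^ k with hNm
  have hMem : ∀ w i j, w * g' i * w⁻¹ = g' j → w ∈ Nm := by
    intro w i j e
    refine Finset.mem_filter.2 ⟨Finset.mem_univ _, ?_⟩
    obtain ⟨N₁, hN₁, hz₁⟩ := hcop i.1.2
    obtain ⟨N₂, hN₂, hz₂⟩ := hcop j.1.2
    have e1 := congrArg (fun v => v ^ (N₁ * N₂)) e
    simp only [conj_pow, hpow] at e1
    have hz₁' : ((i.1.2 : D) : G) ^ (N₁ * N₂) ∈ Subgroup.center G := by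
      rw [pow_mul]; exact pow_mem hz₁ _
    have hz₂' : ((j.1.2 : D) : G) ^ (N₁ * N₂) ∈ Subgroup.center G := by
      rw [mul_comm, pow_mul]; exact pow_mem hz₂ _
    set z₁ := ((i.1.2 : D) : G) ^ (N₁ * N₂)
    set z₂ := ((j.1.2 : D) : G) ^ (N₁ * N₂)
    set A := (y : G) ^ (i.1.1.val * (N₁ * N₂)) with hA
    set A' := (y : G) ^ (j.1.1.val * (N₁ * N₂)) with hA'
    have hzw : w * A * w⁻¹ = A' * (z₂ * z₁⁻¹) := by
      calc w * A * w⁻¹ = w * (A * z₁) * w⁻¹ * (w * z₁ * w⁻¹)⁻¹ := by group
        _ = A' * z₂ * z₁⁻¹ := by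
          rw [e1, Subgroup.mem_center_iff.1 hz₁' w, mul_inv_cancel_right]
        _ = _ := mul_assoc _ _ _
    have hzM : z₂ * z₁⁻¹ ∈ M := by
      have h1 : w * A * w⁻¹ ∈ M := (inferInstance : M.Normal).conj_mem _ (pow_mem y.2 _) w
      rw [hzw] at h1
      exact (M.mul_mem_cancel_left (pow_mem y.2 _)).1 h1
    have hzc : z₂ * z₁⁻¹ ∈ Subgroup.center G := mul_mem hz₂' (inv_mem hz₁')
    have hzp : (z₂ * z₁⁻¹) ^ p = 1 := by
      have h1 := congrArg (fun v => v ^ p) hzw
      simp only [conj_pow] at h1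
      rw [hA, ← pow_mul, mul_comm _ p, pow_mul, hyp, one_pow, mul_one, mul_inv_cancel,
        (show Commute A' (z₂ * z₁⁻¹) from Subgroup.mem_center_iff.1 hzc A').mul_pow, hA', ← pow_mul,
        mul_comm _ p, pow_mul, hyp, one_pow, one_mul] at h1
      exact h1.symm
    have hz1 : z₂ * z₁⁻¹ = 1 := congrArg Subtype.val (h.eq_one_of_pow (z := ⟨_, hzM⟩)
      (Subgroup.mem_center_iff.2 fun a => Subtype.ext (Subgroup.mem_center_iff.1 hzc a))
      (Subtype.ext hzp))
    rw [hz1, mul_one] at hzw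
    obtain ⟨r, hr⟩ : ∃ r, A ^ r = (y : G) := by
      have hne' : ((i.1.1.val * (N₁ * N₂) : ℕ) : ZMod p) ≠ 0 := by
        rw [Nat.cast_mul, ZMod.natCast_zmod_val, Nat.cast_mul]
        refine mul_ne_zero i.2 (mul_ne_zero ?_ ?_) <;> rw [Ne, ZMod.natCast_eq_zero_iff] <;>
          assumption
      refine ⟨((i.1.1.val * (N₁ * N₂) : ℕ) : ZMod p)⁻¹.val, ?_⟩
      rw [hA, ← pow_mul, pow_eq_pow_mod _ hyp, ← ZMod.val_natCast, Nat.cast_mul,
        ZMod.natCast_zmod_val, mul_inv_cancel₀ hne', ZMod.val_one, pow_one]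
    refine ⟨j.1.1.val * (N₁ * N₂) * r, ?_⟩
    conv_lhs => rw [← hr]
    rw [← conj_pow, hzw, hA', ← pow_mul]
  -- the weight
  have hEn : ∀ w, ‖E w‖ = 1 := fun w => Complex.norm_eq_one_of_pow_eq_one (n := orderOf w)
    (by rw [← map_pow, pow_orderOf_eq_one, map_one]) (orderOf_pos w).ne'
  let f : G → ℝ := fun w => Complex.normSq (θ.character w) * (1 - (E w).re)
  have hf0 : ∀ w, 0 ≤ f w := fun w => mul_nonneg (Complex.normSq_nonneg _)
    (sub_nonneg.2 ((Complex.re_le_norm _).trans (hEn w).le))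
  have hconj : ∀ a w, f (a * w * a⁻¹) = f w := fun a w => by
    have : E (a * w * a⁻¹) = E w := by
      rw [map_mul, map_mul, mul_comm (E a), mul_assoc, ← map_mul, mul_inv_cancel, map_one, mul_one]
    simp only [f, θ.char_conj, this]
  have hbound := conj_sum_le f hf0 hconj g' hginj Nm hMem
  -- the size of the normaliser
  set Ksq := (Finset.univ : Finset (ZMod p)).filter fun k => IsSquare k ∧ k ≠ 0 with hKsq
  have hKcard : 2 * Ksq.card + 1 = p := by
    rw [hKsq]
    rcases h.cases with ⟨rfl, -⟩ | ⟨rfl, -⟩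
    · convert card_nonzero_five
    · convert card_nonzero_seven
  have hNcard : Nm.card ≤ Ksq.card * (p * Fintype.card C0) := by
    refine (card_normalising_le hyp Ksq fun w k hw => Finset.mem_filter.2
      ⟨Finset.mem_univ _, hexpG w k hw⟩).trans (Nat.mul_le_mul_left _ ?_)
    have hsub : ((Finset.univ : Finset G).filter fun c => c * (y : G) = (y : G) * c) ⊆
        (Finset.univ : Finset (ZMod p × C0)).image
          fun t => ((t.2 : D) : G) * (y : G) ^ t.1.val := by
      intro c hc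
      obtain ⟨k, hk⟩ := hcd ⟨c, Subgroup.mem_centralizer_singleton_iff.2 (Finset.mem_filter.1 hc).2⟩
      refine Finset.mem_image.2 ⟨(-(k : ZMod p), ⟨_, hk⟩), Finset.mem_univ _, ?_⟩
      show c * (y : G) ^ k * (y : G) ^ (-(k : ZMod p)).val = c
      rw [mul_assoc, ← pow_add, pow_eq_pow_mod _ hyp, ← ZMod.val_natCast, Nat.cast_add,
        ZMod.natCast_zmod_val, add_neg_cancel, ZMod.val_zero, pow_zero, mul_one]
    refine (Finset.card_le_card hsub).trans (Finset.card_image_le.trans ?_)
    rw [Finset.card_univ, Fintype.card_prod, ZMod.card]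
  -- the total
  have hEu : ∀ w, E w ≠ 0 := fun w => norm_ne_zero_iff.1 (by rw [hEn]; exact one_ne_zero)
  have htot : ∑ w, f w ≤ (Nat.card G : ℝ) := by
    let Eu : G →* ℂˣ := E.toHomUnits
    have hχ : Cfsg.IsIrrCharacter G θ.character := Char.isIrrCharacter_of_rep θ
    obtain ⟨n, hn⟩ := Char.IsCharacter.exists_classInner_nat
      (Char.IsCharacter.mul (Char.IsIrrCharacter.isCharacter hχ)
        (Char.IsIrrCharacter.isCharacter (Char.isIrrCharacter_linear Eu)))
      (Char.IsIrrCharacter.isCharacter hχ)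
    have hself := Char.classInner_self_irr hχ
    rw [classInner, inv_mul_eq_one₀ (Nat.cast_ne_zero.2 Nat.card_pos.ne')] at hself
    rw [classInner, inv_mul_eq_iff_eq_mul₀ (Nat.cast_ne_zero.2 Nat.card_pos.ne')] at hn
    have h1 : ∑ w, f w = (Nat.card G : ℝ) - (Nat.card G : ℝ) * n := by
      have h2 : ((∑ w, f w : ℝ) : ℂ).re =
          ((Nat.card G : ℂ) - (Nat.card G : ℂ) * n).re := by
        rw [← hn, hself, ← Finset.sum_sub_distrib, Complex.ofReal_re, Complex.re_sum]
        refine Finset.sum_congr rfl fun w _ => ?_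
        show Complex.normSq _ * (1 - (E w).re) =
          (θ.character w * conj (θ.character w) - θ.character w * E w * conj (θ.character w)).re
        rw [show θ.character w * conj (θ.character w) - θ.character w * E w * conj (θ.character w) =
          (θ.character w * conj (θ.character w)) * (1 - E w) by ring, Complex.mul_conj,
          Complex.re_ofReal_mul, Complex.sub_re, Complex.one_re]
      simpa using h2
    rw [h1]
    have : (0 : ℝ) ≤ (Nat.card G : ℝ) * n := by positivity
    linarith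
  set Y := (Finset.univ : Finset (G × {t : ZMod p × C0 // t.1 ≠ 0})).image
    fun t => t.1 * g' t.2 * t.1⁻¹ with hY
  have hd2 : 2 * d = p + 1 ∧ 3 ≤ d := by rcases h.cases with ⟨rfl, rfl⟩ | ⟨rfl, rfl⟩ <;> omega
  have hYlt : ∑ w ∈ Y, f w < (Nat.card G : ℝ) := by
    refine lt_of_lt_of_le (Finset.sum_lt_sum_of_subset (Finset.subset_univ Y)
      (i := ((c₁ : D) : G)) (Finset.mem_univ _) ?_ ?_ fun w _ _ => hf0 w) htot
    · intro hin
      obtain ⟨⟨a, t⟩, -, e⟩ := Finset.mem_image.1 hin
      obtain ⟨N₁, hN₁, hz₁⟩ := hcop c₁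
      obtain ⟨N₂, hN₂, hz₂⟩ := hcop t.1.2
      have e1 := congrArg (fun v => v ^ (N₁ * N₂)) e
      simp only [conj_pow, hpow] at e1
      have hA : (y : G) ^ (t.1.1.val * (N₁ * N₂)) ∈ Subgroup.center G := by
        have hc : ((c₁ : D) : G) ^ (N₁ * N₂) ∈ Subgroup.center G := by
          rw [pow_mul]; exact pow_mem hz₁ _
        have ht : ((t.1.2 : D) : G) ^ (N₁ * N₂) ∈ Subgroup.center G := by
          rw [mul_comm, pow_mul]; exact pow_mem hz₂ _
        set z := ((t.1.2 : D) : G) ^ (N₁ * N₂)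
        set zc := ((c₁ : D) : G) ^ (N₁ * N₂)
        set A := (y : G) ^ (t.1.1.val * (N₁ * N₂))
        have hAe : A = zc * z⁻¹ := by
          calc A = a⁻¹ * (a * (A * z) * a⁻¹) * a * z⁻¹ := by group
            _ = a⁻¹ * zc * a * z⁻¹ := by rw [e1]
            _ = zc * z⁻¹ := by rw [Subgroup.mem_center_iff.1 hc a⁻¹, inv_mul_cancel_right]
        rw [hAe]
        exact mul_mem hc (inv_mem ht)
      have hAD : (y : G) ^ (t.1.1.val * (N₁ * N₂)) ∈ D := pow_mem hyD _
      have hAC : (⟨_, hAD⟩ : D) ∈ C0 := fun i i' _ _ => hscal0 _ hA hAD i i'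
      have h0 := hkzero (t.1.1.val * (N₁ * N₂)) 1 ⟨_, hAC⟩ (Subtype.ext (by simp [hyDd]))
      rw [Nat.cast_mul, ZMod.natCast_zmod_val, Nat.cast_mul] at h0
      rcases mul_eq_zero.1 h0 with e2 | e2
      · exact t.2 e2
      · rcases mul_eq_zero.1 e2 with e3 | e3 <;> rw [ZMod.natCast_eq_zero_iff] at e3
        · exact hN₁ e3
        · exact hN₂ e3
    · refine mul_pos (Complex.normSq_pos.2 ?_) (sub_pos.2 ?_)
      · intro h0
        have hval : θ.character ((c₁ : D) : G) =
            l (c₁ : D) i₀ + ((d - 1 : ℕ) : ℂ) * l (c₁ : D) i₁ := by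
          rw [Representation.character, LinearMap.trace_eq_matrix_trace ℂ B, Matrix.trace,
            ← Finset.add_sum_erase _ _ (Finset.mem_univ i₀)]
          have hdiag : ∀ i, LinearMap.toMatrix B B (θ ((c₁ : D) : G)) i i = l (c₁ : D) i := fun i => by
            rw [LinearMap.toMatrix_apply, hl, map_smul, B.repr_self]; simp
          simp only [Matrix.diag_apply, hdiag]
          rw [Finset.sum_congr rfl (g := fun _ => l (c₁ : D) i₁) fun i hi => c₁.2 i i₁
            (fun e => Finset.ne_of_mem_erase hi (hεi (e.trans hi₀.symm))) hi₁', Finset.sum_const,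
            Finset.card_erase_of_mem (Finset.mem_univ _), Finset.card_univ, Fintype.card_fin,
            nsmul_eq_mul]
        rw [hval, add_eq_zero_iff_eq_neg] at h0
        have h1 : ‖l (c₁ : D) i₀‖ = ‖-(((d - 1 : ℕ) : ℂ) * l (c₁ : D) i₁)‖ := by rw [h0]
        rw [norm_neg, norm_mul, hln, hln, mul_one, Complex.norm_natCast] at h1
        have : d - 1 = 1 := by exact_mod_cast h1.symm
        omega
      · rcases lt_or_eq_of_le ((Complex.re_le_norm (E ((c₁ : D) : G))).trans (hEn _).le) with h1 | h1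
        · exact h1
        exfalso
        apply hc₁
        rw [← hEc]
        have h2 := hEn ((c₁ : D) : G)
        have h3 : (E ((c₁ : D) : G)).im = 0 := by
          have h4 := Complex.sq_norm (E ((c₁ : D) : G))
          rw [h2, Complex.normSq_apply, h1] at h4
          nlinarith
        exact Complex.ext (by rw [h1, Complex.one_re]) (by rw [h3, Complex.one_im])
  -- the family is heavy
  have hEy : ∀ t, E (g' t) = m t.1.2 := fun t => by
    refine hwell _ _ ?_
    show (y : G) ^ t.1.1.val * ((t.1.2 : D) : G) * ((t.1.2 : D) : G)⁻¹ ∈ M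
    rw [mul_inv_cancel_right]
    exact pow_mem y.2 _
  have hval : ∀ (a : ZMod p) (c : C0), θ.character ((y : G) ^ a.val * ((c : D) : G)) =
      ∑ i, l (c : D) i * ZMod.stdAddChar (a * ε i) := by
    intro a c
    rw [Representation.character, LinearMap.trace_eq_matrix_trace ℂ B, Matrix.trace]
    refine Finset.sum_congr rfl fun i _ => ?_
    rw [Matrix.diag_apply, LinearMap.toMatrix_apply, map_mul, Module.End.mul_apply, hl, map_smul,
      hypow, smul_smul, map_smul, B.repr_self, ZMod.natCast_zmod_val]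
    simp
  set e' : ℝ := ((d - 1 : ℕ) : ℝ) with he'
  have hinner : ∀ c : C0, ∑ a ∈ (Finset.univ : Finset (ZMod p)).erase 0,
      Complex.normSq (∑ i, l (c : D) i * ZMod.stdAddChar (a * ε i)) =
        (p : ℝ) * d - (1 + e' ^ 2 + 2 * e' * (m c).re) := by
    intro c
    rw [Finset.sum_erase_eq_sub (Finset.mem_univ 0), sum_normSq_weighted ε hεi]
    have h1 : ∀ i, Complex.normSq (l (c : D) i) = 1 := fun i => by
      rw [Complex.normSq_eq_norm_sq, hln]; norm_num
    rw [Finset.sum_congr rfl fun i _ => h1 i, Finset.sum_const, Finset.card_univ, Fintype.card_fin,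
      nsmul_eq_mul, mul_one]
    congr 1
    simp only [zero_mul, AddChar.map_zero_eq_one, mul_one]
    rw [← Finset.add_sum_erase _ _ (Finset.mem_univ i₀),
      Finset.sum_congr rfl (g := fun _ => l (c : D) i₁) fun i hi => c.2 i i₁
        (fun e => Finset.ne_of_mem_erase hi (hεi (e.trans hi₀.symm))) hi₁', Finset.sum_const,
      Finset.card_erase_of_mem (Finset.mem_univ _), Finset.card_univ, Fintype.card_fin, nsmul_eq_mul,
      Complex.normSq_add, Complex.normSq_mul, Complex.normSq_natCast, h1, h1, he']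
    show _ = 1 + _ + 2 * _ * (l (c : D) i₀ * conj (l (c : D) i₁)).re
    rw [map_mul, Complex.conj_natCast, ← mul_assoc, mul_comm (l (c : D) i₀) ((d - 1 : ℕ) : ℂ),
      mul_assoc]
    simp only [Complex.mul_re, Complex.mul_im, Complex.natCast_re, Complex.natCast_im]
    ring
  have hsum : ∑ t, f (g' t) =
      ∑ c : C0, (1 - (m c).re) * ((p : ℝ) * d - (1 + e' ^ 2 + 2 * e' * (m c).re)) := by
    rw [← Finset.sum_subtype ((Finset.univ : Finset (ZMod p)).erase 0 ×ˢ (Finset.univ : Finset C0))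
      (fun t => by simp) (fun t : ZMod p × C0 => Complex.normSq
        (θ.character ((y : G) ^ t.1.val * ((t.2 : D) : G))) * (1 - (m t.2).re)) |>.trans
        (Finset.sum_congr rfl fun t _ => by
          show _ = Complex.normSq (θ.character (g' t)) * (1 - (E (g' t)).re)
          rw [hEy])]
    rw [Finset.sum_product_right]
    refine Finset.sum_congr rfl fun c _ => ?_
    dsimp only
    rw [← Finset.sum_mul, mul_comm, Finset.sum_congr rfl fun a _ =>
      congrArg Complex.normSq (hval a c), hinner c]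
  have hm0 : ∑ c : C0, m c = 0 := sum_hom_units_eq_zero m fun e => hc₁ (by rw [e]; rfl)
  have hmre : ∑ c : C0, (m c).re = 0 := by rw [← Complex.re_sum, hm0, Complex.zero_re]
  have hm2 : (Fintype.card C0 : ℝ) ≤ 2 * ∑ c : C0, (m c).re ^ 2 := by
    have hpt : ∀ c : C0, 2 * (m c).re ^ 2 = 1 + ((m * m : C0 →* ℂ) c).re := fun c => by
      have h1 : ‖m c‖ = 1 := by rw [← hEc]; exact hEn _
      have h2 := Complex.sq_norm (m c)
      rw [h1, Complex.normSq_apply] at h2
      rw [MonoidHom.mul_apply, Complex.mul_re]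
      nlinarith
    rw [Finset.mul_sum, Finset.sum_congr rfl fun c _ => hpt c, Finset.sum_add_distrib,
      Finset.sum_const, Finset.card_univ, nsmul_eq_mul, mul_one, ← Complex.re_sum]
    have h0 : 0 ≤ (∑ c : C0, (m * m : C0 →* ℂ) c).re := by
      by_cases e : m * m = 1
      · rw [e]; simp
      · rw [sum_hom_units_eq_zero _ e, Complex.zero_re]
    linarith
  have hlow : (Fintype.card C0 : ℝ) * ((p : ℝ) * d - 1 - e' ^ 2 + e') ≤ ∑ t, f (g' t) := by
    rw [hsum, Finset.sum_congr rfl (g := fun c : C0 => ((p : ℝ) * d - 1 - e' ^ 2) +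
      (-((p : ℝ) * d - 1 - e' ^ 2 + 2 * e')) * (m c).re + 2 * e' * (m c).re ^ 2) fun c _ => by ring]
    rw [Finset.sum_add_distrib, Finset.sum_add_distrib, Finset.sum_const, Finset.card_univ,
      nsmul_eq_mul, ← Finset.mul_sum, ← Finset.mul_sum, hmre, mul_zero, add_zero]
    have := mul_le_mul_of_nonneg_left hm2 (show (0 : ℝ) ≤ e' by positivity)
    linarith
  have hYnn : (0 : ℝ) ≤ ∑ w ∈ Y, f w := Finset.sum_nonneg fun w _ => hf0 w
  have hC0pos : (0 : ℝ) < Fintype.card C0 := by exact_mod_cast Fintype.card_pos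
  have hGpos : (0 : ℝ) < Nat.card G := by exact_mod_cast Nat.card_pos
  have hNcard' : (Nm.card : ℝ) ≤ (Ksq.card : ℝ) * ((p : ℝ) * Fintype.card C0) := by
    exact_mod_cast hNcard
  have h1 := (mul_le_mul_of_nonneg_left hlow hGpos.le).trans
    (hbound.trans (mul_le_mul_of_nonneg_right hNcard' hYnn))
  have hKpos : (0 : ℝ) < (Ksq.card : ℝ) * ((p : ℝ) * Fintype.card C0) := by
    have hK0 : 0 < Ksq.card := by omega
    exact mul_pos (Nat.cast_pos.2 hK0) (mul_pos (Nat.cast_pos.2 hp.pos) hC0pos)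
  have h2 := h1.trans_lt (mul_lt_mul_of_pos_left hYlt hKpos)
  rcases h.cases with ⟨rfl, rfl⟩ | ⟨rfl, rfl⟩
  · have he2 : e' = 2 := by rw [he']; norm_num
    rw [show Ksq.card = 2 by omega, he2] at h2
    push_cast at h2
    nlinarith [mul_pos hGpos hC0pos]
  · have he2 : e' = 3 := by rw [he']; norm_num
    rw [show Ksq.card = 3 by omega, he2] at h2
    push_cast at h2
    nlinarith [mul_pos hGpos hC0pos]

/-- The central factor group is that of the core. -/
theorem quotient_equiv [θ.IsIrreducible] (hθ : Function.Injective θ)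
    (hind : ¬ p ^ 2 ∣ (Subgroup.center G).index)
    (h : HalfCore p d (MonoidHom.comp θ M.subtype : Representation ℂ M (Fin d → ℂ)) y) :
    Nonempty (G ⧸ Subgroup.center G ≃* M ⧸ Subgroup.center M) := by
  haveI := h.irr
  let ψ : M →* G ⧸ Subgroup.center G := (QuotientGroup.mk' _).comp M.subtype
  have hψs : Function.Surjective ψ := fun q => by
    obtain ⟨g, rfl⟩ := QuotientGroup.mk_surjective q
    obtain ⟨a, ha, z, hz, rfl⟩ :=
      Subgroup.mem_sup_of_normal_right.1 (mem_sup_center θ M hθ hind h g)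
    exact ⟨⟨a, ha⟩, QuotientGroup.eq.2 (by simpa using hz)⟩
  have hψk : ψ.ker = Subgroup.center M := by
    ext a
    rw [MonoidHom.mem_ker]
    show ((a : G) : G ⧸ Subgroup.center G) = 1 ↔ _
    rw [QuotientGroup.eq_one_iff]
    exact ⟨fun h => Subgroup.mem_center_iff.2 fun w => Subtype.ext (Subgroup.mem_center_iff.1 h w),
      fun ha => center_map_le θ hθ M ⟨a, ha, rfl⟩⟩
  exact ⟨(QuotientGroup.quotientKerEquivOfSurjective ψ hψs).symm.trans
    (QuotientGroup.quotientMulEquivOfEq hψk)⟩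

end HalfCore

end Cfsg.Agent.Feit
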