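import Cfsg.Agent.Lib.Feit.CyclicMult
import Mathlib.RingTheory.Nilpotent.Defs
import Mathlib.GroupTheory.Perm.Cycle.Type

/-!
The excluded element orders in a half core: a character fixed by the powers prime to the order of the
group has full orbits of eigenvalues.
-/

set_option autoImplicit false
set_option linter.unusedSectionVars false

namespace Cfsg.Agent.Feit

open Finset
open scoped Classical

universe u

variable {L : Type u} [Group L] [Finite L] {p d : ℕ} [NeZero p]
variable {ρ : Representation ℂ L (Fin d → ℂ)} {x : L}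

/-- The character is fixed by the powers that are squares modulo `p` and fix the centre. -/
def GalFixed (p : ℕ) (ρ : Representation ℂ L (Fin d → ℂ)) : Prop :=
  ∀ k : ℕ, k.Coprime (Nat.card L) → IsSquare (k : ZMod p) → (∀ z ∈ Subgroup.center L, z ^ k = z) →
    ∀ g : L, ρ.character (g ^ k) = ρ.character g

theorem center_pow_eq (hzd : Nat.card (Subgroup.center L) ∣ d) {k : ℕ} (hk : k ≡ 1 [MOD d]) {z : L}
    (hz : z ∈ Subgroup.center L) : z ^ k = z := by
  have hd : orderOf z ∣ d := ((Subgroup.orderOf_dvd_natCard _ hz)).trans hzd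
  conv_rhs => rw [← pow_one z]
  exact pow_eq_pow_iff_modEq.2 (hk.of_dvd hd)

variable (h : HalfCore p d ρ x) (hgal : GalFixed p ρ) (hzd : Nat.card (Subgroup.center L) ∣ d)

include h hgal hzd

theorem mult_orbit {n : ℕ} [NeZero n] (hn : n.Coprime (p * d)) {g : L} (hg : g ^ n = 1) (v : (ZMod n)ˣ)
    (j : ZMod n) : CMult.mult ρ n g ((v : ZMod n) * j) = CMult.mult ρ n g j := by
  refine CMult.mult_unit ρ hg v (fun i => ?_) j
  obtain ⟨k₀, hk1, hk2⟩ := Nat.chineseRemainder hn (v : ZMod n).val 1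
  set M := n * (p * d) with hM
  have hd0 : d ≠ 0 := by rcases h.cases with ⟨-, rfl⟩ | ⟨-, rfl⟩ <;> omega
  have hco : k₀.Coprime M := by
    refine Nat.Coprime.mul_right ?_ ?_
    · rw [Nat.coprime_iff_gcd_eq_one, hk1.gcd_eq]
      exact ZMod.val_coe_unit_coprime v
    · rw [Nat.coprime_iff_gcd_eq_one, hk2.gcd_eq, Nat.gcd_one_left]
  haveI : NeZero M := ⟨by rw [hM]; exact mul_ne_zero (NeZero.ne n) (mul_ne_zero (NeZero.ne p) hd0)⟩
  haveI : NeZero (M * Nat.card L) := ⟨mul_ne_zero (NeZero.ne M) Nat.card_pos.ne'⟩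
  obtain ⟨w, hw⟩ := ZMod.unitsMap_surjective (Dvd.intro (Nat.card L) rfl : M ∣ M * Nat.card L)
    (ZMod.unitOfCoprime k₀ hco)
  set k := (w : ZMod (M * Nat.card L)).val with hk
  have hkk : k ≡ k₀ [MOD M] := by
    rw [← ZMod.natCast_eq_natCast_iff, hk, ZMod.natCast_val]
    have := congrArg Units.val hw
    simpa [ZMod.unitsMap_val] using this
  have hkL : k.Coprime (Nat.card L) :=
    Nat.Coprime.coprime_dvd_right (dvd_mul_left _ M) (ZMod.val_coe_unit_coprime w)
  have hkpd : k ≡ 1 [MOD p * d] := (hkk.of_dvd (dvd_mul_left _ _)).trans hk2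
  have hkn : (k : ZMod n) = (v : ZMod n) := by
    rw [← ZMod.natCast_zmod_val (v : ZMod n), ZMod.natCast_eq_natCast_iff]
    exact (hkk.of_dvd (dvd_mul_right _ _)).trans hk1
  have hsq : IsSquare (k : ZMod p) := by
    have e : (k : ZMod p) = ((1 : ℕ) : ZMod p) := (ZMod.natCast_eq_natCast_iff _ _ _).2 hkpd.of_mul_right
    rw [e, Nat.cast_one]
    exact IsSquare.one
  have key := hgal k hkL hsq (fun z hz => center_pow_eq hzd hkpd.of_mul_left hz) (g ^ i.val)
  rw [← pow_mul] at key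
  refine Eq.trans (congrArg ρ.character (pow_eq_pow_iff_modEq.2 ?_)) key
  refine Nat.ModEq.of_dvd (orderOf_dvd_of_pow_eq_one hg) ?_
  rw [← ZMod.natCast_eq_natCast_iff, ZMod.natCast_zmod_val, Nat.cast_mul, ZMod.natCast_zmod_val, hkn, mul_comm]

theorem not_dvd_prime {r : ℕ} (hr : r.Prime) (hco : r.Coprime (p * d)) (hbig : d + 1 < r) :
    ¬ r ∣ Nat.card L := by
  intro hdvd
  haveI : Fact r.Prime := ⟨hr⟩
  haveI : NeZero r := ⟨hr.ne_zero⟩
  obtain ⟨g, hg⟩ := exists_prime_orderOf_dvd_card' r hdvd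
  have hg1 : g ^ r = 1 := hg ▸ pow_orderOf_eq_one g
  have hzero : ∀ j : ZMod r, CMult.mult ρ r g j ≠ 0 → j = 0 := by
    intro j hj
    by_contra hj0
    have hall : ∀ i ∈ (Finset.univ.erase (0 : ZMod r)), 1 ≤ CMult.mult ρ r g i := by
      intro i hi
      have hi0 := (Finset.mem_erase.1 hi).1
      have := mult_orbit h hgal hzd hco hg1 (Units.mk0 (i * j⁻¹) (mul_ne_zero hi0 (inv_ne_zero hj0))) j
      rw [Units.val_mk0, inv_mul_cancel_right₀ hj0] at this
      omega
    have h1 := (Finset.card_nsmul_le_sum _ _ 1 hall).trans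
      ((Finset.sum_le_sum_of_subset (Finset.erase_subset _ _)).trans_eq (CMult.sum_mult ρ hg1))
    rw [Finset.card_erase_of_mem (Finset.mem_univ _), Finset.card_univ, ZMod.card, smul_eq_mul, mul_one] at h1
    omega
  have h1 := CMult.rho_pow_eq_one ρ hg1 (i := 1) fun j hj => by rw [hzero j hj, mul_zero]
  rw [pow_one] at h1
  have hg0 : g = 1 := h.inj (h1.trans (map_one ρ).symm)
  rw [hg0, orderOf_one] at hg
  exact hr.ne_one hg.symm

omit h hgal hzd in
theorem fifteen_orbits : ∀ j j' : ZMod 15, 5 * j ≠ 0 → 3 * j' ≠ 0 →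
    5 ≤ (((({1, 2, 4, 7, 8, 11, 13, 14} : Finset (ZMod 15))).image (· * j)) ∪
      ((({1, 2, 4, 7, 8, 11, 13, 14} : Finset (ZMod 15))).image (· * j'))).card := by
  decide +kernel

/-- There is no element of order fifteen in degree four. -/
theorem no_order_fifteen (hp : p = 7) {g : L} : orderOf g ≠ 15 := by
  intro hg
  have hd : d = 4 := by
    rcases h.cases with ⟨h1, -⟩ | ⟨-, h2⟩
    · omega
    · exact h2
  have hg1 : g ^ 15 = 1 := hg ▸ pow_orderOf_eq_one g
  have hco : Nat.Coprime 15 (p * d) := by subst hp hd; decide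
  have hne : ∀ m : ℕ, 0 < m → m < 15 → ∃ j, CMult.mult ρ 15 g j ≠ 0 ∧ (m : ZMod 15) * j ≠ 0 := by
    intro m hm hm15
    by_contra hall
    push Not at hall
    exact pow_ne_one_of_lt_orderOf hm.ne' (hg ▸ hm15)
      (h.inj ((CMult.rho_pow_eq_one ρ hg1 hall).trans (map_one ρ).symm))
  obtain ⟨j, hj, hj5⟩ := hne 5 (by omega) (by omega)
  obtain ⟨j', hj', hj3⟩ := hne 3 (by omega) (by omega)
  set U : Finset (ZMod 15) := {1, 2, 4, 7, 8, 11, 13, 14} with hU
  have hunit : ∀ w ∈ U, ∃ v : (ZMod 15)ˣ, (v : ZMod 15) = w := by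
    intro w hw
    have : ∃ w' : ZMod 15, w * w' = 1 := by
      revert w
      decide +kernel
    obtain ⟨w', hw'⟩ := this
    exact ⟨Units.mkOfMulEqOne w w' hw', rfl⟩
  have hall : ∀ i ∈ U.image (· * j) ∪ U.image (· * j'), 1 ≤ CMult.mult ρ 15 g i := by
    intro i hi
    simp only [Finset.mem_union, Finset.mem_image] at hi
    rcases hi with ⟨w, hw, rfl⟩ | ⟨w, hw, rfl⟩ <;> obtain ⟨v, hv⟩ := hunit w hw <;>
      rw [← hv, mult_orbit h hgal hzd hco hg1 v] <;> omega
  have h1 := (Finset.card_nsmul_le_sum _ _ 1 hall).trans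
    ((Finset.sum_le_sum_of_subset (Finset.subset_univ _)).trans_eq (CMult.sum_mult ρ hg1))
  rw [smul_eq_mul, mul_one] at h1
  have := fifteen_orbits j j' (by exact_mod_cast hj5) (by exact_mod_cast hj3)
  rw [← hU] at this
  omega

end Cfsg.Agent.Feit
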