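import Cfsg.Agent.Lib.Feit.HalfBound
import Cfsg.Agent.Lib.Classical.SL
import Cfsg.Agent.S0253
import Cfsg.Agent.S0494
import Cfsg.Agent.S0495
import Cfsg.Agent.S0496
import Cfsg.Agent.S0497
import Cfsg.Agent.S0984
import Cfsg.Agent.S0997
import Mathlib.GroupTheory.SpecificGroups.Alternating
import Mathlib.GroupTheory.Sylow

/-!
The quotient of a half core by its centre.
-/

set_option autoImplicit false
set_option linter.unusedSectionVars false
set_option linter.style.haveILetI false

namespace Cfsg.Agent.Feit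

open scoped Classical

universe u

/-- The possible orders of the simple quotient for the prime five. -/
theorem five_orders {S n : ℕ} (hS : S = n * 10) (hn : n ≡ 1 [MOD 5]) (h7 : ¬ 7 ∣ S)
    (hb : S ≤ 256 ∨ S ∣ 20160)
    (hlist : S ≤ 1092 → S = 60 ∨ S = 168 ∨ S = 360 ∨ S = 504 ∨ S = 660 ∨ S = 1092) :
    S = 60 ∨ S = 360 := by
  rcases hb with hb | hb
  · rcases hlist (by omega) with h | h | h | h | h | h <;> omega
  · have h1 : S ∣ 7 * 2880 := by simpa using hb
    have h2 : S ∣ 2880 := ((Nat.Prime.coprime_iff_not_dvd (by norm_num)).2 h7).symm.dvd_of_dvd_mul_left h1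
    have h3 : n * 10 ∣ 288 * 10 := hS ▸ h2
    have h4 : n ∈ Nat.divisors 288 := Nat.mem_divisors.2 ⟨Nat.dvd_of_mul_dvd_mul_right (by norm_num) h3, by norm_num⟩
    rw [show Nat.divisors 288 = {1, 2, 3, 4, 6, 8, 9, 12, 16, 18, 24, 32, 36, 48, 72, 96, 144, 288} by decide +kernel] at h4
    simp only [Finset.mem_insert, Finset.mem_singleton] at h4
    unfold Nat.ModEq at hn
    rcases hlist (by omega) with h | h | h | h | h | h <;> omega

/-- The possible orders of the simple quotient for the prime seven. -/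
theorem seven_orders {S n : ℕ} (hS : S = n * 21) (hn : n ≡ 1 [MOD 7]) (hb : S ≤ 512 ∨ (S ∣ 20160 ∧ S ≠ 20160))
    (hlist : S ≤ 1092 → S = 60 ∨ S = 168 ∨ S = 360 ∨ S = 504 ∨ S = 660 ∨ S = 1092) :
    S = 168 ∨ S = 1344 ∨ S = 2520 := by
  unfold Nat.ModEq at hn
  rcases hb with hb | ⟨hb, hne⟩
  · rcases hlist (by omega) with h | h | h | h | h | h <;> omega
  · have h4 : n ∈ Nat.divisors 960 :=
      Nat.mem_divisors.2 ⟨Nat.dvd_of_mul_dvd_mul_right (by norm_num : 0 < 21) (hS ▸ hb), by norm_num⟩
    rw [show Nat.divisors 960 = {1, 2, 3, 4, 5, 6, 8, 10, 12, 15, 16, 20, 24, 30, 32, 40, 48, 60, 64, 80, 96, 120,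
      160, 192, 240, 320, 480, 960} by decide +kernel] at h4
    simp only [Finset.mem_insert, Finset.mem_singleton] at h4
    rcases h4 with h | h | h | h | h | h | h | h | h | h | h | h | h | h | h | h | h | h | h | h | h | h | h | h |
      h | h | h | h <;> first
        | omega
        | (rcases hlist (by omega) with h | h | h | h | h | h <;> omega)

variable {L : Type u} [Group L] [Finite L] {p d : ℕ} [NeZero p]
variable {ρ : Representation ℂ L (Fin d → ℂ)} {x : L} (h : HalfCore p d ρ x)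

include h

/-- The number of Sylow `p`-subgroups gives the order of the quotient. -/
theorem index_eq [Fact p.Prime] (hzd : Nat.card (Subgroup.center L) ∣ d)
    (hrel : (Subgroup.centralizer ({x} : Set L)).relIndex
      (Subgroup.normalizer ((Subgroup.zpowers x : Subgroup L) : Set L)) = (p - 1) / 2) :
    ∃ n, n ≡ 1 [MOD p] ∧ (Subgroup.center L).index = n * (p * ((p - 1) / 2)) := by
  set Z := Subgroup.center L with hZ
  set N := Subgroup.normalizer ((Subgroup.zpowers x : Subgroup L) : Set L) with hN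
  set C := Subgroup.centralizer ({x} : Set L) with hC
  have hxZ := x_not_mem_center h hzd
  have hPc : Nat.card (Subgroup.zpowers x) = p := by rw [Nat.card_zpowers, h.ord]
  have hCN : C ≤ N := fun c hc => by
    have hcx : c * x * c⁻¹ = x := by
      rw [Subgroup.mem_centralizer_singleton_iff.1 hc, mul_inv_cancel_right]
    have hcy : ∀ y ∈ Subgroup.zpowers x, c * y * c⁻¹ = y := by
      rintro y ⟨k, rfl⟩
      show c * x ^ k * c⁻¹ = x ^ k
      rw [← conj_zpow, hcx]
    rw [hN, Subgroup.mem_normalizer_iff]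
    refine fun y => ⟨fun hy => by rwa [hcy y hy], fun hy => ?_⟩
    have h1 := hcy _ hy
    have h2 : c * y * c⁻¹ = y := by
      have := mul_left_cancel (mul_right_cancel h1)
      exact this
    rwa [h2] at hy
  have hCc : Nat.card C = p * Nat.card Z := by
    have hord : ∀ k : ℤ, x ^ k ∈ Z → x ^ k = 1 := fun k hk => by
      have h1 : orderOf (QuotientGroup.mk' Z x) = p := by
        refine ((Nat.dvd_prime Fact.out).1 (h.ord ▸ orderOf_map_dvd (QuotientGroup.mk' Z) x)).resolve_left fun e => ?_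
        exact hxZ ((QuotientGroup.eq_one_iff _).1 (orderOf_eq_one_iff.1 e))
      have h2 : (QuotientGroup.mk' Z x) ^ k = 1 := by
        rw [← map_zpow]; exact (QuotientGroup.eq_one_iff _).2 hk
      rw [← orderOf_dvd_iff_zpow_eq_one, h1, ← h.ord] at h2
      exact orderOf_dvd_iff_zpow_eq_one.1 h2
    rw [← hPc, ← Nat.card_prod]
    let f : Subgroup.zpowers x × Z → C := fun a => ⟨a.1.1 * a.2.1,
      C.mul_mem (Subgroup.zpowers_le.2 (Subgroup.mem_centralizer_singleton_iff.2 rfl) a.1.2)
        (Subgroup.center_le_centralizer _ a.2.2)⟩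
    refine (Nat.card_eq_of_bijective f ⟨fun a b hab => ?_, fun c => ?_⟩).symm
    · have e : a.1.1 * a.2.1 = b.1.1 * b.2.1 := congrArg Subtype.val hab
      have e2 : b.1.1⁻¹ * a.1.1 = b.2.1 * a.2.1⁻¹ := by
        rw [eq_mul_inv_iff_mul_eq, mul_assoc, e, inv_mul_cancel_left]
      obtain ⟨k, hk⟩ := (Subgroup.zpowers x).mul_mem ((Subgroup.zpowers x).inv_mem b.1.2) a.1.2
      have hk' : x ^ k = b.1.1⁻¹ * a.1.1 := hk
      have h1 : a.1.1 = b.1.1 := by
        have := hord k (by rw [hk', e2]; exact Z.mul_mem b.2.2 (Z.inv_mem a.2.2))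
        rw [hk', inv_mul_eq_one] at this
        exact this.symm
      rw [h1] at e
      exact Prod.ext (Subtype.ext h1) (Subtype.ext (mul_left_cancel e))
    · obtain ⟨i, z, hz, e⟩ := h.cent c.1 (Subgroup.mem_centralizer_singleton_iff.1 c.2)
      exact ⟨(⟨x ^ i, Subgroup.npow_mem_zpowers x i⟩, ⟨z, hz⟩), Subtype.ext e.symm⟩
  have hNc : Nat.card N = (p - 1) / 2 * (p * Nat.card Z) := by
    rw [← hCc, ← hrel, Subgroup.relIndex,
      ← Nat.card_congr (Subgroup.subgroupOfEquivOfLe hCN).toEquiv, mul_comm]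
    exact (Subgroup.card_mul_index _).symm
  have hfac : (Nat.card L).factorization p = 1 := by
    have hd1 : p ^ 1 ∣ Nat.card L := by rw [pow_one, ← h.ord]; exact orderOf_dvd_natCard x
    have h1 := (Nat.Prime.pow_dvd_iff_le_factorization Fact.out Nat.card_pos.ne').1 hd1
    by_contra hne
    exact h.sq ((Nat.Prime.pow_dvd_iff_le_factorization Fact.out Nat.card_pos.ne').2 (by omega))
  let P : Sylow p L := Sylow.ofCard (Subgroup.zpowers x) (by rw [hfac, pow_one, hPc])
  have hP : N.index = Nat.card (Sylow p L) := by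
    rw [P.card_eq_index_normalizer, hN]
    rfl
  refine ⟨N.index, hP ▸ card_sylow_modEq_one p L, ?_⟩
  have h1 := Subgroup.card_mul_index N
  rw [← Subgroup.card_mul_index Z, hNc] at h1
  refine Nat.eq_of_mul_eq_mul_left (Nat.card_pos (α := Z)) ?_
  rw [← h1]
  ring

/-- The orders of the half cores. -/
theorem halfCore_quotient (hgal : GalFixed p ρ) (hzd : Nat.card (Subgroup.center L) ∣ d)
    (hrel : (Subgroup.centralizer ({x} : Set L)).relIndex
      (Subgroup.normalizer ((Subgroup.zpowers x : Subgroup L) : Set L)) = (p - 1) / 2) :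
    (p = 5 ∧ (Nonempty (L ⧸ Subgroup.center L ≃* Matrix.ProjectiveSpecialLinearGroup (Fin 2) (ZMod p)) ∨
      Nonempty (L ⧸ Subgroup.center L ≃* alternatingGroup (Fin 6)))) ∨
    (p = 7 ∧ (Nonempty (L ⧸ Subgroup.center L ≃* Matrix.ProjectiveSpecialLinearGroup (Fin 2) (ZMod p)) ∨
      Nonempty (L ⧸ Subgroup.center L ≃* alternatingGroup (Fin 7)))) := by
  have hxZ := x_not_mem_center h hzd
  have hpp : p.Prime := by rcases h.cases with ⟨rfl, -⟩ | ⟨rfl, -⟩ <;> norm_num
  haveI : Fact p.Prime := ⟨hpp⟩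
  set Z := Subgroup.center L with hZ
  haveI : Nontrivial (L ⧸ Z) :=
    ⟨(x : L ⧸ Z), 1, fun e => hxZ ((QuotientGroup.eq_one_iff x).1 e)⟩
  haveI : IsSimpleGroup (L ⧸ Z) := ⟨fun M hM => by
    have hMc : M = (M.comap (QuotientGroup.mk' Z)).map (QuotientGroup.mk' Z) :=
      (Subgroup.map_comap_eq_self_of_surjective (QuotientGroup.mk'_surjective Z) M).symm
    by_cases htop : M.comap (QuotientGroup.mk' Z) = ⊤
    · right; rw [hMc, htop, Subgroup.map_top_of_surjective _ (QuotientGroup.mk'_surjective Z)]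
    · left
      rw [hMc, Subgroup.map_eq_bot_iff, QuotientGroup.ker_mk']
      exact h.norm _ inferInstance htop⟩
  have hna : ¬ IsMulCommutative (L ⧸ Z) := by
    intro hc
    have hle : commutator L ≤ Z := (Subgroup.commutator_le).2 fun a _ b _ => by
      rw [← QuotientGroup.eq_one_iff, ← QuotientGroup.mk'_apply, map_commutatorElement,
        commutatorElement_eq_one_iff_mul_comm]
      exact hc.is_comm.comm _ _
    exact hxZ (hle (h.perf ▸ Subgroup.mem_top x))
  have hlist : Z.index ≤ 1092 → _ := fun hle => S0496.result (G := L ⧸ Z) hna (by rwa [← Subgroup.index_eq_card])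
  simp only [← Subgroup.index_eq_card] at hlist
  obtain ⟨n, hn, hS⟩ := index_eq h hzd hrel
  have hb := index_cases h hgal hzd
  rcases h.cases with ⟨rfl, rfl⟩ | ⟨rfl, rfl⟩
  · refine Or.inl ⟨rfl, ?_⟩
    have h7 : ¬ 7 ∣ Z.index := fun h7 => not_dvd_prime h hgal hzd (r := 7) (by norm_num) (by norm_num) (by norm_num)
      (h7.trans (Subgroup.index_dvd_card _))
    rcases five_orders (S := Z.index) (n := n) (by rw [hS]) hn h7
      (hb.imp (fun h1 => by simpa [qOf] using h1) And.left) hlist with hc | hc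
    · obtain ⟨e1⟩ := S0494.result (G := L ⧸ Z) (by rwa [← Subgroup.index_eq_card])
      obtain ⟨e2⟩ := S0253.result (F := ZMod 5) (ZMod.card 5)
      exact Or.inl ⟨e1.trans e2.symm⟩
    · exact Or.inr (S0497.result (G := L ⧸ Z) (by rwa [← Subgroup.index_eq_card]))
  · refine Or.inr ⟨rfl, ?_⟩
    rcases seven_orders (S := Z.index) (n := n) (by rw [hS]) hn
      (hb.imp (fun h1 => by simpa [qOf] using h1) (fun h1 => ⟨h1.1, h1.2 rfl⟩)) hlist with hc | hc | hc
    · exact Or.inl (S0495.result (G := L ⧸ Z) (by rwa [← Subgroup.index_eq_card]) (F := ZMod 7) (ZMod.card 7))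
    · exfalso
      have hncyc : ¬ IsCyclic (L ⧸ Z) := fun hcy => hna (by
        haveI := hcy
        infer_instance)
      rcases S0997.result (G := L ⧸ Z) hncyc 7 2 6 3 (by norm_num) Nat.prime_two (by norm_num)
        (by rw [← Subgroup.index_eq_card, hc]; norm_num) (by norm_num) with
        ⟨m, F, iF, fF, hF, -, ⟨e⟩⟩ | ⟨m, F, iF, fF, -, hm, -, -⟩
      · have h1 := ClassicalSL.card_psl_mul (ι := Fin 2) (F := F)
        rw [ClassicalSL.card_gl_fin rfl, Nat.card_eq_fintype_card (α := F), hF, Fintype.card_fin,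
          Fin.prod_univ_two, ← Nat.card_congr e.toEquiv, ← Subgroup.index_eq_card, hc] at h1
        norm_num at h1
      · rcases lt_or_ge m 3 with hm3 | hm3
        · interval_cases m <;> norm_num at hm
        · have := Nat.pow_le_pow_right (show 0 < 2 by norm_num) hm3
          omega
    · exact Or.inr (S0984.result (G := L ⧸ Z) (by rwa [← Subgroup.index_eq_card]))

end Cfsg.Agent.Feit
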