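import Cfsg.Agent.Lib.Feit.HalfOrders
import Cfsg.Agent.Lib.Feit.HalfGalois
import Mathlib.GroupTheory.Transfer

/-!
The normaliser of the Sylow subgroup of a half core, and the two possible quotients for each prime.
-/

set_option autoImplicit false
set_option linter.unusedSectionVars false
set_option linter.style.haveILetI false

namespace Cfsg.Agent.Feit

universe u

variable {L : Type u} [Group L] [Finite L] {p d : ℕ} [NeZero p] [Fact p.Prime]
variable {ρ : Representation ℂ L (Fin d → ℂ)} {x : L} (h : HalfCore p d ρ x)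

include h

/-- The centraliser of `x` has index `(p - 1) / 2` in the normaliser. -/
theorem HalfCore.relIndex_cent :
    (Subgroup.centralizer ({x} : Set L)).relIndex
      (Subgroup.normalizer ((Subgroup.zpowers x : Subgroup L) : Set L)) = (p - 1) / 2 := by
  classical
  haveI : Fintype L := Fintype.ofFinite L
  have hp : p.Prime := Fact.out
  set N := Subgroup.normalizer ((Subgroup.zpowers x : Subgroup L) : Set L) with hN
  have hex : ∀ u : N, ∃ k : ℕ, (u : L) * x * (u : L)⁻¹ = x ^ k := fun u => by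
    have h1 : (u : L) * x * (u : L)⁻¹ ∈ Subgroup.zpowers x :=
      (Subgroup.mem_normalizer_iff.1 u.2 x).1 (Subgroup.mem_zpowers x)
    rw [← mem_powers_iff_mem_zpowers, Submonoid.mem_powers_iff] at h1
    obtain ⟨k, hk⟩ := h1
    exact ⟨k, hk.symm⟩
  choose e he using hex
  have huniq : ∀ {a b : ℕ}, x ^ a = x ^ b → (a : ZMod p) = b := fun {a b} hab => by
    rw [ZMod.natCast_eq_natCast_iff, ← h.ord]
    exact pow_eq_pow_iff_modEq.1 hab
  let f₀ : N →* ZMod p :=
    { toFun := fun u => e u
      map_one' := by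
        rw [← Nat.cast_one]
        exact huniq (by rw [← he]; simp)
      map_mul' := fun u v => by
        rw [← Nat.cast_mul]
        refine huniq ?_
        rw [← he, pow_mul, ← he u, conj_pow, ← he v]
        simp [mul_assoc] }
  let f : N →* (ZMod p)ˣ := f₀.toHomUnits
  have hker : f.ker = (Subgroup.centralizer ({x} : Set L)).subgroupOf N := by
    ext u
    rw [MonoidHom.mem_ker, Subgroup.mem_subgroupOf, Subgroup.mem_centralizer_singleton_iff, Units.ext_iff]
    constructor
    · intro hu
      have h1 : x ^ e u = x ^ 1 := pow_eq_pow_iff_modEq.2 (by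
        rw [h.ord, ← ZMod.natCast_eq_natCast_iff, Nat.cast_one]; exact hu)
      rw [← he, pow_one] at h1
      exact mul_inv_eq_iff_eq_mul.1 h1
    · intro hu
      show (e u : ZMod p) = 1
      rw [← Nat.cast_one]
      refine huniq ?_
      rw [← he, pow_one]
      exact mul_inv_eq_iff_eq_mul.2 hu
  have hsq : f.range ≤ (powMonoidHom 2 : (ZMod p)ˣ →* (ZMod p)ˣ).range := by
    rintro _ ⟨u, rfl⟩
    obtain ⟨r, hr⟩ := h.exponent_sq (he u)
    have hr0 : r ≠ 0 := fun e0 => (f u).ne_zero (by
      show (e u : ZMod p) = 0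
      rw [hr, e0, mul_zero])
    refine ⟨Units.mk0 r hr0, Units.ext ?_⟩
    show (Units.mk0 r hr0 : ZMod p) ^ 2 = (e u : ZMod p)
    rw [hr, Units.val_mk0, pow_two]
  have hcard : Nat.card (powMonoidHom 2 : (ZMod p)ˣ →* (ZMod p)ˣ).range = (p - 1) / 2 := by
    have h1 := Subgroup.card_mul_index (powMonoidHom 2 : (ZMod p)ˣ →* (ZMod p)ˣ).ker
    rw [Subgroup.index_ker, IsCyclic.card_powMonoidHom_ker, Nat.card_eq_fintype_card (α := (ZMod p)ˣ),
      ZMod.card_units] at h1
    generalize Nat.card (powMonoidHom 2 : (ZMod p)ˣ →* (ZMod p)ˣ).range = m at h1 ⊢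
    rcases h.cases with ⟨rfl, -⟩ | ⟨rfl, -⟩ <;> norm_num at h1 <;> omega
  have hrel : (Subgroup.centralizer ({x} : Set L)).relIndex N = Nat.card f.range := by
    rw [Subgroup.relIndex, ← hker, Subgroup.index_ker]
  rw [hrel]
  have hdvd : Nat.card f.range ∣ (p - 1) / 2 := hcard ▸ Subgroup.card_dvd_of_le hsq
  have hprime : ((p - 1) / 2).Prime := by
    rcases h.cases with ⟨rfl, -⟩ | ⟨rfl, -⟩ <;> norm_num
  refine ((Nat.dvd_prime hprime).1 hdvd).resolve_left fun hone => ?_
  -- Burnside
  rw [← hrel, Subgroup.relIndex_eq_one] at hone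
  have hfac : (Nat.card L).factorization p = 1 := by
    have hd1 : p ^ 1 ∣ Nat.card L := by rw [pow_one, ← h.ord]; exact orderOf_dvd_natCard x
    have h1 := (Nat.Prime.pow_dvd_iff_le_factorization hp Nat.card_pos.ne').1 hd1
    by_contra hne
    exact h.sq ((Nat.Prime.pow_dvd_iff_le_factorization hp Nat.card_pos.ne').2 (by omega))
  let P : Sylow p L := Sylow.ofCard (Subgroup.zpowers x) (by rw [hfac, pow_one, Nat.card_zpowers, h.ord])
  have hP : Subgroup.normalizer ((P : Subgroup L) : Set L) ≤ Subgroup.centralizer ((P : Subgroup L) : Set L) := by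
    intro u hu
    show u ∈ Subgroup.centralizer ((Subgroup.zpowers x : Subgroup L) : Set L)
    have hux := Subgroup.mem_centralizer_singleton_iff.1 (hone hu)
    rw [Subgroup.mem_centralizer_iff]
    rintro _ ⟨k, rfl⟩
    exact ((show Commute u x from hux).zpow_right k).eq.symm
  have hc := MonoidHom.ker_transferSylow_isComplement' P hP
  have htop : (MonoidHom.transferSylow P hP).ker = ⊤ := by
    rw [eq_top_iff, ← h.perf, commutator_def, Subgroup.commutator_le]
    intro a _ b _
    rw [MonoidHom.mem_ker, map_commutatorElement, commutatorElement_eq_one_iff_mul_comm]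
    obtain ⟨⟨_, ⟨i, rfl⟩⟩, hi⟩ : ∃ y : Subgroup.zpowers x, y = MonoidHom.transferSylow P hP a := ⟨_, rfl⟩
    obtain ⟨⟨_, ⟨j, rfl⟩⟩, hj⟩ : ∃ y : Subgroup.zpowers x, y = MonoidHom.transferSylow P hP b := ⟨_, rfl⟩
    rw [← hi, ← hj]
    exact Subtype.ext (((Commute.refl x).zpow_left i).zpow_right j).eq
  rw [htop, Subgroup.isComplement'_top_left] at hc
  have := congrArg (fun H : Subgroup L => Nat.card H) hc
  simp only [Subgroup.card_bot] at this
  rw [show Nat.card (P : Subgroup L) = p by rw [show (P : Subgroup L) = Subgroup.zpowers x from rfl,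
    Nat.card_zpowers, h.ord]] at this
  exact hp.ne_one this

omit [Fact p.Prime] in
/-- The half cores are `PSL(2, p)` or alternating of degree `p + 1` resp. `p` modulo the centre. -/
theorem HalfCore.quotient :
    (p = 5 ∧ (Nonempty (L ⧸ Subgroup.center L ≃* Matrix.ProjectiveSpecialLinearGroup (Fin 2) (ZMod p)) ∨
      Nonempty (L ⧸ Subgroup.center L ≃* alternatingGroup (Fin 6)))) ∨
    (p = 7 ∧ (Nonempty (L ⧸ Subgroup.center L ≃* Matrix.ProjectiveSpecialLinearGroup (Fin 2) (ZMod p)) ∨
      Nonempty (L ⧸ Subgroup.center L ≃* alternatingGroup (Fin 7)))) := by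
  haveI : Fact p.Prime := ⟨by rcases h.cases with ⟨rfl, -⟩ | ⟨rfl, -⟩ <;> norm_num⟩
  exact halfCore_quotient h (fun k hk hsq hz g => h.char_pow_eq hk hsq hz g) h.card_center_dvd h.relIndex_cent

end Cfsg.Agent.Feit
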