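import Cfsg.Agent.Lib.Feit.Basic
import Cfsg.Agent.Lib.SmallDeg16.Square
import Cfsg.Agent.Lib.DefOne.DegreeMain

/-!
Central quotients of a core, and the absence of nonlinear characters of degree below half of `p`.
-/

set_option autoImplicit false
set_option linter.unusedSectionVars false
set_option linter.style.haveILetI false

namespace Cfsg.Agent.Feit

open Cfsg Cfsg.Agent.Char Cfsg.Agent.Blocks Cfsg.Agent.CCSylow Cfsg.Agent.DefOne Cfsg.Agent.CharExtend
open Cfsg.Agent.SmallDeg16 (not_dvd_center_of_perfect)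
open scoped ComplexConjugate

universe u

variable {G : Type u} [Group G] [Fintype G] {p : ℕ}

theorem center_ne_top (hcore : Core p G) : Subgroup.center G ≠ ⊤ := fun h => by
  haveI := Fact.mk hcore.prime
  refine not_dvd_center_of_perfect hcore.perf hcore.sq ?_
  rw [h, Subgroup.card_top]
  exact hcore.dvd

/-- A central quotient of a core is a core with the same central factor group. -/
theorem Core.quotient (hcore : Core p G) (H : Subgroup G) [H.Normal] (hH : H ≤ Subgroup.center G) :
    Core p (G ⧸ H) ∧ Nonempty ((G ⧸ H) ⧸ Subgroup.center (G ⧸ H) ≃* G ⧸ Subgroup.center G) := by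
  haveI := Fact.mk hcore.prime
  have hHp : ¬ p ∣ Nat.card H := fun h =>
    not_dvd_center_of_perfect hcore.perf hcore.sq (h.trans (Subgroup.card_dvd_of_le hH))
  have hcard := Subgroup.card_eq_card_quotient_mul_card_subgroup H
  have hdvd : p ∣ Nat.card (G ⧸ H) :=
    (hcore.prime.dvd_mul.1 (hcard ▸ hcore.dvd)).resolve_right hHp
  have hsurj := QuotientGroup.mk'_surjective H
  have hnorm : ∀ W : Subgroup (G ⧸ H), W.Normal → W ≠ ⊤ →
      W ≤ (Subgroup.center G).map (QuotientGroup.mk' H) := by
    intro W hW hne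
    rw [← Subgroup.map_comap_eq_self_of_surjective hsurj W]
    refine Subgroup.map_mono (hcore.norm _ inferInstance fun h => hne ?_)
    rw [← Subgroup.map_comap_eq_self_of_surjective hsurj W, h, Subgroup.map_top_of_surjective _ hsurj]
  have hmapc : (Subgroup.center G).map (QuotientGroup.mk' H) ≤ Subgroup.center (G ⧸ H) := by
    rintro _ ⟨z, hz, rfl⟩
    rw [Subgroup.mem_center_iff]
    intro q
    obtain ⟨g, rfl⟩ := hsurj q
    rw [← map_mul, ← map_mul, Subgroup.mem_center_iff.1 hz g]
  have hperf : commutator (G ⧸ H) = ⊤ := by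
    rw [commutator_def, ← Subgroup.map_top_of_surjective _ hsurj, ← Subgroup.map_commutator,
      ← commutator_def, hcore.perf, Subgroup.map_top_of_surjective _ hsurj]
  have hsq : ¬ p ^ 2 ∣ Nat.card (G ⧸ H) := fun h => hcore.sq (hcard ▸ h.mul_right _)
  have hcne : Subgroup.center (G ⧸ H) ≠ ⊤ := fun h => by
    refine not_dvd_center_of_perfect hperf hsq ?_
    rw [h, Subgroup.card_top]
    exact hdvd
  refine ⟨⟨hcore.prime, hcore.big, hperf, hdvd, hsq, fun W hW hne => (hnorm W hW hne).trans hmapc⟩, ?_⟩
  have hcen : Subgroup.center (G ⧸ H) = (Subgroup.center G).map (QuotientGroup.mk' H) :=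
    le_antisymm (hnorm _ inferInstance hcne) hmapc
  haveI : ((Subgroup.center G).map (QuotientGroup.mk' H)).Normal :=
    Subgroup.Normal.map inferInstance _ hsurj
  exact ⟨(QuotientGroup.quotientMulEquivOfEq hcen).trans
    (QuotientGroup.quotientQuotientEquivQuotient H (Subgroup.center G) hH)⟩

set_option maxHeartbeats 800000 in
/-- A nonlinear character gives a faithful representation of a central quotient. -/
theorem exists_faithful_quot_rep (hcore : Core p G) (χ : IrrCharacter G) {d : ℕ}
    (hd : charDegree (χ : G → ℂ) = d) (hd2 : 2 ≤ d) :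
    ∃ (H : Subgroup G) (_ : H.Normal), H ≤ Subgroup.center G ∧
      (∀ g, g ∈ H ↔ (χ : G → ℂ) g = (χ : G → ℂ) 1) ∧
      ∃ ρ : Representation ℂ (G ⧸ H) (Fin d → ℂ), ρ.IsIrreducible ∧ Function.Injective ρ := by
  obtain ⟨m, σ, hσ, hχ⟩ := id χ.2
  have h1 := irr_one_eq_charDegree χ
  rw [← hχ, Representation.char_one, Module.finrank_fin_fun] at h1
  have hm : m = d := by rw [← hd, ← hχ]; exact_mod_cast h1
  subst hm
  set H := MonoidHom.ker (σ : G →* Module.End ℂ (Fin m → ℂ)) with hH
  have hmem : ∀ g, g ∈ H ↔ (χ : G → ℂ) g = (χ : G → ℂ) 1 := fun g => by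
    rw [hH, MonoidHom.mem_ker, ← hχ, Representation.char_one, char_eq_degree_iff,
      ← Module.End.one_eq_id]
  have hle : H ≤ Subgroup.center G := by
    refine hcore.norm H inferInstance fun htop => ?_
    have h := classInner_self_irr χ.2
    rw [classInner, Finset.sum_congr rfl (g := fun _ => ((m : ℂ)) * m) (fun g _ => by
      rw [(hmem g).1 (htop ▸ Subgroup.mem_top g), irr_one_eq_charDegree, hd, map_natCast]),
      Finset.sum_const, Finset.card_univ, nsmul_eq_mul, ← Nat.card_eq_fintype_card,
      inv_mul_cancel_left₀ (Nat.cast_ne_zero.2 Nat.card_pos.ne')] at h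
    have h' : m * m = 1 := by exact_mod_cast h
    have := Nat.mul_le_mul hd2 hd2
    omega
  have hmk : ∀ g, g ∈ H → σ g = 1 := fun g hg => MonoidHom.mem_ker.1 hg
  let ρ : Representation ℂ (G ⧸ H) (Fin m → ℂ) := QuotientGroup.lift H σ fun g hg => hmk g hg
  have hinj : Function.Injective ρ := by
    intro a b hab
    obtain ⟨x, rfl⟩ := QuotientGroup.mk_surjective a
    obtain ⟨y, rfl⟩ := QuotientGroup.mk_surjective b
    have hxy : σ x = σ y := hab
    rw [QuotientGroup.eq, hH, MonoidHom.mem_ker]
    show σ (x⁻¹ * y) = 1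
    rw [map_mul, ← hxy, ← map_mul, inv_mul_cancel, map_one]
  refine ⟨H, inferInstance, hle, hmem, ρ, ?_, hinj⟩
  have iso : Subrepresentation ρ ≃o Subrepresentation σ :=
    { toFun := fun a => ⟨a.toSubmodule, fun g => a.apply_mem_toSubmodule (g : G ⧸ H)⟩
      invFun := fun a => ⟨a.toSubmodule, fun q v hv => by
        obtain ⟨g, rfl⟩ := QuotientGroup.mk_surjective q
        exact a.apply_mem_toSubmodule g hv⟩
      left_inv := fun _ => rfl
      right_inv := fun _ => rfl
      map_rel_iff' := Iff.rfl }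
  exact iso.isSimpleOrder_iff.mpr inferInstance

/-- There are no nonlinear characters of degree below half of `p`. -/
theorem not_small_degree (hcore : Core p G) (χ : IrrCharacter G) {d : ℕ}
    (hd : charDegree (χ : G → ℂ) = d) (hd2 : 2 ≤ d) (hdp : 2 * d + 1 < p) : False := by
  haveI := Fact.mk hcore.prime
  obtain ⟨H, hHn, hHle, -, ρ, -, hρ⟩ := exists_faithful_quot_rep hcore χ hd hd2
  haveI : Fintype (G ⧸ H) := Fintype.ofFinite _
  obtain ⟨hq, -⟩ := hcore.quotient H hHle
  obtain ⟨x, hx⟩ := exists_prime_orderOf_dvd_card' p hq.dvd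
  have hc : Nat.card (Subgroup.zpowers x) = p := by rw [Nat.card_zpowers, hx]
  have hn := DefOne.normal_of_small hcore.prime _ _ rfl _ hc hq.sq ρ.character (isCharacter_of_rep ρ)
    (fun g hg => hρ (by
      rw [Representation.char_one, char_eq_degree_iff] at hg
      rw [map_one, hg, Module.End.one_eq_id]))
    (by rwa [charDegree, Representation.char_one, Module.finrank_fin_fun, Complex.natCast_re,
      Nat.floor_natCast])
  have hne : Subgroup.zpowers x ≠ ⊤ := fun h => center_ne_top hq (eq_top_iff.2 fun y _ => by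
    haveI : IsCyclic (G ⧸ H) := isCyclic_of_prime_card (p := p) (by rw [← Subgroup.card_top, ← h, hc])
    exact Subgroup.mem_center_iff.2 fun g => (IsCyclic.commGroup (α := G ⧸ H)).mul_comm g y)
  exact not_dvd_center_of_perfect hq.perf hq.sq (hc ▸ Subgroup.card_dvd_of_le (hq.norm _ hn hne))

end Cfsg.Agent.Feit
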