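import Cfsg.Agent.S4705
import Cfsg.Agent.Lib.Feit.Reduce
import Cfsg.Agent.Lib.Feit.Small
import Mathlib.FieldTheory.Finite.GaloisField
import Mathlib.Logic.Small.Basic

/-!
The degree `p - 2` from the core to the whole group: a direct product with the centre.
-/

set_option autoImplicit false
set_option linter.unusedSectionVars false
set_option linter.style.haveILetI false

namespace Cfsg.Agent.Feit

open Cfsg
open Cfsg.Agent.SmallDeg16 (PNormal)

universe u

theorem sl2_card_congr {F F' : Type} [Field F] [Fintype F] [Field F'] [Fintype F']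
    (h : Fintype.card F = Fintype.card F') :
    Nonempty (Matrix.SpecialLinearGroup (Fin 2) F ≃* Matrix.SpecialLinearGroup (Fin 2) F') := by
  have f : F ≃+* F' := FiniteField.ringEquivOfCardEq (K := F) (K' := F') h
  refine ⟨{ toFun := Matrix.SpecialLinearGroup.map (n := Fin 2) f.toRingHom
            invFun := Matrix.SpecialLinearGroup.map (n := Fin 2) f.symm.toRingHom
            left_inv := fun A => ?_
            right_inv := fun A => ?_
            map_mul' := map_mul _ }⟩
  · exact Subtype.ext (Matrix.ext fun i j => f.symm_apply_apply _)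
  · exact Subtype.ext (Matrix.ext fun i j => f.apply_symm_apply _)

variable {G : Type u} [Group G] [Finite G] {p : ℕ} [Fact p.Prime] {d : ℕ}

/-- A perfect direct factor of a perfect group: the abelian factor is trivial. -/
theorem eq_one_of_perfect {L H : Type*} [Group L] [Group H] (hperf : commutator L = ⊤) (e : L →* H)
    (hc : ∀ a b : H, a * b = b * a) (x : L) : e x = 1 := by
  letI : CommGroup H := { (inferInstance : Group H) with mul_comm := hc }
  exact MonoidHom.mem_ker.1 (Abelianization.commutator_subset_ker e (hperf ▸ Subgroup.mem_top x))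

/-- The irreducible representation of degree `p - 2` of a core gives `SL₂` with trivial centre. -/
theorem core_pm_two {L : Type u} [Group L] [Finite L] (hcore : Core p L) (hd : d + 2 = p)
    (ρ : Representation ℂ L (Fin d → ℂ)) [ρ.IsIrreducible] (hρ : Function.Injective ρ) :
    ∃ (a : ℕ) (F : Type) (_ : Field F) (_ : Fintype F), p = 2 ^ a + 1 ∧ Fintype.card F = 2 ^ a ∧
      Nonempty (L ≃* Matrix.SpecialLinearGroup (Fin 2) F) ∧ Subgroup.center L = ⊥ := by
  haveI : Fintype L := Fintype.ofFinite L
  obtain ⟨P⟩ : Nonempty (Sylow p L) := inferInstance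
  have hfac : (Nat.card L).factorization p = 1 := by
    have a1 := (hcore.prime.dvd_iff_one_le_factorization Nat.card_pos.ne').1 hcore.dvd
    have a2 : ¬ 2 ≤ (Nat.card L).factorization p := fun h =>
      hcore.sq ((hcore.prime.pow_dvd_iff_le_factorization Nat.card_pos.ne').2 h)
    omega
  have hP : Nat.card P = p := by rw [Sylow.card_eq_multiplicity, hfac, pow_one]
  have hbig := hcore.big
  obtain ⟨a, F, iF, iFt, hpa, hF, ⟨φ⟩⟩ := Cfsg.Agent.S4705.result p (by omega) P hP
    (fun hn => by
      have hne : (P : Subgroup L) ≠ ⊤ := fun h => center_ne_top hcore (eq_top_iff.2 fun x _ => by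
        haveI : IsCyclic L := isCyclic_of_prime_card (p := p) (by rw [← Subgroup.card_top, ← h, hP])
        exact Subgroup.mem_center_iff.2 fun g => (IsCyclic.commGroup (α := L)).mul_comm g x)
      exact SmallDeg16.not_dvd_center_of_perfect hcore.perf hcore.sq
        (hP ▸ Subgroup.card_dvd_of_le (hcore.norm _ hn hne)))
    ρ.character (Char.isIrrCharacter_of_rep ρ)
    (fun g hg => hρ (by
      rw [Representation.char_one, Char.char_eq_degree_iff] at hg
      rw [hg, map_one, Module.End.one_eq_id]))
    (by rw [charDegree, Representation.char_one, Module.finrank_fin_fun, Complex.natCast_re,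
      Nat.floor_natCast]; omega)
  have hone : ∀ x : L, (φ x).2 = 1 := eq_one_of_perfect hcore.perf
    ((MonoidHom.snd _ _).comp φ.toMonoidHom)
    fun a b => Subtype.ext (Subgroup.mem_center_iff.1 b.2 a)
  have hsub : ∀ z : Subgroup.center L, z = 1 := fun z => by
    have h := hone (φ.symm (1, z))
    rwa [MulEquiv.apply_symm_apply] at h
  refine ⟨a, F, iF, iFt, hpa, hF, ⟨{
      toFun := fun x => (φ x).1
      invFun := fun s => φ.symm (s, 1)
      left_inv := fun x => ?_
      right_inv := fun s => ?_
      map_mul' := fun x y => by simp }⟩, ?_⟩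
  · show φ.symm ((φ x).1, 1) = x
    rw [← hone x, Prod.mk.eta, MulEquiv.symm_apply_apply]
  · show (φ (φ.symm (s, 1))).1 = s
    rw [MulEquiv.apply_symm_apply]
  · rw [eq_bot_iff]
    intro z hz
    rw [Subgroup.mem_bot]
    exact congrArg Subtype.val (hsub ⟨z, hz⟩)

/-- Degree `p - 2` in general. -/
theorem pm_two (χ : Cfsg.IrrCharacter G) (hdeg : Cfsg.charDegree (χ : G → ℂ) = d)
    (hfaith : ∀ g : G, (χ : G → ℂ) g = (χ : G → ℂ) 1 → g = 1) (hd : d + 2 = p) (hp : 7 ≤ p)
    (P : Sylow p G) (hnn : ¬ (P : Subgroup G).Normal) :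
    ∃ (a : ℕ) (F : Type) (_ : Field F) (_ : Fintype F), p = 2 ^ a + 1 ∧ Fintype.card F = 2 ^ a ∧
      Nonempty (G ≃* Matrix.SpecialLinearGroup (Fin 2) F × Subgroup.center G) := by
  obtain ⟨ρ, hρ, hirrG, -, L, hLn, hcore, hirr⟩ := exists_core χ hdeg hfaith (by omega) hp P hnn
  haveI := hLn
  haveI := hirr
  haveI := hirrG
  set Z := Subgroup.center G with hZ
  obtain ⟨a, F, iF, iFt, hpa, hF, ⟨φ⟩, hcL⟩ := core_pm_two hcore hd
    (MonoidHom.comp ρ L.subtype : Representation ℂ L (Fin d → ℂ)) (hρ.comp L.subtype_injective)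
  have hpL := hcore.dvd
  -- every element prime to `p` and central on `L` is central
  have hcent : ∀ c : G, (∀ l ∈ L, c * l = l * c) → c ∈ Z := by
    intro c hc
    let σ : Representation ℂ L (Fin d → ℂ) := MonoidHom.comp ρ L.subtype
    obtain ⟨s, hs⟩ := Char.schur_scalar σ (ρ c) fun l v => by
      show ρ c (ρ (l : G) v) = ρ (l : G) (ρ c v)
      rw [← Module.End.mul_apply, ← map_mul, hc l l.2, map_mul, Module.End.mul_apply]
    exact SmallDeg16.mem_center_of_scalar ρ hρ fun v => by rw [hs]; rfl
  haveI : (L ⊔ Z).Normal := Subgroup.sup_normal L Z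
  have hG : ¬ PNormal p G := fun h => hnn (h P)
  have hind : ¬ p ^ 2 ∣ Z.index := sqBound hp d (by omega) G ρ hρ inferInstance hG
  have hidx : ¬ p ∣ (L ⊔ Z).index := by
    intro h
    refine hind ?_
    rw [← Subgroup.relIndex_mul_index (le_sup_right : Z ≤ L ⊔ Z), sq]
    refine mul_dvd_mul ?_ h
    rw [Subgroup.relIndex_sup_right]
    have h1 : (Z.relIndex L) = (Subgroup.center L).index := by
      rw [Subgroup.relIndex]
      congr 1
      refine le_antisymm (fun l hl => ?_) fun l hl => ?_
      · exact Subgroup.mem_center_iff.2 fun m =>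
          Subtype.ext (Subgroup.mem_center_iff.1 (Subgroup.mem_subgroupOf.1 hl) (m : G))
      · exact Subgroup.mem_subgroupOf.2 (hcent _ fun m hm =>
          (congrArg Subtype.val (Subgroup.mem_center_iff.1 hl ⟨m, hm⟩)).symm)
    rw [h1, hcL, Subgroup.index_bot]
    exact hpL
  have hprime : p.Prime := Fact.out
  have htop : ∀ g : G, g ∈ L ⊔ Z := by
    intro g
    obtain ⟨k, r, hr, hkr⟩ := Nat.exists_eq_pow_mul_and_not_dvd (orderOf_pos g).ne' p hprime.ne_one
    set g' : G := g ^ (p ^ k) with hg'
    have hg'o : g' ^ r = 1 := by rw [hg', ← pow_mul, ← hkr, pow_orderOf_eq_one]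
    set H := L ⊔ Subgroup.zpowers g' with hH
    have hLH : L ≤ H := le_sup_left
    haveI : Representation.IsIrreducible
        (MonoidHom.comp ρ H.subtype : Representation ℂ H (Fin d → ℂ)) := by
      let σ : Representation ℂ H (Fin d → ℂ) := MonoidHom.comp ρ H.subtype
      let τ : Representation ℂ L (Fin d → ℂ) := MonoidHom.comp ρ L.subtype
      haveI : Nontrivial (Fin d → ℂ) := Char.nontrivial_of_irreducible ρ
      haveI : Nontrivial (Subrepresentation σ) := ⟨⟨⊥, ⊤, fun e =>
        bot_ne_top (congrArg Subrepresentation.toSubmodule e)⟩⟩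
      refine ⟨fun W => ?_⟩
      let W' : Subrepresentation τ := ⟨W.toSubmodule, fun l v hv =>
        W.apply_mem_toSubmodule (⟨(l : G), hLH l.2⟩ : H) hv⟩
      rcases (hirr : Representation.IsIrreducible τ).eq_bot_or_eq_top W' with h | h
      · exact Or.inl (Subrepresentation.toSubmodule_injective
          (congrArg Subrepresentation.toSubmodule h : W'.toSubmodule = _))
      · exact Or.inr (Subrepresentation.toSubmodule_injective
          (congrArg Subrepresentation.toSubmodule h : W'.toSubmodule = _))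
    haveI : Fintype H := Fintype.ofFinite H
    have hHc : ¬ p ^ 2 ∣ Nat.card H := by
      intro h
      have h1 : Nat.card H ∣ Nat.card L * r := by
        have h2 := Subgroup.relIndex_mul_index (le_refl H)
        rw [← Subgroup.card_mul_index (L.subgroupOf H),
          Nat.card_congr (Subgroup.subgroupOfEquivOfLe hLH).toEquiv]
        refine mul_dvd_mul_left _ ?_
        rw [← Subgroup.relIndex, hH, Subgroup.relIndex_sup_left]
        exact (Subgroup.relIndex_dvd_card _ _).trans
          (by rw [Nat.card_zpowers]; exact orderOf_dvd_of_pow_eq_one hg'o)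
      exact hcore.sq ((Nat.Coprime.dvd_mul_right
        (Nat.Coprime.pow_left 2 (hprime.coprime_iff_not_dvd.2 hr))).1 (h.trans h1))
    obtain ⟨Q⟩ : Nonempty (Sylow p H) := inferInstance
    have hpH : p ∣ Nat.card H := hpL.trans (Subgroup.card_dvd_of_le hLH)
    have hQ : Nat.card Q = p := by
      have hfac : (Nat.card H).factorization p = 1 := by
        have a1 := (hprime.dvd_iff_one_le_factorization Nat.card_pos.ne').1 hpH
        have a2 : ¬ 2 ≤ (Nat.card H).factorization p := fun h =>
          hHc ((hprime.pow_dvd_iff_le_factorization Nat.card_pos.ne').2 h)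
        omega
      rw [Sylow.card_eq_multiplicity, hfac, pow_one]
    have hQn : ¬ (Q : Subgroup H).Normal := by
      intro hn
      -- then `L` would have a normal subgroup of order `p`
      haveI := hn
      obtain ⟨R⟩ : Nonempty (Sylow p L) := inferInstance
      have hRbot : (R : Subgroup L) = ⊥ := by
        let ι : L →* H := Subgroup.inclusion hLH
        have hle : (R : Subgroup L).map ι ≤ (Q : Subgroup H) := by
          have hpg : IsPGroup p ((R : Subgroup L).map ι) := R.isPGroup'.map ι
          obtain ⟨Q', hQ'⟩ := hpg.exists_le_sylow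
          haveI := Sylow.unique_of_normal Q hn
          rwa [Subsingleton.elim Q' Q] at hQ'
        have hR2 : ((Q : Subgroup H).comap ι) = R := R.3 (IsPGroup.comap_of_injective Q.isPGroup' ι
          (Subgroup.inclusion_injective hLH)) (Subgroup.map_le_iff_le_comap.1 hle)
        have hRn : (R : Subgroup L).Normal := hR2 ▸ Subgroup.Normal.comap hn ι
        exact SmallDeg16.eq_bot_of_normal_pGroup hcore.perf hcore.sq hcore.norm _ hRn R.isPGroup'
      exact R.not_dvd_index (by rw [hRbot, Subgroup.index_bot]; exact hpL)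
    obtain ⟨a', F', iF', iFt', hpa', hF', ⟨ψ⟩⟩ := Cfsg.Agent.S4705.result p (by omega) Q hQ hQn _
      (Char.isIrrCharacter_of_rep (MonoidHom.comp ρ H.subtype : Representation ℂ H (Fin d → ℂ)))
      (fun x hx => Subtype.ext (hρ (by
        rw [Representation.char_one, Char.char_eq_degree_iff] at hx
        show ρ (x : G) = ρ ((1 : H) : G)
        rw [Subgroup.coe_one, map_one, Module.End.one_eq_id]
        exact hx)))
      (by rw [charDegree, Representation.char_one, Module.finrank_fin_fun, Complex.natCast_re,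
        Nat.floor_natCast]; omega)
    -- the first factor is the image of `L`
    have hfst : ∀ x : H, ∃ l : L, ∃ z : Subgroup.center H, x = Subgroup.inclusion hLH l * z := by
      have hLimg : ∀ l : L, (ψ (Subgroup.inclusion hLH l)).2 = 1 := eq_one_of_perfect hcore.perf
        (((MonoidHom.snd _ _).comp ψ.toMonoidHom).comp (Subgroup.inclusion hLH))
        fun a b => Subtype.ext (Subgroup.mem_center_iff.1 b.2 a)
      let j : L →* Matrix.SpecialLinearGroup (Fin 2) F' :=
        ((MonoidHom.fst _ _).comp ψ.toMonoidHom).comp (Subgroup.inclusion hLH)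
      have hjinj : Function.Injective j := fun a b h => Subgroup.inclusion_injective hLH
        (ψ.injective (Prod.ext h ((hLimg a).trans (hLimg b).symm)))
      have hcardF : Fintype.card F' = Fintype.card F := by omega
      obtain ⟨i⟩ := sl2_card_congr (F := F') (F' := F) hcardF
      have hjsurj : Function.Surjective j :=
        ((Nat.bijective_iff_injective_and_card j).2 ⟨hjinj,
          (Nat.card_congr (φ.trans i.symm).toEquiv)⟩).2
      intro x
      obtain ⟨l, hl⟩ := hjsurj (ψ x).1
      refine ⟨l, ⟨(Subgroup.inclusion hLH l)⁻¹ * x, ?_⟩, by rw [mul_inv_cancel_left]⟩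
      refine Subgroup.mem_center_iff.2 fun y => ψ.injective ?_
      have hval : ψ ((Subgroup.inclusion hLH l)⁻¹ * x) = (1, (ψ x).2) := by
        rw [map_mul, map_inv]
        refine Prod.ext ?_ ?_
        · show (j l)⁻¹ * (ψ x).1 = 1
          rw [hl, inv_mul_cancel]
        · show ((ψ (Subgroup.inclusion hLH l)).2)⁻¹ * (ψ x).2 = (ψ x).2
          rw [hLimg, inv_one, one_mul]
      rw [map_mul, map_mul ψ _ y, hval]
      exact Prod.ext (by simp) (Subtype.ext (Subgroup.mem_center_iff.1 (ψ x).2.2 ((ψ y).2 : H)))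
    obtain ⟨l, z, hlz⟩ := hfst ⟨g', Subgroup.mem_sup_right (Subgroup.mem_zpowers g')⟩
    have hg'm : g' ∈ L ⊔ Z := by
      rw [show g' = (l : G) * ((z : H) : G) from congrArg Subtype.val hlz]
      exact Subgroup.mul_mem_sup l.2 (hcent _ fun m hm =>
        (congrArg Subtype.val (Subgroup.mem_center_iff.1 z.2 ⟨m, hLH hm⟩)).symm)
    have h2 : ((g : G ⧸ (L ⊔ Z))) ^ (p ^ k) = 1 := by
      rw [← QuotientGroup.mk_pow, QuotientGroup.eq_one_iff]
      exact hg'm
    have hco : Nat.Coprime (p ^ k) (L ⊔ Z).index :=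
      Nat.Coprime.pow_left k (hprime.coprime_iff_not_dvd.2 hidx)
    have h3 := CharExtend.eq_one_of_pow_coprime h2
      (show ((g : G ⧸ (L ⊔ Z))) ^ (L ⊔ Z).index = 1 by rw [Subgroup.index_eq_card, pow_card_eq_one']) hco
    exact (QuotientGroup.eq_one_iff g).1 h3
  refine ⟨a, F, iF, iFt, hpa, hF, ?_⟩
  have hdisj : L ⊓ Z = ⊥ := by
    rw [eq_bot_iff]
    rintro x ⟨hxL, hxZ⟩
    have hc : (⟨x, hxL⟩ : L) ∈ Subgroup.center L :=
      Subgroup.mem_center_iff.2 fun m => Subtype.ext (Subgroup.mem_center_iff.1 hxZ (m : G))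
    rw [hcL, Subgroup.mem_bot] at hc
    exact congrArg Subtype.val hc
  let m : L × Z →* G :=
    { toFun := fun q => (q.1 : G) * q.2
      map_one' := by simp
      map_mul' := fun q r => by
        have h := Subgroup.mem_center_iff.1 q.2.2 (r.1 : G)
        show ((q.1 * r.1 : L) : G) * ((q.2 * r.2 : Z) : G) = _
        simp only [Subgroup.coe_mul, mul_assoc]
        rw [← mul_assoc (r.1 : G), h, mul_assoc] }
  have hbij : Function.Bijective m := by
    constructor
    · rw [injective_iff_map_eq_one]
      rintro ⟨l, z⟩ hq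
      have hq' : (l : G) * z = 1 := hq
      have h1 : (l : G) ∈ L ⊓ Z := ⟨l.2, eq_inv_of_mul_eq_one_left hq' ▸ Z.inv_mem z.2⟩
      rw [hdisj, Subgroup.mem_bot] at h1
      rw [h1, one_mul] at hq'
      exact Prod.ext (Subtype.ext h1) (Subtype.ext hq')
    · intro g
      have hg := htop g
      rw [← SetLike.mem_coe, Subgroup.normal_mul] at hg
      obtain ⟨l, hl, z, hz, rfl⟩ := hg
      exact ⟨(⟨l, hl⟩, ⟨z, hz⟩), rfl⟩
  exact ⟨(MulEquiv.ofBijective m hbij).symm.trans (φ.prodCongr (MulEquiv.refl _))⟩

/-- The case `p = 17`. -/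
theorem seventeen {G : Type u} [Group G] [Finite G] [Fact (Nat.Prime 17)] (χ : Cfsg.IrrCharacter G)
    (hdeg : Cfsg.charDegree (χ : G → ℂ) = 15)
    (hfaith : ∀ g : G, (χ : G → ℂ) g = (χ : G → ℂ) 1 → g = 1)
    (P : Sylow 17 G) (hnn : ¬ (P : Subgroup G).Normal) :
    ∃ (A : Type) (_ : CommGroup A) (_ : Finite A),
      Nonempty (G ≃* Matrix.SpecialLinearGroup (Fin 2) (GaloisField 2 4) × A) := by
  obtain ⟨a, F, iF, iFt, hpa, hF, ⟨φ⟩⟩ := pm_two χ hdeg hfaith (by norm_num) (by norm_num) P hnn
  have ha : a = 4 := Nat.pow_right_injective (le_refl 2) (show 2 ^ a = 2 ^ 4 by omega)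
  haveI : Fintype (GaloisField 2 4) := Fintype.ofFinite _
  obtain ⟨ψ⟩ := sl2_card_congr (F := F) (F' := GaloisField 2 4) (by
    rw [hF, ha, ← Nat.card_eq_fintype_card, GaloisField.card 2 4 (by norm_num)])
  letI : CommGroup (Subgroup.center G) :=
    { (inferInstance : Group (Subgroup.center G)) with
      mul_comm := fun a b => Subtype.ext (Subgroup.mem_center_iff.1 b.2 a) }
  refine ⟨Shrink.{0} (Subgroup.center G), inferInstance, Finite.of_equiv _ (equivShrink _),
    ⟨φ.trans (ψ.prodCongr (Shrink.mulEquiv).symm)⟩⟩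

end Cfsg.Agent.Feit
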