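import Cfsg.Agent.Lib.Feit.Cases
import Cfsg.Agent.Lib.Feit.Quotient
import Cfsg.Agent.Lib.Feit.Seventeen
import Cfsg.Agent.Lib.SmallDeg16.Primes

/-!
Degree below twenty-seven, for the primes from eleven on.
-/

set_option autoImplicit false
set_option linter.style.haveILetI false

namespace Cfsg.Agent.Feit

open Cfsg

universe u

variable {G : Type u} [Group G] [Finite G]

theorem large_primes (d : ℕ) (hd : d < 27) (χ : Cfsg.IrrCharacter G)
    (hdeg : Cfsg.charDegree (χ : G → ℂ) = d)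
    (hfaith : ∀ g : G, (χ : G → ℂ) g = (χ : G → ℂ) 1 → g = 1) (p : ℕ) [Fact p.Prime] (hp : d + 1 < p)
    (hp11 : 11 ≤ p) (P : Sylow p G) :
    (P : Subgroup G).Normal ∨
      (Nonempty (G ⧸ Subgroup.center G ≃* Matrix.ProjectiveSpecialLinearGroup (Fin 2) (ZMod p)) ∧
        (2 * d = p + 1 ∨ 2 * d = p - 1)) ∨
      (p = 17 ∧ d = 15 ∧ ∃ (A : Type) (_ : CommGroup A) (_ : Finite A),
        Nonempty (G ≃* Matrix.SpecialLinearGroup (Fin 2) (GaloisField 2 4) × A)) := by
  haveI : Fintype G := Fintype.ofFinite G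
  by_cases hnn : (P : Subgroup G).Normal
  · exact Or.inl hnn
  right
  by_cases hd2 : d + 2 = p
  · right
    obtain ⟨a, F, iF, iFt, hpa, -, -⟩ := pm_two χ hdeg hfaith hd2 (by omega) P hnn
    have ha : a ≤ 4 := by
      by_contra h
      have : 2 ^ 5 ≤ 2 ^ a := Nat.pow_le_pow_right (by norm_num) (by omega)
      omega
    interval_cases a <;> norm_num at hpa <;> try omega
    subst hpa
    obtain rfl : d = 15 := by omega
    exact ⟨rfl, rfl, seventeen χ hdeg hfaith P hnn⟩
  left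
  obtain ⟨ρ, hρ, -, -, L, hLn, hcore, hirr⟩ := exists_core χ hdeg hfaith hp (by omega) P hnn
  haveI := hLn
  haveI := hirr
  haveI : Fintype L := Fintype.ofFinite L
  have hinj : Function.Injective
      (MonoidHom.comp ρ L.subtype : Representation ℂ L (Fin d → ℂ)) := hρ.comp L.subtype_injective
  rcases core_cases hcore hp11 (d := d) (by omega) _ hinj with
    ⟨hd3, ⟨e⟩⟩ | ⟨t, e, hpte, hde, he, ht, -, hodd, halt⟩
  · exact ⟨quotient_of_core hp ρ hρ L hcore hirr e, by omega⟩
  · exfalso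
    obtain ⟨rfl, rfl⟩ := small_left hd hpte hde he ht hodd halt
    have hc : SmallDeg16.Core 19 L := ⟨hcore.prime, le_refl _, hcore.perf, hcore.dvd, hcore.sq, hcore.norm⟩
    exact SmallDeg16.absurd_nineteen hc (SmallDeg16.prime_dvd_cases hc _ hinj) _ hinj

end Cfsg.Agent.Feit
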