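import Cfsg.Agent.Lib.Feit.EdgeMod
import Cfsg.Agent.Lib.SmallDim.Reduce
import Mathlib.RingTheory.Valuation.ValuationSubring
import Mathlib.LinearAlgebra.Matrix.Rank
import Mathlib.RepresentationTheory.Character

/-!
Integral representations over a valuation ring: ranks under reduction, and the transfer from the
normaliser of a trivial intersection subgroup of prime order.
-/

set_option autoImplicit false
set_option linter.unusedSectionVars false
set_option linter.style.haveILetI false

namespace Cfsg.Agent.Feit

open IsLocalRing Module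
open scoped Classical

universe u

variable {V : ValuationSubring ℂ} {ι κ : Type*} [Fintype ι] [Fintype κ] [DecidableEq ι] [DecidableEq κ]

/-- The integral points of a subspace, reduced. -/
noncomputable def redSpace (V : ValuationSubring ℂ) (U : Submodule ℂ (ι → ℂ)) :
    Submodule (ResidueField V) (ι → ResidueField V) :=
  Submodule.span (ResidueField V)
    {r | ∃ z : ι → V, (fun i => (z i : ℂ)) ∈ U ∧ (fun i => residue V (z i)) = r}

theorem exists_normalised {u : ι → ℂ} (hu : u ≠ 0) :
    ∃ i, u i ≠ 0 ∧ ∀ j, u j / u i ∈ V := by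
  obtain ⟨j₀, hj₀⟩ := Function.ne_iff.1 hu
  obtain ⟨i, -, hmax⟩ := Finset.exists_max_image Finset.univ (fun x => V.valuation (u x))
    ⟨j₀, Finset.mem_univ _⟩
  have hi : u i ≠ 0 := fun h => by
    have h1 := hmax j₀ (Finset.mem_univ _)
    rw [h, map_zero, le_zero_iff, map_eq_zero] at h1
    exact hj₀ h1
  refine ⟨i, hi, fun j => ?_⟩
  rw [← ValuationSubring.valuation_le_one_iff, map_div₀]
  refine (div_le_one₀ (zero_lt_iff.2 ((_root_.map_ne_zero V.valuation).2 hi))).2 (hmax j (Finset.mem_univ _))

/-- Reduction keeps the dimension. -/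
theorem le_finrank_redSpace (U : Submodule ℂ (ι → ℂ)) :
    finrank ℂ U ≤ finrank (ResidueField V) (redSpace V U) := by
  suffices ∀ (n : ℕ) (U : Submodule ℂ (ι → ℂ)), finrank ℂ U = n →
      n ≤ finrank (ResidueField V) (redSpace V U) from this _ U rfl
  intro n
  induction n with
  | zero => exact fun _ _ => Nat.zero_le _
  | succ n ih =>
    intro U hU
    have hne : U ≠ ⊥ := fun h => by rw [h, finrank_bot] at hU; omega
    obtain ⟨u, huU, hu0⟩ := (Submodule.ne_bot_iff _).1 hne
    obtain ⟨i, hi, hmem⟩ := exists_normalised (V := V) hu0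
    set pr : (ι → ℂ) →ₗ[ℂ] ℂ := LinearMap.proj i with hpr
    set U' := U ⊓ LinearMap.ker pr with hU'
    have hn : n ≤ finrank ℂ U' := by
      have h1 := (pr.domRestrict U).finrank_range_add_finrank_ker
      have h2 := (LinearMap.range (pr.domRestrict U)).finrank_le
      rw [Module.finrank_self] at h2
      have h3 : finrank ℂ (LinearMap.ker (pr.domRestrict U)) ≤ finrank ℂ U' := by
        let f : LinearMap.ker (pr.domRestrict U) →ₗ[ℂ] U' :=
          (U.subtype.comp (LinearMap.ker (pr.domRestrict U)).subtype).codRestrict U'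
            fun x => ⟨x.1.2, x.2⟩
        exact LinearMap.finrank_le_finrank_of_injective (f := f) fun a b h =>
          Subtype.ext (Subtype.ext (congrArg (fun z : U' => (z : ι → ℂ)) h))
      omega
    have hlt : redSpace V U' < redSpace V U := by
      refine lt_of_le_of_ne (Submodule.span_mono fun r ⟨z, hz, e⟩ => ⟨z, hz.1, e⟩) fun heq => ?_
      have hv : (fun j => residue V (⟨u j / u i, hmem j⟩ : V)) ∈ redSpace V U :=
        Submodule.subset_span ⟨fun j => ⟨u j / u i, hmem j⟩, by
          have : (fun j => u j / u i) = (u i)⁻¹ • u := funext fun j => by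
            rw [Pi.smul_apply, smul_eq_mul, div_eq_mul_inv, mul_comm]
          rw [this]
          exact U.smul_mem _ huU, rfl⟩
      rw [← heq] at hv
      have hzero : redSpace V U' ≤ LinearMap.ker (LinearMap.proj i :
          (ι → ResidueField V) →ₗ[ResidueField V] ResidueField V) := by
        refine Submodule.span_le.2 ?_
        rintro r ⟨z, hz, rfl⟩
        have h0 : (z i : ℂ) = 0 := hz.2
        show residue V (z i) = 0
        rw [show z i = 0 from Subtype.ext h0, map_zero]
      have h1 : residue V (⟨u i / u i, hmem i⟩ : V) = 0 := hzero hv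
      rw [show (⟨u i / u i, hmem i⟩ : V) = 1 from Subtype.ext (div_self hi), map_one] at h1
      exact one_ne_zero h1
    rcases Nat.eq_zero_or_pos n with rfl | hn0
    · have := Submodule.finrank_lt_finrank_of_lt hlt
      omega
    · obtain ⟨U'', hU'', hd⟩ : ∃ U'' ≤ U', finrank ℂ U'' = n :=
        ⟨U', le_rfl, le_antisymm (by
          have : U' < U := lt_of_le_of_ne inf_le_left fun h => hi (by
            have hm : u ∈ U' := h ▸ huU
            exact hm.2)
          have := Submodule.finrank_lt_finrank_of_lt this
          omega) hn⟩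
      have h1 := ih U'' hd
      have h2 : finrank (ResidueField V) (redSpace V U'') ≤ finrank (ResidueField V) (redSpace V U') :=
        Submodule.finrank_mono (Submodule.span_mono fun r ⟨z, hz, e⟩ => ⟨z, hU'' hz, e⟩)
      have := Submodule.finrank_lt_finrank_of_lt hlt
      omega

/-- The rank can only drop under reduction. -/
theorem rank_map_residue_le (M : Matrix ι κ V) :
    (M.map (residue V)).rank ≤ (M.map fun x : V => (x : ℂ)).rank := by
  set S : Set (ι → ResidueField V) := Set.range (M.map (residue V)).col with hS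
  obtain ⟨b, hbsub, hspan, hli⟩ := exists_linearIndependent (ResidueField V) S
  have hbfin : b.Finite := (Set.finite_range _).subset hbsub
  haveI : Fintype b := hbfin.fintype
  choose j hj using fun x : b => hbsub x.2
  have hlc : LinearIndependent ℂ fun x : b => (M.map fun x : V => (x : ℂ)).col (j x) := by
    rw [Fintype.linearIndependent_iff]
    intro c hc
    by_contra hne
    push Not at hne
    obtain ⟨x₀, hx₀⟩ := hne
    obtain ⟨x₁, hx₁, hmem⟩ := exists_normalised (V := V) (u := c) fun h => hx₀ (by rw [h]; rfl)
    let c' : b → V := fun x => ⟨c x / c x₁, hmem x⟩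
    have h0 : ∀ i, ∑ x, c' x * M i (j x) = 0 := fun i => Subtype.ext (by
      push_cast
      have h1 := congrFun hc i
      simp only [Finset.sum_apply, Pi.smul_apply, Matrix.col_apply, Matrix.map_apply, smul_eq_mul,
        Pi.zero_apply] at h1
      rw [← mul_zero (c x₁)⁻¹, ← h1, Finset.mul_sum]
      refine Finset.sum_congr rfl fun x _ => ?_
      show c x / c x₁ * _ = _
      ring)
    have h2 := Fintype.linearIndependent_iff.1 hli (fun x => residue V (c' x)) (funext fun i => by
      have h3 := congrArg (residue V) (h0 i)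
      simp only [map_sum, map_mul, map_zero] at h3
      simp only [Finset.sum_apply, Pi.smul_apply, smul_eq_mul, Pi.zero_apply]
      rw [← h3]
      refine Finset.sum_congr rfl fun x _ => ?_
      rw [← congrFun (hj x) i]
      rfl) x₁
    rw [show c' x₁ = 1 from Subtype.ext (div_self hx₁), map_one] at h2
    exact one_ne_zero h2
  rw [Matrix.rank_eq_finrank_span_cols, Matrix.rank_eq_finrank_span_cols, ← hS, ← hspan,
    show b = Set.range (fun x : b => (x : ι → ResidueField V)) from Subtype.range_coe.symm,
    finrank_span_eq_card hli, ← finrank_span_eq_card hlc]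
  exact Submodule.finrank_mono (Submodule.span_mono (Set.range_subset_iff.2 fun x => Set.mem_range_self _))

section Transfer

variable {G : Type u} [Group G] [Fintype G]

/-- The representation of a matrix homomorphism. -/
noncomputable def matRep {R : Type*} [CommRing R] (τ : G →* Matrix ι ι R) : Representation R G (ι → R) :=
  (Matrix.toLinAlgEquiv' (R := R) (n := ι)).toAlgHom.toRingHom.toMonoidHom.comp τ

theorem matRep_apply {R : Type*} [CommRing R] (τ : G →* Matrix ι ι R) (g : G) :
    matRep τ g = Matrix.toLin' (τ g) := rfl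

/-- The complex form of an integral representation. -/
noncomputable def cRep (τ : G →* Matrix ι ι V) : Representation ℂ G (ι → ℂ) :=
  matRep ((V.subtype.mapMatrix : Matrix ι ι V →+* Matrix ι ι ℂ).toMonoidHom.comp τ)

/-- The reduced form of an integral representation. -/
noncomputable def kRep (τ : G →* Matrix ι ι V) : Representation (ResidueField V) G (ι → ResidueField V) :=
  matRep (((residue V).mapMatrix : Matrix ι ι V →+* Matrix ι ι (ResidueField V)).toMonoidHom.comp τ)

theorem cRep_coe (τ : G →* Matrix ι ι V) (g : G) (z : ι → V) :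
    cRep τ g (fun i => (z i : ℂ)) = fun i => (((τ g).mulVec z) i : ℂ) := by
  funext i
  show ((τ g).map V.subtype).mulVec (fun i => (z i : ℂ)) i = _
  simp [Matrix.mulVec, dotProduct]

theorem kRep_residue (τ : G →* Matrix ι ι V) (g : G) (z : ι → V) :
    kRep τ g (fun i => residue V (z i)) = fun i => residue V (((τ g).mulVec z) i) := by
  funext i
  show ((τ g).map (residue V)).mulVec (fun i => residue V (z i)) i = _
  simp [Matrix.mulVec, dotProduct, map_sum]

theorem cRep_character (τ : G →* Matrix ι ι V) (g : G) :
    (cRep τ).character g = ((τ g).trace : ℂ) := by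
  rw [Representation.character, cRep, matRep_apply, Matrix.trace_toLin'_eq]
  show ((τ g).map V.subtype).trace = _
  simp [Matrix.trace]

/-- The transfer: the fixed points of the normaliser that the transfer kills are traces modulo `p`. -/
theorem transfer_bound {p : ℕ} [Fact p.Prime] [CharP (ResidueField V) p] (τ : G →* Matrix ι ι V)
    {S : Subgroup G} [Fintype S] (hS : Nat.card S = p) (hsq : ¬ p ^ 2 ∣ Nat.card G)
    (Z : Submodule (ResidueField V) (ι → ResidueField V))
    (hZ : ∀ v z : ι → ResidueField V, (∀ g ∈ Subgroup.normalizer (S : Set G), kRep τ g v = v) →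
      v = ∑ s : S, kRep τ (s : G) z → v ∈ Z) :
    finrank ℂ (Representation.invariants
        ((cRep τ).comp (Subgroup.normalizer (S : Set G)).subtype :
          Representation ℂ (Subgroup.normalizer (S : Set G)) (ι → ℂ))) ≤
      finrank ℂ (Representation.invariants (cRep τ)) + finrank (ResidueField V) Z := by
  set N := Subgroup.normalizer (S : Set G) with hN
  haveI : Fintype (G ⧸ N) := Fintype.ofFinite _
  set ρN : Representation ℂ N (ι → ℂ) := (cRep τ).comp N.subtype with hρN
  let out : G ⧸ N → G := Quotient.out
  set T : (ι → ℂ) →ₗ[ℂ] (ι → ℂ) := ∑ q : G ⧸ N, cRep τ (out q) with hT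
  set WN := Representation.invariants ρN with hWN
  have hfix : ∀ v ∈ WN, ∀ g ∈ N, cRep τ g v = v := fun v hv g hg => hv ⟨g, hg⟩
  have hrange : ∀ v ∈ WN, T v ∈ Representation.invariants (cRep τ) := by
    intro v hv g
    rw [hT, LinearMap.sum_apply, map_sum]
    refine Fintype.sum_equiv (MulAction.toPerm g) _ _ fun q => ?_
    rw [← Module.End.mul_apply, ← map_mul, MulAction.toPerm_apply]
    obtain ⟨x, hx⟩ : ∃ x ∈ N, g * out q = out (g • q) * x := by
      refine ⟨(out (g • q))⁻¹ * (g * out q), QuotientGroup.eq.1 ?_, (mul_inv_cancel_left _ _).symm⟩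
      show ((out (g • q) : G) : G ⧸ N) = ((g * out q : G) : G ⧸ N)
      rw [show ((out (g • q) : G) : G ⧸ N) = g • q from Quotient.out_eq _]
      conv_lhs => rw [← Quotient.out_eq q]
      rfl
    rw [hx.2, map_mul, Module.End.mul_apply, hfix v hv x hx.1]
  set T' : WN →ₗ[ℂ] Representation.invariants (cRep τ) :=
    (T.comp WN.subtype).codRestrict _ fun v => hrange v v.2 with hT'
  set U : Submodule ℂ (ι → ℂ) := (LinearMap.ker T').map WN.subtype with hU
  have hUdim : finrank ℂ WN ≤ finrank ℂ (Representation.invariants (cRep τ)) + finrank ℂ U := by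
    have h1 := T'.finrank_range_add_finrank_ker
    have h2 := (LinearMap.range T').finrank_le
    have h3 : finrank ℂ U = finrank ℂ (LinearMap.ker T') :=
      ((LinearMap.ker T').equivMapOfInjective WN.subtype WN.injective_subtype).finrank_eq.symm
    omega
  have hred : redSpace V U ≤ Z := by
    refine Submodule.span_le.2 ?_
    rintro r ⟨z, ⟨w, hw, hwz⟩, rfl⟩
    have hzN : ∀ g ∈ N, kRep τ g (fun i => residue V (z i)) = fun i => residue V (z i) := by
      intro g hg
      rw [kRep_residue]
      funext i
      congr 1
      have h1 := congrFun (hfix _ (show (fun i => (z i : ℂ)) ∈ WN by rw [← hwz]; exact w.2) g hg) i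
      rw [cRep_coe] at h1
      exact Subtype.ext h1
    have hsum : ∑ q : G ⧸ N, kRep τ (out q) (fun i => residue V (z i)) = 0 := by
      have h1 : T (fun i => (z i : ℂ)) = 0 := hwz ▸ congrArg Subtype.val hw
      rw [hT, LinearMap.sum_apply] at h1
      funext i
      have h2 := congrFun h1 i
      simp only [Finset.sum_apply, cRep_coe, Pi.zero_apply] at h2
      have h3 : ∑ q : G ⧸ N, ((τ (out q)).mulVec z) i = 0 := Subtype.ext (by push_cast; exact h2)
      simp only [Finset.sum_apply, kRep_residue, Pi.zero_apply]
      rw [← map_sum, h3, map_zero]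
    set v : ι → ResidueField V := fun i => residue V (z i) with hv
    have hFact : ∀ (g : G) (q : G ⧸ N), kRep τ (out (g • q)) v = kRep τ g (kRep τ (out q) v) := by
      intro g q
      obtain ⟨x, hx, e⟩ : ∃ x ∈ N, g * out q = out (g • q) * x := by
        refine ⟨(out (g • q))⁻¹ * (g * out q), QuotientGroup.eq.1 ?_, (mul_inv_cancel_left _ _).symm⟩
        show ((out (g • q) : G) : G ⧸ N) = ((g * out q : G) : G ⧸ N)
        rw [show ((out (g • q) : G) : G ⧸ N) = g • q from Quotient.out_eq _]
        conv_lhs => rw [← Quotient.out_eq q]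
        rfl
      rw [← Module.End.mul_apply, ← map_mul, e, map_mul, Module.End.mul_apply, hzN x hx]
    have hSN : S ≤ N := Subgroup.le_normalizer
    have hbase : kRep τ (out ((1 : G) : G ⧸ N)) v = v := by
      refine hzN _ ?_
      have h1 : ((out ((1 : G) : G ⧸ N) : G) : G ⧸ N) = ((1 : G) : G ⧸ N) := Quotient.out_eq _
      rw [QuotientGroup.eq] at h1
      simpa using N.inv_mem h1
    obtain ⟨f, hf⟩ := Edge.orbit_sum (kRep τ) (S := S) (fun q => kRep τ (out q) v)
      ((Finset.univ : Finset (G ⧸ N)).erase ((1 : G) : G ⧸ N))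
      (fun s q hq => Finset.mem_erase.2 ⟨fun h => (Finset.mem_erase.1 hq).1 (by
        have h' : ((s : G)⁻¹) • ((s : G) • q) = ((s : G)⁻¹) • ((1 : G) : G ⧸ N) := congrArg _ h
        rw [inv_smul_smul] at h'
        rw [h']
        show (((s : G)⁻¹ * 1 : G) : G ⧸ N) = _
        exact QuotientGroup.eq.2 (by simpa using hSN s.2)), Finset.mem_univ _⟩)
      (fun s q => hFact (s : G) q)
      (fun q hq s hs => by
        obtain ⟨c, rfl⟩ := QuotientGroup.mk_surjective q
        have hc : c ∉ N := fun h => (Finset.mem_erase.1 hq).1 (QuotientGroup.eq.2 (by simpa using h))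
        replace hs : (((s : G) * c : G) : G ⧸ N) = (c : G ⧸ N) := hs
        rw [QuotientGroup.eq] at hs
        exact Subtype.ext (SmallDim.ti_of_prime S hS hsq c hc s s.2
          (by simpa [mul_assoc] using N.inv_mem hs)))
    rw [← Finset.add_sum_erase _ _ (Finset.mem_univ ((1 : G) : G ⧸ N)), hbase, ← hf] at hsum
    refine hZ v (-f) hzN ?_
    rw [LinearMap.sum_apply] at hsum
    simp only [map_neg, Finset.sum_neg_distrib]
    exact eq_neg_of_add_eq_zero_left hsum
  exact hUdim.trans (Nat.add_le_add_left ((le_finrank_redSpace U).trans (Submodule.finrank_mono hred)) _)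

end Transfer

end Cfsg.Agent.Feit
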