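import Cfsg.Agent.Lib.Feit.Alt
import Cfsg.Agent.Lib.Feit.Small

/-!
An exceptional faithful character of degree `p - e` with `e` and `(p - 1) / e` at least three: the
centre has even order, `e` is odd, and the exterior square bounds one of `e`, `(p - 1) / e` by the other.
-/

set_option autoImplicit false
set_option linter.unusedSectionVars false
set_option linter.style.haveILetI false

namespace Cfsg.Agent.Feit

open Cfsg Cfsg.Agent.Char Cfsg.Agent.Blocks Cfsg.Agent.CCSylow Cfsg.Agent.DefOne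
open Cfsg.Agent.DegreePTwo
open Cfsg.Agent.SmallDeg16 (mult Cen Coord HasMult Fam lin_norm exists_fam altF symF)
open scoped ComplexConjugate

universe u

theorem natCast_eq_one_of_dvd {p : ℕ} {n : ℕ} (hp : p.Prime) (h : (p : ℤ) ∣ (n : ℤ)) (h1 : n < p) :
    n = 0 := by
  by_contra hne
  exact absurd (Nat.le_of_dvd (Nat.pos_of_ne_zero hne) (Int.natCast_dvd_natCast.1 h)) (not_le.2 h1)

theorem exists_not_roots {p t e : ℕ} [Fact p.Prime] (hp : p = t * e + 1) (he : 0 < e) (ht : 2 ≤ t) :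
    ∃ r : ZMod p, r ≠ 0 ∧ -r ∉ roots e := by
  by_contra h
  push Not at h
  have hsub : (nz (p := p)) ⊆ nz.filter fun r => -r ∈ roots e := fun r hr =>
    Finset.mem_filter.2 ⟨hr, h r (mem_nz.1 hr)⟩
  have h1 := Finset.card_le_card hsub
  rw [card_nz hp, card_neg_roots hp] at h1
  have h2 : 2 * e ≤ t * e := Nat.mul_le_mul_right e ht
  omega

variable {G : Type u} [Group G] [Fintype G] {p : ℕ} {P V N : Subgroup G} {e : ℕ} (K : Conf p P V N e)
  [Fintype P] [Fintype V] [Fintype N] [Fintype (P →* ℂˣ)] [NeZero p] [Fact p.Prime]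
  {ζ : IrrCharacter G} {b : IrrCharacter V} {C : Coord p P}

include K

theorem Exc.exists_mu (L : Exc K ζ b C) : ∃ μ : IrrCharacter V, (μ : V → ℂ) 1 = 1 ∧
    ∀ v : V, (μ : V → ℂ) v = (b : V → ℂ) v * (b : V → ℂ) v := by
  obtain ⟨g, hg⟩ := SmallDeg16.lin_hom L.lin
  refine ⟨⟨_, isIrrCharacter_linear (g * g)⟩, ?_, fun v => ?_⟩
  · show (((g * g) 1 : ℂˣ) : ℂ) = 1
    simp
  · show (((g * g) v : ℂˣ) : ℂ) = _
    rw [hg, MonoidHom.mul_apply, Units.val_mul]

/-- For even `e` the centre has odd order. -/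
theorem Exc.odd_center (L : Exc K ζ b C) (hperf : commutator G = ⊤) (heven : Even e) :
    Odd (Nat.card V) := by
  rw [← Nat.not_even_iff_odd]
  intro hev
  haveI := Fact.mk Nat.prime_two
  obtain ⟨v, hv⟩ := exists_prime_orderOf_dvd_card' 2 (even_iff_two_dvd.1 hev)
  have hv2 : (b : V → ℂ) v ^ 2 = 1 := by
    rw [← SmallDeg16.lin_pow L.lin, ← hv, pow_orderOf_eq_one, L.lin]
  have hd := SmallDeg16.cen_pow_degree hperf L.lin L.cen v
  have hodd : Odd (charDegree (ζ : G → ℂ)) := by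
    have hpo := (Fact.out : p.Prime).odd_of_ne_two (by have := L.half; have := L.two_le; omega)
    rw [← L.deg, Nat.odd_add] at hpo
    exact hpo.2 heven
  have h1 : (b : V → ℂ) v = 1 := by
    obtain ⟨q, hq⟩ := hodd
    rwa [hq, pow_succ, pow_mul, hv2, one_pow, one_mul] at hd
  have hone : (v : G) = 1 := L.faith _ (by rw [L.cen.apply, h1, one_mul])
  rw [show v = 1 from Subtype.ext hone, orderOf_one] at hv
  exact absurd hv (by norm_num)

variable {M : Ideal AlgInt} [M.IsPrime] {μ : IrrCharacter V} {X Y : Finset (IrrCharacter G)} {δ : ℤ}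
  {sg : IrrCharacter G → ℤ}

/-- An odd centre makes the block of the square positive. -/
theorem Exc.sign_pos_of_odd (L : Exc K ζ b C) (F : Fam K (M := M) μ X Y δ sg)
    (hμ : ∀ v : V, (μ : V → ℂ) v = (b : V → ℂ) v * (b : V → ℂ) v) (hk : Odd (Nat.card V)) : δ = 1 := by
  obtain ⟨σ, hσ⟩ := CharGalois.exists_galoisAut (n := Nat.card V) (k := 2) Nat.card_pos.ne'
    (Nat.coprime_two_left.2 hk)
  set θ := galT σ ζ with hθ
  have hc : Cen V (θ : G → ℂ) μ := fun v g => by
    rw [galT_apply, galT_apply, L.cen, map_mul, hσ _ ?_, pow_two, hμ]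
    rw [← SmallDeg16.lin_pow L.lin, pow_card_eq_one', L.lin]
  have hd : charDegree (θ : G → ℂ) = charDegree (ζ : G → ℂ) := by
    have h := galT_one σ ζ
    rw [irr_one_eq_charDegree, irr_one_eq_charDegree] at h
    exact_mod_cast h
  have hde := L.deg
  have hhalf := L.half
  have he2 := L.two_le
  have hdp : ¬ p ∣ charDegree (θ : G → ℂ) := fun h => by
    rw [hd] at h
    rcases Nat.eq_zero_or_pos (charDegree (ζ : G → ℂ)) with h0 | h0
    · omega
    · have := Nat.le_of_dvd h0 h; omega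
  rcases F.mem_of_cen hc hdp with hX | hY
  · exfalso
    have h := F.deg_X hX
    rw [hd] at h
    have h2 : (p : ℤ) ∣ (e : ℤ) + sg θ := by
      have h3 := Int.dvd_sub (dvd_refl (p : ℤ)) h
      convert h3 using 1
      omega
    rcases F.fam.signX _ hX with hs | hs <;> rw [hs] at h2
    · have := natCast_eq_one_of_dvd (n := e + 1) K.hp (by exact_mod_cast h2) (by omega)
      omega
    · have := natCast_eq_one_of_dvd (n := e - 1) K.hp (by
        rw [Nat.cast_sub (by omega), Nat.cast_one]; exact h2) (by omega)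
      omega
  · rcases F.fam.sign with h | h
    · exact h
    exfalso
    have h1 := F.deg_Y hY
    rw [hd, h] at h1
    have h2 : (p : ℤ) ∣ (e : ℤ) + e := by
      have h3 := Int.dvd_sub (dvd_refl (p : ℤ)) h1
      convert h3 using 1
      omega
    have := natCast_eq_one_of_dvd (n := e + e) K.hp (by exact_mod_cast h2) (by omega)
    omega

open scoped Classical in
/-- The integer of the block of the square. -/
theorem Exc.sq_block (L : Exc K ζ b C) {t : ℕ} (hp : p = t * e + 1) (he : 3 ≤ e) (ht : 3 ≤ t)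
    (F : Fam K (M := M) μ X Y δ sg) (hμ : ∀ v : V, (μ : V → ℂ) v = (b : V → ℂ) v * (b : V → ℂ) v)
    (hno : ∀ χ : IrrCharacter G, charDegree (χ : G → ℂ) ≠ e) :
    ∃ (ν ε : N →* ℂˣ) (m : ℤ), IsExt (P := P) ν b ∧
      (∀ n : N, (n : G) ∉ Subgroup.centralizer (P : Set G) → (ζ : G → ℂ) n = (ν n : ℂ)) ∧
      IsExt (P := P) ε μ ∧ (∀ θ ∈ Y, 1 ≤ fixd (θ : G → ℂ) ε) ∧
      δ * ((t : ℤ) * m - e) ≤ (t : ℤ) - 1 ∧
      ∀ r c : ZMod p, r ≠ 0 → c ≠ 0 → 0 ≤ δ * (m - (R e r c : ℤ)) := by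
  obtain ⟨ν, hν, hout⟩ := L.exists_nu K
  have hνν : IsExt (P := P) (ν * ν) μ :=
    ⟨fun n hn => by rw [MonoidHom.mul_apply, hν.onP n hn, one_mul],
      fun n hn => by rw [MonoidHom.mul_apply, Units.val_mul, hν.onV n hn, hμ]⟩
  obtain ⟨ε, hε, hY⟩ := shared_ext K F C hνν hno
  obtain ⟨f, hf, hc, ha, hfo, hreg⟩ := L.exists_sq K hp hout hμ
  obtain ⟨m, hm⟩ := block_bound K hp he (by omega) F C hνν hε hY f hf hc ha hfo hreg
  refine ⟨ν, ε, m, hν, hout, hε, hY, ?_, fun r c hr hc' => ?_⟩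
  · obtain ⟨r, hr, hrn⟩ := exists_not_roots hp (by omega) (by omega)
    obtain ⟨h1, h2, -⟩ := hm r hr
    have h3 : (∑ θ ∈ Y, mult (f r) θ) ≤ fixd (f r) ε := budget' K hY (hf r hr)
    rw [if_neg hrn] at h1 h2
    have hsq := F.delta_sq
    have h4 : δ * ((t : ℤ) * m - e) = ((∑ θ ∈ Y, mult (f r) θ : ℕ) : ℤ) := by
      linear_combination (-δ) * h2 + ((∑ θ ∈ Y, mult (f r) θ : ℕ) : ℤ) * hsq
    rw [h4]
    split_ifs at h1 <;> omega
  · obtain ⟨w, hw⟩ := (hm r hr).2.2 c hc'
    rw [hw, show δ * (m - (m - δ * (w : ℤ))) = δ * δ * w by ring, F.delta_sq, one_mul]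
    exact Int.natCast_nonneg _

open scoped Classical in
/-- The squeeze: the block of the square is negative. -/
theorem Exc.sq_neg (L : Exc K ζ b C) (hcore : Core p G) {t : ℕ} (hp : p = t * e + 1) (he : 3 ≤ e)
    (ht : 3 ≤ t) (F : Fam K (M := M) μ X Y δ sg)
    (hμ : ∀ v : V, (μ : V → ℂ) v = (b : V → ℂ) v * (b : V → ℂ) v) : δ = -1 := by
  refine F.fam.sign.resolve_left fun hδ => ?_
  have hp' : (p : ℤ) = t * e + 1 := by exact_mod_cast hp
  have h2p : p ≠ 2 := by
    have : 3 * 3 ≤ t * e := Nat.mul_le_mul ht he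
    omega
  have hno : ∀ χ : IrrCharacter G, charDegree (χ : G → ℂ) ≠ e := fun χ h =>
    not_small_degree hcore χ h (by omega) (by
      have : 3 * e ≤ t * e := Nat.mul_le_mul_right e ht
      omega)
  obtain ⟨ν, ε, M', hν, hout, hε, hY, hM', hR⟩ := L.sq_block K hp he ht F hμ hno
  rw [hδ, one_mul] at hM'
  simp only [hδ, one_mul, sub_nonneg] at hR
  -- the principal block
  obtain ⟨X0, Y0, δ0, sg0, F0⟩ := exists_fam K F.hM F.hV (principal V) rfl
  have hone : IsExt (P := P) (1 : N →* ℂˣ) (principal V) :=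
    ⟨fun _ _ => rfl, fun n hn => by rw [MonoidHom.one_apply, Units.val_one]; rfl⟩
  obtain ⟨ε0, hε0, hY0⟩ := shared_ext K F0 C hone hno
  obtain ⟨f, hf, hc, ha, hfo, hreg, hpr⟩ := L.exists_one K hp hout (μ := principal V) fun _ => rfl
  obtain ⟨m, hm⟩ := block_bound K hp he (by omega) F0 C hone hε0 hY0 f hf hc ha hfo hreg
  rcases F0.fam.sign with h0 | h0
  · have hd : (t : ℤ) * m - e ≤ t - 2 := by
      have hr : (-1 : ZMod p) ≠ 0 := neg_ne_zero.2 one_ne_zero
      have hmem : -(-1 : ZMod p) ∈ roots e := by rw [neg_neg, mem_roots, one_pow]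
      obtain ⟨h1, h2, -⟩ := hm _ hr
      rw [if_pos hmem] at h1 h2
      rw [h0, one_mul] at h2
      have hP0 : principal G ∉ Y0 := fun h => by
        have h3 := F0.deg_Y h
        rw [SmallDeg16.charDegree_principal, h0, one_mul] at h3
        have := natCast_eq_one_of_dvd (n := 1 + e) K.hp (by exact_mod_cast h3)
          (by have := Nat.mul_le_mul_right e ht; omega)
        omega
      have h3 := budget K hY0 (hf _ hr) hP0
      have h4 := hpr _ hr hmem
      by_cases hε1 : ε0 = 1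
      · have hfx : fixd (principal G : G → ℂ) ε0 = 1 := by
          have h5 : inn (principal G : G → ℂ) ε0 = 1 := by
            rw [hε1]
            simp only [inn, classInner, SmallDeg16.principal_apply, MonoidHom.one_apply, Units.val_one,
              map_one, mul_one, Finset.sum_const, Finset.card_univ, nsmul_eq_mul]
            rw [← Nat.card_eq_fintype_card, inv_mul_cancel₀ (Nat.cast_ne_zero.2 Nat.card_pos.ne')]
          rw [inn_eq_fixd (IsIrrCharacter.isCharacter (principal G).2)] at h5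
          exact_mod_cast h5
        rw [hfx, mul_one] at h3
        rw [if_pos hε1] at h1
        omega
      · rw [if_neg hε1] at h1
        have h6 : (∑ θ ∈ Y0, mult (f (-1)) θ) ≤ fixd (f (-1)) ε0 := le_trans (Nat.le_add_right _ _) h3
        omega
    refine L2 hp he ht m (fun j c hj hc' => ?_) hd fun heven => ?_
    · obtain ⟨w, hw⟩ := (hm j hj).2.2 c hc'
      rw [h0, one_mul] at hw
      omega
    · obtain ⟨⟨hA, hAc, hAm⟩, hS, hSc, hSm⟩ := L.squares K hp h2p hμ
      have hzero := L.one_zero K hp heven hμ F.lin hν hout hε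
      have hw0 : ∀ g : G → ℂ, IsCharacter G g → fixd g ε = 0 → ∀ c, F.wY C g c = 0 := by
        intro g hg h c
        have h1 := (budget' K hY hg).trans h.le
        have h2 := Finset.sum_eq_zero_iff.1 (Nat.le_zero.1 h1)
        exact Finset.sum_eq_zero fun θ hθ => by rw [h2 θ hθ]; exact ite_self _
      have hR0 : (R e 1 (0 : ZMod p) : ℤ) = e := by
        rw [R_zero hp one_ne_zero, if_pos (mem_roots.2 heven.neg_one_pow)]
      rcases hzero with hz | hz
      · refine ⟨(e : ℤ) - 2 * ∑ χ ∈ X, (mult (altF (ζ : G → ℂ)) χ : ℤ) * sg χ, 1, Or.inl rfl,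
          fun c hc' => ?_⟩
        have h := F.mult_eqn C hA hAc hAm hc'
        rw [hw0 _ hA hz, Nat.cast_zero, mul_zero, add_zero] at h
        have h5 := (two_mul_aAlt h2p e (0 : ZMod p)).1
        have h6 := (two_mul_aAlt h2p e c).1
        rw [zero_div, aJ_zero (by omega) 1, hR0] at h5
        rw [aJ, inv_one, mul_one] at h6
        rw [← h]
        split_ifs at h6 ⊢ <;> linarith
      · refine ⟨(e : ℤ) - 2 * ∑ χ ∈ X, (mult (symF (ζ : G → ℂ)) χ : ℤ) * sg χ, -1, Or.inr rfl,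
          fun c hc' => ?_⟩
        have h := F.mult_eqn C hS hSc hSm hc'
        rw [hw0 _ hS hz, Nat.cast_zero, mul_zero, add_zero] at h
        have h5 := (two_mul_aAlt h2p e (0 : ZMod p)).2
        have h6 := (two_mul_aAlt h2p e c).2
        rw [zero_div, aJ_zero (by omega) 1, hR0] at h5
        rw [aJ, inv_one, mul_one] at h6
        rw [← h]
        split_ifs at h6 ⊢ <;> linarith
  · refine L1 hp he ht m M' (fun j c hj hc' => ⟨?_, hR j c hj hc'⟩) ?_ hM'
    · obtain ⟨w, hw⟩ := (hm j hj).2.2 c hc'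
      rw [h0] at hw
      omega
    · obtain ⟨r, hr, hrn⟩ := exists_not_roots hp (by omega) (by omega)
      obtain ⟨h1, h2, -⟩ := hm r hr
      have h3 : (∑ θ ∈ Y0, mult (f r) θ) ≤ fixd (f r) ε0 := budget' K hY0 (hf r hr)
      rw [if_neg hrn] at h1 h2
      rw [h0] at h2
      split_ifs at h1 <;> omega

/-- An odd centre is impossible. -/
theorem Exc.absurd_of_odd (L : Exc K ζ b C) (hcore : Core p G) (hM : IsPModular p M) {t : ℕ}
    (hp : p = t * e + 1) (he : 3 ≤ e) (ht : 3 ≤ t) (hk : Odd (Nat.card V)) : False := by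
  obtain ⟨μ, hμ1, hμ⟩ := L.exists_mu K
  obtain ⟨X, Y, δ, sg, F⟩ := exists_fam K hM L.center.le μ hμ1
  have h1 := L.sign_pos_of_odd K F hμ hk
  have h2 := L.sq_neg K hcore hp he ht F hμ
  omega

open scoped Classical in
/-- The bounds of the exterior square. -/
theorem Exc.alt_bound (L : Exc K ζ b C) (hcore : Core p G) (hM : IsPModular p M) {t : ℕ}
    (hp : p = t * e + 1) (he : 3 ≤ e) (ht : 3 ≤ t) :
    e + 3 ≤ t ∨ (2 * t ≤ e + 1 ∧ ∀ r c : ZMod p, r ≠ 0 → c ≠ 0 → e + 1 ≤ t * R e r c + t) := by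
  rcases Nat.even_or_odd e with heven | hodd
  · exact (L.absurd_of_odd K hcore hM hp he ht (L.odd_center K hcore.perf heven)).elim
  obtain ⟨μ, hμ1, hμ⟩ := L.exists_mu K
  obtain ⟨X, Y, δ, sg, F⟩ := exists_fam K hM L.center.le μ hμ1
  obtain rfl : δ = -1 := L.sq_neg K hcore hp he ht F hμ
  have h2p : p ≠ 2 := by
    have : 3 * 3 ≤ t * e := Nat.mul_le_mul ht he
    omega
  have hno : ∀ χ : IrrCharacter G, charDegree (χ : G → ℂ) ≠ e := fun χ h =>
    not_small_degree hcore χ h (by omega) (by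
      have : 3 * e ≤ t * e := Nat.mul_le_mul_right e ht
      omega)
  obtain ⟨ν, ε, m, hν, hout, hε, hY, hm, hR⟩ := L.sq_block K hp he ht F hμ hno
  obtain ⟨⟨hA, hAc, hAm⟩, -⟩ := L.squares K hp h2p hμ
  have hAout : ∀ n : N, (n : G) ∉ Subgroup.centralizer (P : Set G) → altF (ζ : G → ℂ) n = 0 :=
    fun n hn => (L.alt_out K hν hout hn).1 fun h =>
      (Nat.not_even_iff_odd.2 hodd) (act_of_sq K C hn h).2
  have hR0 : (R e 1 (0 : ZMod p) : ℤ) = 0 := by
    rw [R_zero hp one_ne_zero, if_neg]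
    · rfl
    · rw [mem_roots, hodd.neg_one_pow]
      exact fun h => two_ne_zero' h2p (by linear_combination -h)
  have hp' : (p : ℤ) = t * e + 1 := by exact_mod_cast hp
  have hT : 2 * ((∑ θ ∈ Y, mult (altF (ζ : G → ℂ)) θ : ℕ) : ℤ) ≤ (t : ℤ) - 2 := by
    have h := inn_split K F.hV F.lin hAc hAm hε
    rw [Finset.sum_eq_zero fun n hn => by rw [hAout n (Finset.mem_filter.1 hn).2, zero_mul], add_zero,
      inn_eq_fixd hA] at h
    have h' : (e : ℂ) * fixd (altF (ζ : G → ℂ)) ε = ((aAlt p e 0 : ℤ) : ℂ) :=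
      mul_left_cancel₀ (mul_ne_zero (Nat.cast_ne_zero.2 K.hp.ne_zero)
        (Nat.cast_ne_zero.2 (Nat.card_pos (α := V)).ne')) (by linear_combination h)
    have h'' : (e : ℤ) * fixd (altF (ζ : G → ℂ)) ε = aAlt p e 0 := by exact_mod_cast h'
    have h5 := (two_mul_aAlt h2p e (0 : ZMod p)).1
    rw [zero_div, aJ_zero (by omega) 1, hR0, ← h'', hp'] at h5
    have h6 : 2 * (fixd (altF (ζ : G → ℂ)) ε : ℤ) = (t : ℤ) - 2 :=
      mul_left_cancel₀ (show (e : ℤ) ≠ 0 by omega) (by linear_combination h5)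
    have h7 : (∑ θ ∈ Y, mult (altF (ζ : G → ℂ)) θ) ≤ fixd (altF (ζ : G → ℂ)) ε := budget' K hY hA
    omega
  set S := ∑ χ ∈ X, (mult (altF (ζ : G → ℂ)) χ : ℤ) * sg χ with hS
  have htot : 2 * ((∑ θ ∈ Y, mult (altF (ζ : G → ℂ)) θ : ℕ) : ℤ) = 2 * t * S + e + 1 := by
    obtain ⟨D, hD⟩ := IsCharacter.exists_degree hA
    have hd : (D : ℤ) = ∑ c : ZMod p, aAlt p e c := by
      have h := hAm.degree
      rw [hD] at h
      exact_mod_cast h
    have hd2 : 2 * (D : ℤ) = (p : ℤ) * ((p : ℤ) - 2 * e) + (e : ℤ) ^ 2 - ((p : ℤ) - e) := by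
      rw [hd, Finset.mul_sum, Finset.sum_congr rfl fun c _ => (two_mul_aAlt h2p e c).1,
        Finset.sum_sub_distrib, Finset.sum_add_distrib, Finset.sum_const, Finset.card_univ, ZMod.card,
        nsmul_eq_mul, sum_R hp, Fintype.sum_bijective (fun c : ZMod p => c / 2) (Equiv.divRight₀ (2 : ZMod p) (two_ne_zero' h2p)).bijective _ (aJ p e 1) fun _ => rfl]
      congr 1
      rw [Finset.sum_congr rfl fun i _ => aJ_eq e 1 i, Finset.sum_sub_distrib, Finset.sum_const,
        Finset.card_univ, ZMod.card, Finset.sum_boole]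
      simp [card_roots hp]
    have h := F.mult_total C hA hAc hAm hD
    have h5 := (two_mul_aAlt h2p e (0 : ZMod p)).1
    rw [zero_div, aJ_zero (by omega) 1, hR0] at h5
    rw [← hS, ← Nat.cast_sum] at h
    rw [hp'] at h h5 hd2
    refine mul_left_cancel₀ (show (e : ℤ) ≠ 0 by omega) ?_
    linear_combination 2 * h - ((t : ℤ) * e + 1) * h5 + hd2
  rcases le_or_gt 0 S with hS0 | hS0
  · left
    have : 0 ≤ (t : ℤ) * S := mul_nonneg (by omega) hS0
    rw [mul_assoc] at htot
    omega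
  right
  have hge : ∀ c : ZMod p, c ≠ 0 → 2 ≤ (R e 1 c : ℤ) + if (c / 2) ^ e = 1 then 1 else 0 := fun c hc => by
    have h := F.mult_eqn C hA hAc hAm hc
    rw [← hS] at h
    have h5 := (two_mul_aAlt h2p e (0 : ZMod p)).1
    have h6 := (two_mul_aAlt h2p e c).1
    rw [zero_div, aJ_zero (by omega) 1, hR0] at h5
    rw [aJ, inv_one, mul_one] at h6
    split_ifs at h6 ⊢ <;> omega
  refine ⟨?_, fun r c hr hc => ?_⟩
  · have h1 := Finset.sum_le_sum (s := nz) fun c hc => hge c (mem_nz.1 hc)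
    rw [Finset.sum_add_distrib, Finset.sum_const, card_nz hp, Finset.sum_boole, sum_nz, sum_R hp, hR0,
      sub_zero] at h1
    have hD : (nz.filter fun c : ZMod p => (c / 2) ^ e = 1).card ≤ e := by
      refine (Finset.card_le_card_of_injOn (t := roots (p := p) e) (fun c => c / 2)
        (fun c hc => Finset.mem_coe.2 (mem_roots.2 (Finset.mem_filter.1 (Finset.mem_coe.1 hc)).2))
        fun a _ b _ h => (div_left_inj' (two_ne_zero' h2p)).1 h).trans (card_roots hp).le
    simp only [nsmul_eq_mul, Nat.cast_mul] at h1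
    have hDz : ((nz.filter fun c : ZMod p => (c / 2) ^ e = 1).card : ℤ) ≤ e := by exact_mod_cast hD
    have : (e : ℤ) * (2 * t) ≤ (e : ℤ) * (e + 1) := by linarith
    have := le_of_mul_le_mul_left this (show (0 : ℤ) < e by omega)
    omega
  · have h1 := hR r c hr hc
    have h2 : (t : ℤ) * m ≤ t * R e r c := mul_le_mul_of_nonneg_left (by linarith) (by omega)
    have : (e : ℤ) + 1 ≤ ((t * R e r c + t : ℕ) : ℤ) := by push_cast; linarith
    exact_mod_cast this

end Cfsg.Agent.Feit
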