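import Cfsg.Agent.Lib.Feit.HalfOrbit
import Cfsg.Agent.Lib.Feit.Lattice
import Cfsg.Agent.Lib.SmallDim.Reduce
import Mathlib.Algebra.CharP.Reduced
import Mathlib.Algebra.CharP.Two

/-!
The reduction modulo two of a half core: traces in a field of four resp. two elements, and rank one
projections to the eigenlines of the element of order `p`.
-/

set_option autoImplicit false
set_option linter.unusedSectionVars false
set_option linter.style.haveILetI false

namespace Cfsg.Agent.Feit

open Finset IsLocalRing
open scoped Classical Matrix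

universe u

/-- The trace of a square in characteristic two. -/
theorem trace_sq_char_two {k : Type} [CommRing k] [CharP k 2] {ι : Type*} [Fintype ι] (M : Matrix ι ι k) :
    (M * M).trace = M.trace * M.trace := by
  have h1 : (M * M).trace = ∑ q : ι × ι, M q.1 q.2 * M q.2 q.1 := by
    simp [Matrix.trace, Matrix.mul_apply, Fintype.sum_prod_type]
  have h2 : ∑ q ∈ (Finset.univ : Finset (ι × ι)).filter (fun q => ¬ q.1 = q.2), M q.1 q.2 * M q.2 q.1 = 0 :=
    Finset.sum_involution (fun q _ => q.swap) (fun q _ => by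
      rw [Prod.fst_swap, Prod.snd_swap, mul_comm (M q.2 q.1), CharTwo.add_self_eq_zero])
      (fun q hq _ he => (Finset.mem_filter.1 hq).2 (congrArg Prod.snd he))
      (fun q hq => Finset.mem_filter.2 ⟨Finset.mem_univ _, fun he => (Finset.mem_filter.1 hq).2 he.symm⟩)
      (fun q _ => Prod.swap_swap q)
  rw [h1, ← Finset.sum_filter_add_sum_filter_not Finset.univ (fun q : ι × ι => q.1 = q.2), h2, add_zero]
  have h3 : ∑ q ∈ (Finset.univ : Finset (ι × ι)).filter (fun q => q.1 = q.2), M q.1 q.2 * M q.2 q.1 =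
      ∑ a, M a a * M a a := by
    refine Finset.sum_bij (fun q _ => q.1) (fun _ _ => Finset.mem_univ _) (fun q hq q' hq' e => ?_)
      (fun a _ => ⟨(a, a), Finset.mem_filter.2 ⟨Finset.mem_univ _, rfl⟩, rfl⟩) (fun q hq => ?_)
    · exact Prod.ext e ((Finset.mem_filter.1 hq).2.symm.trans (e.trans (Finset.mem_filter.1 hq').2))
    · rw [(Finset.mem_filter.1 hq).2]
  rw [h3]
  show _ = (∑ a, M a a) * ∑ a, M a a
  rw [CharTwo.sum_mul_self]

theorem trace_two_pow {k : Type} [CommRing k] [CharP k 2] {ι : Type*} [Fintype ι] [DecidableEq ι]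
    (M : Matrix ι ι k) (s : ℕ) : (M ^ 2 ^ s).trace = M.trace ^ 2 ^ s := by
  induction s with
  | zero => simp
  | succ s ih => rw [pow_succ, pow_mul, pow_mul, pow_two, pow_two, trace_sq_char_two, ih]

theorem half_squares_five : (Finset.univ.filter fun j : ZMod 5 => ∃ r, j = r * r).card = 3 := by
  decide +kernel

theorem half_squares_seven : (Finset.univ.filter fun j : ZMod 7 => ∃ r, j = r * r).card = 4 := by
  decide +kernel

variable {L : Type u} [Group L] [Finite L] {p d : ℕ} [NeZero p]
variable {ρ : Representation ℂ L (Fin d → ℂ)} {x : L} (h : HalfCore p d ρ x)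

include h

/-- The multiplicities of the element of order `p`. -/
theorem half_mult (j : ZMod p) : CMult.mult ρ p x j = if IsSquare j then 1 else 0 := by
  have hx : x ^ p = 1 := by
    conv_lhs => rw [← h.ord]
    exact pow_orderOf_eq_one x
  have hle : ∀ j : ZMod p, (if IsSquare j then 1 else 0) ≤ CMult.mult ρ p x j := fun j => by
    by_cases hj : IsSquare j
    · obtain ⟨v, hv0, hv⟩ := h.eig j hj
      rw [if_pos hj]
      exact CMult.one_le_mult ρ hx hv0 hv
    · rw [if_neg hj]; exact Nat.zero_le _
  have hsum : ∑ j : ZMod p, (if IsSquare j then 1 else 0) = ∑ j, CMult.mult ρ p x j := by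
    rw [CMult.sum_mult ρ hx, Finset.sum_boole]
    rcases h.cases with ⟨rfl, rfl⟩ | ⟨rfl, rfl⟩
    · refine congrArg Nat.cast (Eq.trans ?_ half_squares_five)
      congr 1
    · refine congrArg Nat.cast (Eq.trans ?_ half_squares_seven)
      congr 1
  exact ((Finset.sum_eq_sum_iff_of_le fun i _ => hle i).1 hsum j (Finset.mem_univ _)).symm

/-- What is used of the reduction modulo two. -/
structure Red (q : ℕ) {k : Type} [Field k] (A : L →* Matrix (Fin d) (Fin d) k) (ψ : AddChar (ZMod p) k)
    (c : k) (x : L) : Prop where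
  orth : CMult.Orth ψ c
  tr : ∀ g, (A g).trace ^ q = (A g).trace
  proj_tr : ∀ j : ZMod p, IsSquare j → (CMult.proj ψ c (A x) j).trace = 1
  proj_rank : ∀ j : ZMod p, IsSquare j → (CMult.proj ψ c (A x) j).rank ≤ 1
  proj_zero : ∀ j : ZMod p, ¬ IsSquare j → CMult.proj ψ c (A x) j = 0

/-- The exponent with which the traces are fixed. -/
def qOf (p : ℕ) : ℕ := if p = 5 then 4 else 2

theorem exists_red (hgal : GalFixed p ρ) (hzd : Nat.card (Subgroup.center L) ∣ d) :
    ∃ (k : Type) (_ : Field k) (_ : CharP k 2) (A : L →* Matrix (Fin d) (Fin d) k) (ψ : AddChar (ZMod p) k)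
      (c : k), Red (qOf p) A ψ c x := by
  haveI : Fintype L := Fintype.ofFinite L
  obtain ⟨V, hV⟩ := BrauerPairs.exists_valuationSubring_prime Nat.prime_two
  haveI : Fact (Nat.Prime 2) := ⟨Nat.prime_two⟩
  haveI : CharP (ResidueField V) 2 := by
    refine (CharP.charP_iff_prime_eq_zero Nat.prime_two).2 ?_
    rw [← map_natCast (residue V)]
    exact (residue_eq_zero_iff _).2 hV
  obtain ⟨m, -, hm⟩ := SmallDim.exists_integral_form V ρ
  have hp : p = 5 ∨ p = 7 := h.cases.imp And.left And.left
  have hd : d = 3 ∨ d = 4 := h.cases.imp And.right And.right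
  have hodd : Odd p := by rcases hp with rfl | rfl <;> decide
  -- the roots of unity in the valuation ring
  have hmem : ∀ i : ZMod p, (ZMod.stdAddChar i : ℂ) ∈ V := fun i => by
    rw [← ValuationSubring.valuation_le_one_iff]
    have h1 : V.valuation (ZMod.stdAddChar i) ^ p = 1 := by
      rw [← map_pow, ← AddChar.map_nsmul_eq_pow, nsmul_eq_mul, ZMod.natCast_self, zero_mul,
        AddChar.map_zero_eq_one, map_one]
    exact ((pow_eq_one_iff.1 h1).resolve_right (NeZero.ne p)).le
  let ψV : AddChar (ZMod p) V :=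
    { toFun := fun i => ⟨ZMod.stdAddChar i, hmem i⟩
      map_zero_eq_one' := Subtype.ext (AddChar.map_zero_eq_one _)
      map_add_eq_mul' := fun a b => Subtype.ext (AddChar.map_add_eq_mul _ a b) }
  have hpu : IsUnit (p : V) := by
    by_contra hn
    have h0 : residue V (p : V) = 0 := (residue_eq_zero_iff _).2 hn
    rw [map_natCast, CharP.cast_eq_zero_iff (ResidueField V) 2] at h0
    exact (Nat.not_even_iff_odd.2 hodd) (even_iff_two_dvd.2 h0)
  obtain ⟨w, hw⟩ := hpu
  set cV : V := ((w⁻¹ : Vˣ) : V) with hcV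
  have hcc : (cV : ℂ) = (p : ℂ)⁻¹ := by
    refine eq_inv_of_mul_eq_one_left ?_
    have h2 := congrArg Subtype.val (Units.inv_mul w)
    rw [hw] at h2
    exact_mod_cast h2
  have horth : CMult.Orth ψV cV :=
    { inv := Subtype.ext (by
        push_cast; rw [hcc]
        exact inv_mul_cancel₀ (Nat.cast_ne_zero.2 (NeZero.ne p)))
      zero := fun b hb => Subtype.ext (by
        push_cast
        exact (CMult.orth_std p).zero b hb) }
  let A : L →* Matrix (Fin d) (Fin d) (ResidueField V) := ((residue V).mapMatrix.toMonoidHom).comp m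
  have hA : ∀ g, A g = (m g).map (residue V) := fun g => rfl
  have hAtr : ∀ g, (A g).trace = residue V (m g).trace := fun g => by
    rw [hA]; simp [Matrix.trace]
  have hmtr : ∀ g, ((m g).trace : ℂ) = ρ.character g := fun g => by
    rw [Representation.character, ← hm g]; simp [Matrix.trace]
  -- the projections
  have hxp : x ^ p = 1 := by
    conv_lhs => rw [← h.ord]
    exact pow_orderOf_eq_one x
  have hmx : m x ^ p = 1 := by rw [← map_pow, hxp, map_one]
  have hval : ∀ j : ZMod p, (((CMult.proj ψV cV (m x) j).trace : V) : ℂ) = (CMult.mult ρ p x j : ℂ) := by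
    intro j
    rw [CMult.mult_eq ρ hxp]
    simp only [CMult.proj, Matrix.trace_smul, Matrix.trace_sum, smul_eq_mul]
    push_cast
    rw [hcc]
    simp only [← map_pow m, hmtr]
    rfl
  have hrank : ∀ j : ZMod p, ((CMult.proj ψV cV (m x) j).map (residue V)).rank ≤ CMult.mult ρ p x j := by
    intro j
    refine (rank_map_residue_le _).trans (le_of_eq ?_)
    set E := (CMult.proj ψV cV (m x) j).map fun y : V => (y : ℂ) with hE
    have hidem : E * E = E := by
      have := congrArg V.subtype.mapMatrix (CMult.proj_idem horth hmx j)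
      rw [map_mul] at this
      exact this
    have h1 : E.trace = (CMult.mult ρ p x j : ℂ) := by
      rw [← hval j, hE]; simp [Matrix.trace]
    rw [CMult.trace_eq_rank hidem] at h1
    exact_mod_cast h1
  have hmap : ∀ j, CMult.proj ((residue V).toMonoidHom.compAddChar ψV) (residue V cV) (A x) j =
      (CMult.proj ψV cV (m x) j).map (residue V) := fun j => by
    rw [CMult.proj_map, hA]
  refine ⟨ResidueField V, inferInstance, inferInstance, A, (residue V).toMonoidHom.compAddChar ψV,
    residue V cV, horth.map _, fun g => ?_, fun j hj => ?_, fun j hj => ?_, fun j hj => ?_⟩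
  · obtain ⟨a, m', hm', hN⟩ := Nat.exists_eq_two_pow_mul_odd (Nat.card_pos (α := L)).ne'
    have hco : Nat.Coprime (2 ^ a) m' := Nat.Coprime.pow_left a (Nat.coprime_two_left.2 hm')
    obtain ⟨s, hq⟩ : ∃ s, qOf p = 2 ^ s := by
      rcases hp with rfl | rfl
      · exact ⟨2, rfl⟩
      · exact ⟨1, rfl⟩
    obtain ⟨e, he1, he2⟩ := Nat.chineseRemainder hco 1 (qOf p)
    have heL : e.Coprime (Nat.card L) := by
      rw [hN]
      refine Nat.Coprime.mul_right ?_ ?_
      · rw [Nat.coprime_iff_gcd_eq_one, he1.gcd_eq, Nat.gcd_one_left]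
      · rw [Nat.coprime_iff_gcd_eq_one, he2.gcd_eq, hq]
        exact Nat.Coprime.pow_left s (Nat.coprime_two_left.2 hm')
    have hpm : p ∣ m' := by
      have h1 : p ∣ 2 ^ a * m' := hN ▸ h.ord ▸ orderOf_dvd_natCard x
      exact (Nat.Coprime.pow_right a (Nat.coprime_two_right.2 hodd)).dvd_of_dvd_mul_left h1
    have hsq : IsSquare (e : ZMod p) := by
      rw [(ZMod.natCast_eq_natCast_iff _ _ _).2 (he2.of_dvd hpm)]
      rcases hp with rfl | rfl
      · exact ⟨2, by decide⟩
      · exact ⟨3, by decide⟩
    have hz : ∀ z ∈ Subgroup.center L, z ^ e = z := by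
      intro z hz
      have hzo : orderOf z ∣ d := (Subgroup.orderOf_dvd_natCard _ hz).trans hzd
      have hzN : orderOf z ∣ 2 ^ a * m' := hN ▸ orderOf_dvd_natCard z
      conv_rhs => rw [← pow_one z]
      refine pow_eq_pow_iff_modEq.2 ?_
      rcases h.cases with ⟨rfl, rfl⟩ | ⟨rfl, rfl⟩
      · have hm3 : orderOf z ∣ m' :=
          ((Nat.Coprime.pow_right a (by decide : Nat.Coprime 3 2)).coprime_dvd_left hzo).dvd_of_dvd_mul_left hzN
        refine (he2.of_dvd hm3).trans ?_
        exact ((by decide : qOf 5 ≡ 1 [MOD 3])).of_dvd hzo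
      · have hco' : Nat.Coprime (orderOf z) m' :=
          (Nat.Coprime.pow_left 2 (Nat.coprime_two_left.2 hm')).coprime_dvd_left (by simpa using hzo)
        exact he1.of_dvd (hco'.dvd_of_dvd_mul_right hzN)
    have hpow : g ^ (e * 2 ^ a) = g ^ (qOf p * 2 ^ a) := by
      refine pow_eq_pow_iff_modEq.2 (Nat.ModEq.of_dvd (orderOf_dvd_natCard g) ?_)
      rw [hN, mul_comm (2 ^ a) m']
      exact he2.mul_right' _
    have h1 : (A (g ^ e)).trace ^ 2 ^ a = ((A g).trace ^ qOf p) ^ 2 ^ a := by
      rw [← trace_two_pow, ← map_pow, ← pow_mul g, hpow, map_pow, hq, ← pow_add, trace_two_pow, ← pow_mul,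
        ← pow_add]
    have h2 : (A (g ^ e)).trace = (A g).trace := by
      rw [hAtr, hAtr]
      exact congrArg _ (Subtype.ext (by rw [hmtr, hmtr]; exact hgal e heL hsq hz g))
    rw [h2] at h1
    exact (iterateFrobenius_inj (ResidueField V) 2 a (by simpa [iterateFrobenius_def] using h1)).symm
  · rw [hmap]
    have h1 : (CMult.proj ψV cV (m x) j).trace = 1 := Subtype.ext (by
      rw [hval, half_mult h, if_pos hj]; simp)
    rw [show ((CMult.proj ψV cV (m x) j).map (residue V)).trace =
      residue V (CMult.proj ψV cV (m x) j).trace by simp [Matrix.trace], h1, map_one]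
  · rw [hmap]
    have := hrank j
    rwa [half_mult h, if_pos hj] at this
  · rw [hmap]
    have h1 := hrank j
    rw [half_mult h, if_neg hj, Nat.le_zero, Matrix.rank, Submodule.finrank_eq_zero,
      LinearMap.range_eq_bot] at h1
    apply Matrix.toLin'.injective
    rw [map_zero, Matrix.toLin'_apply', h1]

end Cfsg.Agent.Feit
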