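import Cfsg.Agent.Lib.Feit.SmallEigen

/-!
Elements with a large eigenspace and abelian normal `p`-subgroups are central, in degree less than
`p - 1`.
-/

set_option autoImplicit false
set_option linter.unusedSectionVars false
set_option linter.style.haveILetI false

namespace Cfsg.Agent.Feit

open Module SmallDim SmallDeg16
open scoped Classical commutatorElement

universe u

variable {G : Type u} [Group G] [Finite G] {p : ℕ} [hpF : Fact p.Prime] {n : ℕ}

/-- An abelian normal `p`-subgroup is central, unless the Sylow subgroups are normal. -/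
theorem le_center_of_normal (ρ : Representation ℂ G (Fin n → ℂ)) [ρ.IsIrreducible]
    (hρ : Function.Injective ρ) (hn : n + 1 < p) (hG : ¬ PNormal p G)
    (A : Subgroup G) [hA : A.Normal] (hAp : IsPGroup p A) : A ≤ Subgroup.center G := by
  intro a ha
  set N := Subgroup.centralizer (A : Set G) with hN
  haveI hNn : N.Normal := ⟨fun z hz g => Subgroup.mem_centralizer_iff.2 fun b hb => by
    have h1 := Subgroup.mem_centralizer_iff.1 hz (g⁻¹ * b * g) (by simpa using hA.conj_mem b hb g⁻¹)
    calc b * (g * z * g⁻¹) = g * (g⁻¹ * b * g * z) * g⁻¹ := by group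
      _ = g * (z * (g⁻¹ * b * g)) * g⁻¹ := by rw [h1]
      _ = g * z * g⁻¹ * b := by group⟩
  have hpN : ∀ x : G, IsPElt p x → x ∈ N := fun x hx => by
    obtain ⟨P, hP⟩ := hx.isPGroup_zpowers.exists_le_sylow
    haveI := hA
    have hAP : A ≤ (P : Subgroup G) := IsPGroup.le_sylow_of_normal hAp P
    exact Subgroup.mem_centralizer_iff.2 fun b hb =>
      Char.Blich.comm_of_small ρ hρ (by omega) _ P.isPGroup' b (hAP hb) x
        (hP (Subgroup.mem_zpowers x))
  have hN' : ¬ PNormal p N := fun h => hG (pnormal_of_normal N hpN h)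
  haveI : Nontrivial (Fin n → ℂ) := Char.nontrivial_of_irreducible ρ
  let σ : Representation ℂ N (Fin n → ℂ) := MonoidHom.comp ρ N.subtype
  obtain ⟨U, -, hU⟩ := exists_minInv (ρ := σ) (W := ⊤) (fun _ _ _ => Submodule.mem_top) top_ne_bot
  have hinv : ∀ g : G, Inv σ (U.map (ρ g)) := by
    rintro g m _ ⟨u, hu, rfl⟩
    have hm : g⁻¹ * m * g ∈ N := by simpa using hNn.conj_mem (m : G) m.2 g⁻¹
    refine ⟨σ ⟨_, hm⟩ u, hU.inv _ u hu, ?_⟩
    show ρ g (ρ (g⁻¹ * (m : G) * g) u) = ρ (m : G) (ρ g u)
    rw [← Module.End.mul_apply, ← map_mul, ← Module.End.mul_apply, ← map_mul, ← mul_assoc,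
      ← mul_assoc, mul_inv_cancel, one_mul]
  have hinj : ∀ g : G, Function.Injective (ρ g) := fun g u v h => by
    have := congrArg (ρ g⁻¹) h
    rwa [← Module.End.mul_apply, ← Module.End.mul_apply, ← map_mul, inv_mul_cancel, map_one,
      Module.End.one_apply, Module.End.one_apply] at this
  have hdim : ∀ g : G, finrank ℂ (U.map (ρ g)) = finrank ℂ U := fun g =>
    (Submodule.equivMapOfInjective (ρ g) (hinj g) U).finrank_eq.symm
  have htop : ⨆ g : G, U.map (ρ g) = ⊤ := by
    refine Inv.eq_top (ρ := ρ) (fun h w hw => ?_) fun h => hU.ne_bot (le_bot_iff.1 ?_)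
    · have hle : (⨆ g : G, U.map (ρ g)) ≤ (⨆ g : G, U.map (ρ g)).comap (ρ h) := by
        refine iSup_le fun g => ?_
        rintro _ ⟨u, hu, rfl⟩
        refine Submodule.mem_iSup_of_mem (h * g) ⟨u, hu, ?_⟩
        rw [map_mul, Module.End.mul_apply]
      exact hle hw
    · rw [← h]
      exact fun u hu => Submodule.mem_iSup_of_mem 1 ⟨u, hu, by rw [map_one, Module.End.one_apply]⟩
  rcases Nat.lt_or_ge (2 * finrank ℂ U + 1) p with h8 | h9
  · exact absurd (pnormal_of_spanning_small σ (hρ.comp N.subtype_injective) _ hinv htop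
      (fun g => by rw [hdim]; omega)) hN'
  have hfix : ∀ g : G, U.map (ρ g) = U := by
    intro g
    have hne : U ⊓ U.map (ρ g) ≠ ⊥ := by
      intro h
      have h1 := Submodule.finrank_sup_add_finrank_inf_eq U (U.map (ρ g))
      have h2 := (Submodule.finrank_le (U ⊔ U.map (ρ g))).trans_eq (Module.finrank_fin_fun ℂ (n := n))
      rw [h, finrank_bot, hdim] at h1
      omega
    rcases hU.min (U ⊓ U.map (ρ g)) inf_le_left
      (fun m w hw => ⟨hU.inv m w hw.1, hinv g m w hw.2⟩) with e | e
    · exact absurd e hne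
    · exact (Submodule.eq_of_le_of_finrank_le (inf_eq_left.1 e) (hdim g).le).symm
  have hUtop : U = ⊤ := by
    rw [← htop]
    simp [hfix]
  obtain ⟨c, hc⟩ := hU.scalar (ρ a) (fun m => by
    show ρ a * ρ (m : G) = ρ (m : G) * ρ a
    rw [← map_mul, ← map_mul, Subgroup.mem_centralizer_iff.1 m.2 a ha])
    (fun u _ => hUtop ▸ Submodule.mem_top)
  exact mem_center_of_scalar ρ hρ fun v => hc v (hUtop ▸ Submodule.mem_top)

/-- The conjugates of an element with a large eigenspace generate `p`-groups with it. -/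
theorem isPGroup_pair (IH : ∀ m < n, SqBound.{u} p m) (ρ : Representation ℂ G (Fin n → ℂ))
    [ρ.IsIrreducible] (hρ : Function.Injective ρ) (hp7 : 7 ≤ p) (hn : n + 1 < p) {y : G}
    (hy : orderOf y = p) {μ : ℂ}
    (hμ : p ≤ 2 * finrank ℂ (Module.End.eigenspace (ρ y) μ) + 1) (g : G) :
    IsPGroup p (Subgroup.closure ({y, g * y * g⁻¹} : Set G)) ∨
      (3 ≤ (eigenset (ρ y)).card ∧ ∃ (z : G) (s : ℂ), orderOf z = p ∧ z ∉ Subgroup.center G ∧
        p ≤ 2 * finrank ℂ (Module.End.eigenspace (ρ z) s) + 1 ∧ (eigenset (ρ z)).card ≤ 2) := by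
  set y' := g * y * g⁻¹ with hy'
  set H := Subgroup.closure ({y, y'} : Set G) with hH
  let σ : Representation ℂ H (Fin n → ℂ) := MonoidHom.comp ρ H.subtype
  have hσ : Function.Injective σ := hρ.comp H.subtype_injective
  set a : H := ⟨y, Subgroup.subset_closure (by simp)⟩ with ha
  set b : H := ⟨y', Subgroup.subset_closure (by simp)⟩ with hb
  have hab : Subgroup.closure ({a, b} : Set H) = ⊤ := by
    refine eq_top_iff.2 fun x _ => ?_
    have hle : H ≤ (Subgroup.closure ({a, b} : Set H)).map H.subtype := (Subgroup.closure_le _).2 (by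
      rintro z (rfl | rfl)
      · exact ⟨a, Subgroup.subset_closure (by simp), rfl⟩
      · exact ⟨b, Subgroup.subset_closure (by simp), rfl⟩)
    obtain ⟨x', hx', e⟩ := hle x.2
    rwa [show x' = x from Subtype.ext e] at hx'
  have hyp : y ^ p = 1 := hy ▸ pow_orderOf_eq_one y
  have hap : a ^ p = 1 := Subtype.ext hyp
  have hbp : b ^ p = 1 := Subtype.ext (by
    show y' ^ p = 1
    rw [hy', conj_pow, hyp, mul_one, mul_inv_cancel])
  by_cases hall : IsPGroup p H
  · exact Or.inl hall
  right
  obtain ⟨⟨U, hU⟩, hUQ⟩ : ∃ U : {U : Submodule ℂ (Fin n → ℂ) // MinInv σ U},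
      ¬ IsPGroup p (H ⧸ invKer σ U.2.inv) := by
    by_contra hne
    push Not at hne
    refine hall ?_
    refine isPGroup_of_sep (fun U : {U : Submodule ℂ (Fin n → ℂ) // MinInv σ U} => invKer σ U.2.inv)
      (fun x hx => hσ ?_) fun U => hne U
    have hle : ⨆ U : {U : Submodule ℂ (Fin n → ℂ) // MinInv σ U}, U.1 ≤ LinearMap.ker (σ x - 1) :=
      iSup_le fun U w hw => by
        rw [LinearMap.mem_ker, LinearMap.sub_apply, Module.End.one_apply,
          mem_invKer.1 (hx U) w hw, sub_self]
    rw [iSup_minInv, top_le_iff, LinearMap.ker_eq_top, sub_eq_zero] at hle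
    rw [hle, map_one]
  set K := invKer σ hU.inv with hK
  let π := QuotientGroup.mk' K
  have hgen : Subgroup.closure ({π a, π b} : Set (H ⧸ K)) = ⊤ := by
    have h := congrArg (Subgroup.map π) hab
    rwa [MonoidHom.map_closure, Set.image_pair,
      Subgroup.map_top_of_surjective π (QuotientGroup.mk'_surjective K)] at h
  have hpe : ∀ z ∈ ({π a, π b} : Set (H ⧸ K)), IsPElt p z := by
    rintro z (rfl | rfl)
    · exact ⟨1, by rw [pow_one, ← map_pow, hap, map_one]⟩
    · exact ⟨1, by rw [pow_one, ← map_pow, hbp, map_one]⟩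
  have hQ : ¬ PNormal p (H ⧸ K) := fun h => hUQ (PNormal.isPGroup_of_closure h hpe hgen)
  have hnc : π a * π b ≠ π b * π a := fun h => hQ (pnormal_of_comm fun u v => by
    have key : ∀ u : H ⧸ K, ∀ z ∈ ({π a, π b} : Set (H ⧸ K)), (∀ w ∈ ({π a, π b} : Set (H ⧸ K)),
        u * w = w * u) → u * z = z * u := fun u z hz h => h z hz
    have hgc : ∀ w ∈ ({π a, π b} : Set (H ⧸ K)), ∀ z ∈ ({π a, π b} : Set (H ⧸ K)), w * z = z * w := by
      rintro w (rfl | rfl) z (rfl | rfl)
      · rfl
      · exact h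
      · exact h.symm
      · rfl
    have h1 : ∀ w ∈ ({π a, π b} : Set (H ⧸ K)), ∀ x : H ⧸ K, w * x = x * w := by
      intro w hw x
      have hle : Subgroup.closure ({π a, π b} : Set (H ⧸ K)) ≤
          Subgroup.centralizer ({w} : Set (H ⧸ K)) :=
        (Subgroup.closure_le _).2 fun z hz =>
          Subgroup.mem_centralizer_singleton_iff.2 (hgc z hz w hw)
      exact (Subgroup.mem_centralizer_singleton_iff.1 (hle (hgen ▸ Subgroup.mem_top x))).symm
    have hle : Subgroup.closure ({π a, π b} : Set (H ⧸ K)) ≤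
        Subgroup.centralizer ({v} : Set (H ⧸ K)) :=
      (Subgroup.closure_le _).2 fun z hz => Subgroup.mem_centralizer_singleton_iff.2 (h1 z hz v)
    exact Subgroup.mem_centralizer_singleton_iff.1 (hle (hgen ▸ Subgroup.mem_top u)))
  -- the common eigenvectors
  set W := Module.End.eigenspace (ρ y) μ with hW
  set F := W ⊓ Module.End.eigenspace (ρ y') μ with hF
  have hscal : ∀ h : H, ∃ c : ℂ, ∀ v ∈ F, σ h v = c • v := by
    intro h
    have hh : h ∈ Subgroup.closure ({a, b} : Set H) := hab ▸ Subgroup.mem_top h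
    refine Subgroup.closure_induction (fun z hz => ?_) ⟨1, fun v _ => by simp⟩
      (fun z w _ _ hz hw => ?_) (fun z _ hz => ?_) hh
    · refine ⟨μ, fun v hv => ?_⟩
      rcases hz with rfl | rfl
      · exact Module.End.mem_eigenspace_iff.1 hv.1
      · exact Module.End.mem_eigenspace_iff.1 hv.2
    · obtain ⟨c, hc⟩ := hz; obtain ⟨c', hc'⟩ := hw
      exact ⟨c' * c, fun v hv => by
        rw [map_mul, Module.End.mul_apply, hc' v hv, map_smul, hc v hv, smul_smul]⟩
    · obtain ⟨c, hc⟩ := hz
      refine ⟨c⁻¹, fun v hv => ?_⟩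
      have h1 : c • σ z⁻¹ v = v := by
        rw [← map_smul, ← hc v hv, ← Module.End.mul_apply, ← map_mul, inv_mul_cancel, map_one,
          Module.End.one_apply]
      rcases eq_or_ne c 0 with rfl | hc0
      · rw [zero_smul] at h1
        rw [← h1, map_zero, smul_zero]
      · rw [eq_inv_smul_iff₀ hc0, h1]
  have hdisj : U ⊓ F = ⊥ := by
    have hinv : Inv σ (U ⊓ F) := fun h w hw => by
      obtain ⟨c, hc⟩ := hscal h
      refine ⟨hU.inv h w hw.1, ?_⟩
      rw [hc w hw.2]
      exact Submodule.smul_mem _ c hw.2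
    rcases hU.min _ inf_le_left hinv with e | e
    · exact e
    · exfalso
      refine hnc ?_
      rw [← map_mul, ← map_mul]
      refine QuotientGroup.eq.2 (mem_invKer.2 fun w hw => ?_)
      obtain ⟨c, hc⟩ := hscal a
      obtain ⟨c', hc'⟩ := hscal b
      have hwF : w ∈ F := inf_eq_left.1 e hw
      have e1 : σ (a * b) w = σ (b * a) w := by
        rw [map_mul, map_mul, Module.End.mul_apply, Module.End.mul_apply, hc' w hwF, map_smul,
          hc w hwF, map_smul, hc' w hwF, smul_comm]
      rw [map_mul, Module.End.mul_apply, ← e1, ← Module.End.mul_apply, ← map_mul, inv_mul_cancel,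
        map_one, Module.End.one_apply]
  have hWd : finrank ℂ (Module.End.eigenspace (ρ y') μ) = finrank ℂ W := by
    rw [hy', finrank_eigenspace_conj]
  have hfn : ∀ X : Submodule ℂ (Fin n → ℂ), finrank ℂ X ≤ n := fun X =>
    (Submodule.finrank_le X).trans_eq (Module.finrank_fin_fun ℂ (n := n))
  have h1 := Submodule.finrank_sup_add_finrank_inf_eq W (Module.End.eigenspace (ρ y') μ)
  rw [hWd, ← hF] at h1
  have h2 := Submodule.finrank_sup_add_finrank_inf_eq U F
  rw [hdisj, finrank_bot] at h2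
  have h3 := Submodule.finrank_sup_add_finrank_inf_eq U W
  have h4 := hfn (W ⊔ Module.End.eigenspace (ρ y') μ)
  have h5 := hfn (U ⊔ F)
  have h6 := hfn (U ⊔ W)
  set m := finrank ℂ U with hm
  have hmn : m < n := by omega
  obtain ⟨τ, hτ, hτi, hτe⟩ := exists_quot_rep σ hU.inv
  haveI := hτi hU
  have hind := IH m hmn (H ⧸ K) τ hτ (hτi hU) hQ
  have hac : π a ∉ Subgroup.center (H ⧸ K) := fun h => hnc (Subgroup.mem_center_iff.1 h _).symm
  have hao : orderOf (π a) = p := orderOf_eq_prime (by rw [← map_pow, hap, map_one])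
    fun h => hac (h ▸ one_mem _)
  obtain ⟨P, hP⟩ : ∃ P : Sylow p (H ⧸ K), ¬ (P : Subgroup (H ⧸ K)).Normal := by
    simpa [PNormal] using hQ
  obtain ⟨xb, hxbd, cb, hcb, s, hxbo, hac', hs0, hsp, hcs, hmult, hbound⟩ :=
    exists_scalar_form τ hτ hp7 (by omega) P hP hind hao hac
  have hπ : ∀ (h : H) (l : ℂ), finrank ℂ (Module.End.eigenspace (τ (π h)) l) =
      finrank ℂ (U ⊓ Module.End.eigenspace (σ h) l : Submodule ℂ (Fin n → ℂ)) := fun h l => hτe h l
  have hea : σ a = ρ y := rfl
  -- the number of eigenvalues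
  have hc3 : 3 ≤ (eigenset (ρ y)).card := by
    refine (hbound 1).1.trans (Finset.card_le_card_of_injOn (fun l => s * l) (fun l hl => ?_)
      fun l _ l' _ e => mul_left_cancel₀ hs0 e)
    rw [Finset.mem_coe, mem_eigenset] at hl ⊢
    rw [← hmult, hπ, hea] at hl
    exact hl.trans_le (Submodule.finrank_mono inf_le_right)
  -- the exceptional shape
  have hUW : finrank ℂ (U ⊓ W : Submodule ℂ (Fin n → ℂ)) =
      finrank ℂ (Module.End.eigenspace (τ xb) (s⁻¹ * μ)) := by
    rw [← hmult, mul_inv_cancel_left₀ hs0, hπ, hea]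
  obtain ⟨-, hb1, hb2⟩ := hbound (s⁻¹ * μ)
  rw [← hUW] at hb1 hb2
  have hμs : μ ≠ s := fun e => by
    have := hb2 (by rw [e, inv_mul_cancel₀ hs0])
    omega
  have hUW' : U ⊔ W = ⊤ :=
    Submodule.eq_top_of_finrank_eq (by rw [Module.finrank_fin_fun]; omega)
  have hUtop : U ≠ ⊤ := fun e => by
    rw [e, finrank_top, Module.finrank_fin_fun] at hm
    omega
  have hu : p ≤ 2 * finrank ℂ U + 1 := by
    by_contra h
    exact hQ (pnormal_of_small_degree τ hτ (by omega))
  -- `y` is scalar on the other constituents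
  have hrange : ∀ w, σ a w - μ • w ∈ U := by
    intro w
    obtain ⟨w₁, hw₁, w₂, hw₂, rfl⟩ :=
      Submodule.mem_sup.1 (hUW' ▸ Submodule.mem_top : w ∈ U ⊔ W)
    rw [hW, ← hea, Module.End.mem_eigenspace_iff] at hw₂
    rw [map_add, smul_add, hw₂, add_sub_add_right_eq_sub]
    exact sub_mem (hU.inv a w₁ hw₁) (U.smul_mem μ hw₁)
  -- the derived subgroup is trivial on the other constituents
  have hother : ∀ V : Submodule ℂ (Fin n → ℂ), ∀ hV : MinInv σ V, V ≠ U →
      commutator H ≤ invKer σ hV.inv := by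
    intro V hV hne
    have g1 := Submodule.finrank_sup_add_finrank_inf_eq V U
    rw [hV.inf_eq_bot hU hne, finrank_bot] at g1
    have g2 := hfn (V ⊔ U)
    obtain ⟨τ', hτ', -, -⟩ := exists_quot_rep σ hV.inv
    have hN := pnormal_of_small_degree (p := p) τ' hτ' (by omega)
    have hgen' : Subgroup.closure ({QuotientGroup.mk' (invKer σ hV.inv) a,
        QuotientGroup.mk' (invKer σ hV.inv) b} : Set _) = ⊤ := by
      have h := congrArg (Subgroup.map (QuotientGroup.mk' (invKer σ hV.inv))) hab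
      rwa [MonoidHom.map_closure, Set.image_pair,
        Subgroup.map_top_of_surjective _ (QuotientGroup.mk'_surjective _)] at h
    have hp' : IsPGroup p (H ⧸ invKer σ hV.inv) :=
      PNormal.isPGroup_of_closure hN (by
        rintro z (rfl | rfl)
        · exact ⟨1, by rw [pow_one, ← map_pow, hap, map_one]⟩
        · exact ⟨1, by rw [pow_one, ← map_pow, hbp, map_one]⟩) hgen'
    rw [commutator_def, Subgroup.commutator_le]
    intro u _ v _
    rw [← QuotientGroup.eq_one_iff]
    show QuotientGroup.mk' (invKer σ hV.inv) ⁅u, v⁆ = 1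
    rw [map_commutatorElement, commutatorElement_eq_one_iff_mul_comm]
    exact commute_of_pElt hN τ' hτ' (by omega) (hp' _) (hp' _)
  -- the lift of the derived element
  obtain ⟨x₁, hx₁d, hx₁⟩ : ∃ x₁ ∈ commutator H, π x₁ = xb := by
    have h2 : (commutator H).map π = commutator (H ⧸ K) := by
      rw [commutator_def, Subgroup.map_commutator, Subgroup.map_top_of_surjective _
        (QuotientGroup.mk'_surjective K), commutator_def]
    rw [← h2] at hxbd
    exact hxbd
  set z := x₁⁻¹ * a with hz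
  have hzb : π z = cb := by rw [hz, map_mul, map_inv, hx₁, hac', inv_mul_cancel_left]
  have hzU : U ≤ Module.End.eigenspace (σ z) s := by
    have htop : Module.End.eigenspace (τ (π z)) s = ⊤ := by
      refine eq_top_iff.2 fun v _ => ?_
      rw [Module.End.mem_eigenspace_iff, hzb, hcs, LinearMap.smul_apply, LinearMap.id_apply]
    have h := hπ z s
    rw [htop, finrank_top, Module.finrank_fin_fun] at h
    exact inf_eq_left.1 (Submodule.eq_of_le_of_finrank_le inf_le_left h.le)
  have hzV : ∀ V, MinInv σ V → V ≠ U → V ≤ Module.End.eigenspace (σ z) μ := by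
    intro V hV hne w hw
    have hd : σ a w - μ • w ∈ V ⊓ U :=
      ⟨sub_mem (hV.inv a w hw) (V.smul_mem μ hw), hrange w⟩
    rw [hV.inf_eq_bot hU hne, Submodule.mem_bot, sub_eq_zero] at hd
    rw [Module.End.mem_eigenspace_iff, hz, map_mul, Module.End.mul_apply, hd, map_smul,
      mem_invKer.1 (hother V hV hne (inv_mem hx₁d)) w hw]
  have hspan : Module.End.eigenspace (σ z) s ⊔ Module.End.eigenspace (σ z) μ = ⊤ := by
    rw [eq_top_iff, ← iSup_minInv σ]
    refine iSup_le fun V => ?_
    by_cases hne : V.1 = U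
    · exact hne ▸ hzU.trans le_sup_left
    · exact (hzV V.1 V.2 hne).trans le_sup_right
  obtain ⟨V, hVU⟩ : ∃ V : {V : Submodule ℂ (Fin n → ℂ) // MinInv σ V}, V.1 ≠ U := by
    by_contra hne
    push Not at hne
    exact hUtop (top_le_iff.1 ((iSup_minInv σ).ge.trans (iSup_le fun V => (hne V).le)))
  have hμp : μ ^ p = 1 := by
    obtain ⟨v, hv, hv0⟩ := Submodule.exists_mem_ne_zero_of_ne_bot (p := W) fun h0 => by
      rw [h0, finrank_bot] at hμ
      omega
    have := Module.End.mem_eigenspace_iff.1 (eigenspace_le_pow (ρ y) μ p hv)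
    rw [← map_pow, hyp, map_one, Module.End.one_apply] at this
    exact (smul_left_injective ℂ hv0 ((one_smul ℂ v).trans this)).symm
  have hzp : z ^ p = 1 := hσ (LinearMap.ext fun v => by
    obtain ⟨v₁, hv₁, v₂, hv₂, rfl⟩ := Submodule.mem_sup.1 (hspan ▸ Submodule.mem_top :
      v ∈ Module.End.eigenspace (σ z) s ⊔ Module.End.eigenspace (σ z) μ)
    have e1 := Module.End.mem_eigenspace_iff.1 (eigenspace_le_pow (σ z) s p hv₁)
    have e2 := Module.End.mem_eigenspace_iff.1 (eigenspace_le_pow (σ z) μ p hv₂)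
    rw [← map_pow, hsp, one_smul] at e1
    rw [← map_pow, hμp, one_smul] at e2
    rw [map_one, Module.End.one_apply, map_add, e1, e2])
  have hzc : (z : G) ∉ Subgroup.center G := fun hc => by
    obtain ⟨r, hr⟩ := Char.schur_scalar ρ (ρ (z : G)) fun x v => by
      rw [← Module.End.mul_apply, ← map_mul, ← Subgroup.mem_center_iff.1 hc x, map_mul,
        Module.End.mul_apply]
    have key : ∀ (X : Submodule ℂ (Fin n → ℂ)) (l : ℂ), X ≠ ⊥ →
        X ≤ Module.End.eigenspace (σ z) l → r = l := fun X l hX hle => by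
      obtain ⟨v, hv, hv0⟩ := Submodule.exists_mem_ne_zero_of_ne_bot hX
      have e := Module.End.mem_eigenspace_iff.1 (hle hv)
      change ρ (z : G) v = l • v at e
      rw [hr, LinearMap.smul_apply, LinearMap.id_apply] at e
      exact smul_left_injective ℂ hv0 e
    exact hμs ((key V.1 μ V.2.ne_bot (hzV V.1 V.2 hVU)).symm.trans (key U s hU.ne_bot hzU))
  refine ⟨hc3, (z : G), s, ?_, hzc,
    hu.trans (Nat.add_le_add_right (Nat.mul_le_mul_left 2 (Submodule.finrank_mono hzU)) 1), ?_⟩
  · exact orderOf_eq_prime (congrArg Subtype.val hzp) fun h => hzc (h ▸ one_mem _)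
  · refine (Finset.card_le_card (t := {s, μ}) fun l hl => ?_).trans Finset.card_le_two
    by_contra hne
    simp only [Finset.mem_insert, Finset.mem_singleton, not_or] at hne
    have hd : Disjoint (Module.End.eigenspace (σ z) l) ⊤ := hspan ▸
      ((Module.End.eigenspaces_iSupIndep (σ z)) l).mono_right (sup_le
        (le_iSup₂ (f := fun j (_ : j ≠ l) => Module.End.eigenspace (σ z) j) s (Ne.symm hne.1))
        (le_iSup₂ (f := fun j (_ : j ≠ l) => Module.End.eigenspace (σ z) j) μ (Ne.symm hne.2)))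
    rw [mem_eigenset] at hl
    change 0 < finrank ℂ (Module.End.eigenspace (σ z) l) at hl
    rw [disjoint_top.1 hd, finrank_bot] at hl
    omega

/-- An element of order `p` which generates `p`-groups with its conjugates is central. -/
theorem mem_center_of_pairs (ρ : Representation ℂ G (Fin n → ℂ)) [ρ.IsIrreducible]
    (hρ : Function.Injective ρ) (hn : n + 1 < p) (hG : ¬ PNormal p G) {y : G} (hy : orderOf y = p)
    (hpair : ∀ g : G, IsPGroup p (Subgroup.closure ({y, g * y * g⁻¹} : Set G))) :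
    y ∈ Subgroup.center G := by
  have hyp : y ^ p = 1 := hy ▸ pow_orderOf_eq_one y
  have hcomm : ∀ g : G, Commute y (g * y * g⁻¹) := fun g =>
    Char.Blich.comm_of_small ρ hρ (by omega) _ (hpair g) y
      (Subgroup.subset_closure (by simp)) _ (Subgroup.subset_closure (by simp))
  have hcc : ∀ a ∈ Group.conjugatesOfSet ({y} : Set G), ∀ b ∈ Group.conjugatesOfSet ({y} : Set G),
      Commute a b := by
    intro a ha b hb
    obtain ⟨z, hz, hac⟩ := Group.mem_conjugatesOfSet_iff.1 ha
    obtain ⟨z', hz', hbc⟩ := Group.mem_conjugatesOfSet_iff.1 hb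
    rw [Set.mem_singleton_iff] at hz hz'
    subst hz
    subst hz'
    obtain ⟨g, rfl⟩ := isConj_iff.1 hac
    obtain ⟨h, rfl⟩ := isConj_iff.1 hbc
    have h1 := (hcomm (g⁻¹ * h)).map (MulAut.conj g).toMonoidHom
    simp only [MulEquiv.coe_toMonoidHom, MulAut.conj_apply] at h1
    rwa [show g * (g⁻¹ * h * z' * (g⁻¹ * h)⁻¹) * g⁻¹ = h * z' * h⁻¹ by group] at h1
  set A := Subgroup.normalClosure ({y} : Set G) with hA
  have hAc : ∀ a ∈ A, ∀ b ∈ Group.conjugatesOfSet ({y} : Set G), Commute a b := fun a ha b hb => by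
    have hle : A ≤ Subgroup.centralizer ({b} : Set G) := (Subgroup.closure_le _).2 fun x hx =>
      Subgroup.mem_centralizer_singleton_iff.2 (hcc x hx b hb).eq
    exact Subgroup.mem_centralizer_singleton_iff.1 (hle ha)
  have hAA : ∀ a ∈ A, ∀ b ∈ A, Commute a b := fun a ha b hb => by
    have hle : A ≤ Subgroup.centralizer ({a} : Set G) := (Subgroup.closure_le _).2 fun x hx =>
      Subgroup.mem_centralizer_singleton_iff.2 (hAc a ha x hx).symm.eq
    exact (Subgroup.mem_centralizer_singleton_iff.1 (hle hb)).symm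
  have hall : ∀ a ∈ A, a ^ p = 1 := fun a ha => by
    refine Subgroup.closure_induction (p := fun x _ => x ^ p = 1) (fun x hx => ?_) (one_pow p)
      (fun u v hu hv e1 e2 => by rw [(hAA u hu v hv).mul_pow, e1, e2, one_mul])
      (fun u _ e => by rw [inv_pow, e, inv_one]) ha
    obtain ⟨z, hz, hxc⟩ := Group.mem_conjugatesOfSet_iff.1 hx
    rw [Set.mem_singleton_iff] at hz
    subst hz
    obtain ⟨g, rfl⟩ := isConj_iff.1 hxc
    rw [conj_pow, hyp, mul_one, mul_inv_cancel]
  have hAp : IsPGroup p A := fun a => ⟨1, by rw [pow_one]; exact Subtype.ext (hall a a.2)⟩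
  exact le_center_of_normal ρ hρ hn hG A hAp (Subgroup.subset_normalClosure rfl)

/-- An element of order `p` with a large eigenspace is central. -/
theorem mem_center_of_mult (IH : ∀ m < n, SqBound.{u} p m) (ρ : Representation ℂ G (Fin n → ℂ))
    [ρ.IsIrreducible] (hρ : Function.Injective ρ) (hp7 : 7 ≤ p) (hn : n + 1 < p)
    (hG : ¬ PNormal p G) {y : G} (hy : orderOf y = p) {μ : ℂ}
    (hμ : p ≤ 2 * finrank ℂ (Module.End.eigenspace (ρ y) μ) + 1) : y ∈ Subgroup.center G := by
  refine mem_center_of_pairs ρ hρ hn hG hy fun g => ?_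
  rcases isPGroup_pair IH ρ hρ hp7 hn hy hμ g with h | ⟨-, z, s, hz, hzc, hzs, hz2⟩
  · exact h
  · refine absurd (mem_center_of_pairs ρ hρ hn hG hz fun g' => ?_) hzc
    rcases isPGroup_pair IH ρ hρ hp7 hn hz hzs g' with h | ⟨h3, -⟩
    · exact h
    · omega

/-- An element whose centraliser has a non-normal Sylow subgroup has a large eigenspace. -/
theorem exists_mult (ρ : Representation ℂ G (Fin n → ℂ)) (hρ : Function.Injective ρ)
    {y : G} (hy : ¬ PNormal p (Subgroup.centralizer ({y} : Set G))) :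
    ∃ μ : ℂ, p ≤ 2 * finrank ℂ (Module.End.eigenspace (ρ y) μ) + 1 := by
  haveI : Fintype G := Fintype.ofFinite G
  by_contra h
  push Not at h
  refine hy (pnormal_of_spanning_small (MonoidHom.comp ρ (Subgroup.centralizer ({y} : Set G)).subtype)
    (hρ.comp (Subgroup.centralizer ({y} : Set G)).subtype_injective)
    (fun μ : ℂ => Module.End.eigenspace (ρ y) μ) (fun μ c w hw => ?_)
    (SmallDim.iSup_eigenspace_rep ρ y) fun μ => by have := h μ; omega)
  rw [Module.End.mem_eigenspace_iff] at hw ⊢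
  show ρ y (ρ (c : G) w) = μ • ρ (c : G) w
  rw [← Module.End.mul_apply, ← map_mul, ← Subgroup.mem_centralizer_singleton_iff.1 c.2, map_mul,
    Module.End.mul_apply, hw, map_smul]

/-- An element of order `p` with such a centraliser is central. -/
theorem mem_center_of_centralizer (IH : ∀ m < n, SqBound.{u} p m)
    (ρ : Representation ℂ G (Fin n → ℂ)) [ρ.IsIrreducible] (hρ : Function.Injective ρ)
    (hp7 : 7 ≤ p) (hn : n + 1 < p) (hG : ¬ PNormal p G) {y : G} (hy : orderOf y = p)
    (hc : ¬ PNormal p (Subgroup.centralizer ({y} : Set G))) : y ∈ Subgroup.center G := by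
  obtain ⟨μ, hμ⟩ := exists_mult ρ hρ hc
  exact mem_center_of_mult IH ρ hρ hp7 hn hG hy hμ

end Cfsg.Agent.Feit
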