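import Cfsg.Agent.Lib.Feit.Basic
import Cfsg.Agent.Lib.SmallDeg16.Reduce

/-!
Normal Sylow subgroups and eigenvalue multiplicities of the elements of order `p` in degree less than
`p - 1`.
-/

set_option autoImplicit false
set_option linter.unusedSectionVars false
set_option linter.style.haveILetI false

namespace Cfsg.Agent.Feit

open Finset Module SmallDim SmallDeg16
open scoped Classical Polynomial commutatorElement Pointwise

universe u

variable {G : Type u} [Group G] [Finite G] {p : ℕ} [hpF : Fact p.Prime] {d : ℕ}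

/-- Degree less than `(p - 1) / 2`. -/
theorem pnormal_of_small_degree (ρ : Representation ℂ G (Fin d → ℂ))
    (hρ : Function.Injective ρ) (hd : 2 * d + 1 < p) : PNormal p G := by
  intro P
  refine Cfsg.Agent.S0899.result d ρ hρ p (Or.inr ⟨by omega, fun K hK Q => ?_⟩) P
  obtain ⟨i, hi⟩ := Q.isPGroup'.exists_card_eq
  rcases (show i = 0 ∨ i = 1 ∨ 2 ≤ i by omega) with h | h | h
  · rw [h, pow_zero, Subgroup.card_eq_one] at hi
    rw [hi]; infer_instance
  · rw [h, pow_one] at hi
    let σ : Representation ℂ K (Fin d → ℂ) := MonoidHom.comp ρ K.subtype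
    refine DefOne.normal_of_small hpF.out _ K rfl _ hi hK σ.character ⟨d, σ, rfl⟩
      (fun g hg => ?_) ?_
    · rw [Representation.char_one, Char.char_eq_degree_iff, ← Module.End.one_eq_id] at hg
      exact (hρ.comp K.subtype_injective) (hg.trans (map_one σ).symm)
    · have hdeg : Cfsg.charDegree σ.character = d := by
        rw [Cfsg.charDegree, Representation.char_one, Module.finrank_fin_fun]
        simp
      omega
  · exact absurd ((pow_dvd_pow p h).trans (hi ▸ Q.1.card_subgroup_dvd_card)) hK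

/-- Invariant spanning subspaces of dimension less than `(p - 1) / 2` give normal Sylow subgroups. -/
theorem pnormal_of_spanning_small (ρ : Representation ℂ G (Fin d → ℂ)) (hρ : Function.Injective ρ)
    {ι : Type*} (W : ι → Submodule ℂ (Fin d → ℂ)) (hW : ∀ i, Inv ρ (W i))
    (htop : ⨆ i, W i = ⊤) (h8 : ∀ i, 2 * finrank ℂ (W i) + 1 < p) : PNormal p G := by
  refine pnormal_of_sep (fun i => invKer ρ (hW i)) (fun x hx => hρ ?_) fun i => ?_
  · have hle : ⨆ i, W i ≤ LinearMap.ker (ρ x - 1) := iSup_le fun i w hw => by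
      rw [LinearMap.mem_ker, LinearMap.sub_apply, Module.End.one_apply,
        mem_invKer.1 (hx i) w hw, sub_self]
    rw [htop, top_le_iff, LinearMap.ker_eq_top, sub_eq_zero] at hle
    rw [hle, map_one]
  · obtain ⟨σ, hσ, -, -⟩ := exists_quot_rep ρ (hW i)
    exact pnormal_of_small_degree σ hσ (h8 i)

/-- The fields of a core for the normal closure of a non-normal element of order `p` of the derived
subgroup. -/
theorem core_fields_normalClosure (ρ : Representation ℂ G (Fin d → ℂ)) (hρ : Function.Injective ρ)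
    (hd : d + 2 ≤ p) (hsq : ¬ p ^ 2 ∣ Nat.card (commutator G)) {x : G}
    (hxd : x ∈ commutator G) (hx : orderOf x = p) (hxn : ¬ (Subgroup.zpowers x).Normal) :
    commutator (Subgroup.normalClosure ({x} : Set G)) = ⊤ ∧
      p ∣ Nat.card (Subgroup.normalClosure ({x} : Set G)) ∧
      ¬ p ^ 2 ∣ Nat.card (Subgroup.normalClosure ({x} : Set G)) ∧
      ∀ M : Subgroup (Subgroup.normalClosure ({x} : Set G)), M.Normal → M ≠ ⊤ →
        M ≤ Subgroup.center (Subgroup.normalClosure ({x} : Set G)) := by
  have hp := hpF.out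
  set L := Subgroup.normalClosure ({x} : Set G) with hL
  have hxp : x ^ p = 1 := hx ▸ pow_orderOf_eq_one x
  have hxL : x ∈ L := Subgroup.subset_normalClosure rfl
  set xl : L := ⟨x, hxL⟩ with hxl
  have hLd : L ≤ commutator G := Subgroup.normalClosure_le_normal (Set.singleton_subset_iff.2 hxd)
  have hsqL : ¬ p ^ 2 ∣ Nat.card L := fun h => hsq (h.trans (Subgroup.card_dvd_of_le hLd))
  have hdvd : p ∣ Nat.card L := hx ▸ Subgroup.orderOf_dvd_natCard L hxL
  have hgen : ∀ M : Subgroup L, (∀ w : L, w ^ p = 1 → w ∈ M) → M = ⊤ := by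
    intro M h
    have hle : L ≤ M.map L.subtype := (Subgroup.closure_le _).2 fun w hw => by
      obtain ⟨a, ha, hc⟩ := Group.mem_conjugatesOfSet_iff.1 hw
      rw [Set.mem_singleton_iff] at ha
      subst a
      obtain ⟨c, hc⟩ := isConj_iff.1 hc
      have hwL : w ∈ L := Subgroup.subset_closure hw
      exact ⟨⟨w, hwL⟩, h _ (Subtype.ext (by
        show w ^ p = 1
        rw [← hc, conj_pow, hxp, mul_one, mul_inv_cancel])), rfl⟩
    refine eq_top_iff.2 fun w _ => ?_
    obtain ⟨w', hw', e⟩ := hle w.2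
    rwa [show w' = w from Subtype.ext e] at hw'
  have hbig : ∀ M : Subgroup L, M.Normal → p ∣ Nat.card M → M = ⊤ := fun M hM h =>
    hgen M fun w hw => mem_of_not_dvd_index (not_dvd_index_of_sq h hsqL) hw
  have hsmall : ∀ M : Subgroup L, M.Normal → ¬ p ∣ Nat.card M → M ≤ Subgroup.center L := by
    intro M hM h z hz
    have htop := hgen (Subgroup.centralizer ({z} : Set L)) fun w hw =>
      Subgroup.mem_centralizer_singleton_iff.2
        (commute_of_compl (G := L) (MonoidHom.comp ρ L.subtype) (hρ.comp L.subtype_injective) hd hsqL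
          M h hw hz).symm
    rw [Subgroup.mem_center_iff]
    exact fun g => Subgroup.mem_centralizer_singleton_iff.1 (htop ▸ Subgroup.mem_top g)
  refine ⟨?_, hdvd, hsqL, fun M hM hne => hsmall M hM fun h => hne (hbig M hM h)⟩
  by_contra hne
  have hnd : ¬ p ∣ Nat.card (commutator L) := fun h => hne (hbig _ inferInstance h)
  have hcen := hsmall _ inferInstance hnd
  -- conjugates of `x` are then central in `L`
  have hxc : ∀ w : L, w ^ p = 1 → w ∈ Subgroup.center L := by
    intro w hw
    refine Subgroup.mem_center_iff.2 fun g => ?_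
    have hc : ⁅g, w⁆ ∈ commutator L :=
      Subgroup.commutator_mem_commutator (Subgroup.mem_top g) (Subgroup.mem_top w)
    have e : g * w * g⁻¹ = ⁅g, w⁆ * w := by rw [commutatorElement_def]; group
    have hcm : Commute ⁅g, w⁆ w := (Subgroup.mem_center_iff.1 (hcen hc) w).symm
    have hcp : ⁅g, w⁆ ^ p = 1 := by
      have h1 : (g * w * g⁻¹) ^ p = 1 := by rw [conj_pow, hw, mul_one, mul_inv_cancel]
      rwa [e, hcm.mul_pow, hw, mul_one] at h1
    rcases (Nat.dvd_prime hp).1 (orderOf_dvd_of_pow_eq_one hcp) with ho | ho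
    · exact commutatorElement_eq_one_iff_mul_comm.1 (orderOf_eq_one_iff.1 ho)
    · exact absurd (ho ▸ Subgroup.orderOf_dvd_natCard _ hc) hnd
  have hab : ∀ a b : L, a * b = b * a := fun a b =>
    Subgroup.mem_center_iff.1 (hgen _ hxc ▸ Subgroup.mem_top b) a
  letI : CommGroup L := { (inferInstance : Group L) with mul_comm := hab }
  have hker : (powMonoidHom p : L →* L).ker = ⊤ := hgen _ fun w hw => hw
  have hall : ∀ w : L, w ^ p = 1 := fun w => by
    have h : w ∈ (powMonoidHom p : L →* L).ker := hker ▸ Subgroup.mem_top w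
    exact h
  have htop : Subgroup.zpowers xl = ⊤ := by
    haveI : (Subgroup.zpowers xl).Normal := ⟨fun a ha g => by
      rwa [hab g a, mul_inv_cancel_right]⟩
    refine hbig _ inferInstance ?_
    rw [Nat.card_zpowers, ← Subgroup.orderOf_coe, hxl, hx]
  have hLeq : L = Subgroup.zpowers x := by
    refine le_antisymm (fun w hw => ?_) (Subgroup.zpowers_le.2 hxL)
    obtain ⟨i, hi⟩ := Subgroup.mem_zpowers_iff.1 (htop ▸ Subgroup.mem_top (⟨w, hw⟩ : L))
    exact Subgroup.mem_zpowers_iff.2 ⟨i, congrArg Subtype.val hi⟩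
  exact hxn (hLeq ▸ Subgroup.normalClosure_normal)

/-- The normal closure of a non-normal element of order `p` of the derived subgroup. -/
theorem core_normalClosure (ρ : Representation ℂ G (Fin d → ℂ)) (hρ : Function.Injective ρ)
    (hd : d + 2 ≤ p) (hp7 : 7 ≤ p) (hsq : ¬ p ^ 2 ∣ Nat.card (commutator G)) {x : G}
    (hxd : x ∈ commutator G) (hx : orderOf x = p) (hxn : ¬ (Subgroup.zpowers x).Normal) :
    Core p (Subgroup.normalClosure ({x} : Set G)) := by
  obtain ⟨h1, h2, h3, h4⟩ := core_fields_normalClosure ρ hρ hd hsq hxd hx hxn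
  exact ⟨hpF.out, hp7, h1, h2, h3, h4⟩

/-- The multiplicities of an element of order `p` of the derived subgroup. -/
theorem mult_of_derived (ρ : Representation ℂ G (Fin d → ℂ)) (hρ : Function.Injective ρ)
    (hp7 : 7 ≤ p) (hd : d + 1 < p) (hsq : ¬ p ^ 2 ∣ Nat.card (commutator G)) {x : G}
    (hxd : x ∈ commutator G) (hx : orderOf x = p) (hxn : ¬ (Subgroup.zpowers x).Normal) (ν : ℂ) :
    3 ≤ (eigenset (ρ x)).card ∧
      2 * finrank ℂ (Module.End.eigenspace (ρ x) ν) + p ≤ 2 * d + 3 ∧
      (ν = 1 → 2 * finrank ℂ (Module.End.eigenspace (ρ x) ν) + p ≤ 2 * d + 1) := by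
  haveI : Fintype G := Fintype.ofFinite G
  have hp := hpF.out
  have hcore := core_normalClosure ρ hρ (by omega) hp7 hsq hxd hx hxn
  have hfr : finrank ℂ (Fin d → ℂ) = d := Module.finrank_fin_fun _
  have hxne : ρ x ≠ 1 := fun h => hp.ne_one (by
    rw [← hx, hρ (h.trans (map_one ρ).symm), orderOf_one])
  set f : Module.End ℂ (Fin d → ℂ) := ρ x with hf
  set E := eigenset f with hE
  have htop := iSup_eigenspace_rep ρ x
  have hker := aeval_prod_eigenset htop
  rw [← hE] at hker
  rcases Nat.lt_or_ge p (2 * E.card) with hbig | hsmall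
  · have h1 := mult_add_card_erase_le f ν
    have h2 := Finset.pred_card_le_card_erase (s := E) (a := ν)
    rw [← hE, hfr] at h1
    exact ⟨by omega, by omega, fun _ => by omega⟩
  set L := Subgroup.normalClosure ({x} : Set G) with hL
  set xl : L := ⟨x, Subgroup.subset_normalClosure rfl⟩ with hxl
  have hxlo : orderOf xl = p := by rw [← Subgroup.orderOf_coe, hxl, hx]
  obtain ⟨k, _, _, _, φ, hk, hr, hφ⟩ := exists_hom_few (G := L) (by omega) hcore.perf hcore.sq
    hcore.norm (MonoidHom.comp ρ L.subtype) (hρ.comp L.subtype_injective) (by omega) hxlo E hsmall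
    hker
  obtain ⟨-, -, hsqr⟩ :=
    centralizer_of_std (by omega) hcore.perf hcore.sq φ hxlo hk hr hφ
  have hconj : ∀ (t : (ZMod p)ˣ) (l : ℂ), finrank ℂ (f.eigenspace l) ≤
      finrank ℂ (f.eigenspace (l ^ (((t : ZMod p) ^ 2).val))) := by
    intro t l
    obtain ⟨n, hn⟩ := hsqr t
    have hn' : (n : G) * x * (n : G)⁻¹ = x ^ (((t : ZMod p) ^ 2).val) := by
      simpa [hxl] using congrArg Subtype.val hn
    refine le_of_le_of_eq (Submodule.finrank_mono (eigenspace_le_pow f l (((t : ZMod p) ^ 2).val))) ?_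
    rw [hf, ← map_pow, ← hn', finrank_eigenspace_conj]
  -- an eigenvalue other than one
  obtain ⟨l, hlE, hl1⟩ : ∃ l ∈ E, l ≠ 1 := by
    by_contra h
    push Not at h
    refine hxne (LinearMap.ext fun v => ?_)
    have hle : ⨆ μ : ℂ, f.eigenspace μ ≤ LinearMap.ker (f - 1) := iSup_le fun m w hw => by
      rw [LinearMap.mem_ker, LinearMap.sub_apply, Module.End.one_apply]
      rcases eq_or_ne w 0 with rfl | hw0
      · simp
      · have hm : m ∈ E := by
          rw [hE, mem_eigenset, Nat.pos_iff_ne_zero, Ne, Submodule.finrank_eq_zero]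
          intro h0
          rw [h0, Submodule.mem_bot] at hw
          exact hw0 hw
        rw [Module.End.mem_eigenspace_iff.1 hw, h m hm, one_smul, sub_self]
    rw [htop, top_le_iff, LinearMap.ker_eq_top, sub_eq_zero] at hle
    rw [hle]
  have hxp : x ^ p = 1 := hx ▸ pow_orderOf_eq_one x
  have hroot : ∀ m ∈ E, m ^ p = 1 := by
    intro m hm
    obtain ⟨v, hv, hv0⟩ := Submodule.exists_mem_ne_zero_of_ne_bot (p := f.eigenspace m) fun h0 => by
      rw [hE, mem_eigenset, h0, finrank_bot] at hm
      omega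
    have := Module.End.mem_eigenspace_iff.1 (eigenspace_le_pow f m p hv)
    rw [hf, ← map_pow, hxp, map_one, Module.End.one_apply] at this
    exact (smul_left_injective ℂ hv0 ((one_smul ℂ v).trans this)).symm
  have hlpos : 0 < finrank ℂ (f.eigenspace l) := mem_eigenset.1 hlE
  have h9 : 3 ≤ (p - 1) / 2 := by omega
  have hodd : p % 2 = 1 := hp.eq_two_or_odd.resolve_left (by omega)
  obtain ⟨-, hcard⟩ := orbit_bound f (by omega) hconj (hroot l hlE) hl1
  have hcard' := hcard hlpos
  have hE1 := mult_add_card_erase_le f 1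
  rw [hfr] at hE1
  have hc3 : 3 ≤ E.card := (h9.trans hcard').trans (Finset.card_erase_le)
  rcases eq_or_ne ν 1 with hν1 | hν1
  · rw [hν1]
    exact ⟨hc3, by omega, fun _ => by omega⟩
  refine ⟨hc3, ?_, fun h => absurd h hν1⟩
  rcases Nat.eq_zero_or_pos (finrank ℂ (f.eigenspace ν)) with h0 | hpos
  · have := (Finset.card_erase_le (s := E) (a := 1))
    omega
  obtain ⟨hm, -⟩ := orbit_bound f (by omega) hconj (hroot ν (mem_eigenset.2 hpos)) hν1
  have hm1 : finrank ℂ (f.eigenspace ν) ≤ 1 := by
    by_contra h2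
    have h3 := Nat.mul_le_mul_left ((p - 1) / 2) (show 2 ≤ finrank ℂ (f.eigenspace ν) by omega)
    omega
  omega

/-- A non-central element of order `p` is a scalar multiple of one of the derived subgroup, whose
multiplicities are bounded. -/
theorem exists_scalar_form (ρ : Representation ℂ G (Fin d → ℂ)) [ρ.IsIrreducible]
    (hρ : Function.Injective ρ) (hp7 : 7 ≤ p) (hd : d + 1 < p) (P : Sylow p G)
    (hP : ¬ (P : Subgroup G).Normal) (hind : ¬ p ^ 2 ∣ (Subgroup.center G).index) {y : G}
    (hy : orderOf y = p) (hyc : y ∉ Subgroup.center G) :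
    ∃ x ∈ commutator G, ∃ c ∈ Subgroup.center G, ∃ s : ℂ, orderOf x = p ∧ y = x * c ∧ s ≠ 0 ∧
      s ^ p = 1 ∧ ρ c = s • LinearMap.id ∧
      (∀ ν, finrank ℂ (Module.End.eigenspace (ρ y) (s * ν)) =
        finrank ℂ (Module.End.eigenspace (ρ x) ν)) ∧
      ∀ ν, 3 ≤ (eigenset (ρ x)).card ∧
        2 * finrank ℂ (Module.End.eigenspace (ρ x) ν) + p ≤ 2 * d + 3 ∧
        (ν = 1 → 2 * finrank ℂ (Module.End.eigenspace (ρ x) ν) + p ≤ 2 * d + 1) := by
  haveI : Fintype G := Fintype.ofFinite G
  have hp := hpF.out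
  obtain ⟨hsq, x, hxd, hx, hxc, c, hc, rfl⟩ :=
    exists_derived_element ρ hρ (by omega) hind hy hyc
  -- the central factor is a scalar
  obtain ⟨s, hs⟩ := Char.schur_scalar ρ (ρ c) fun g v => by
    rw [← Module.End.mul_apply, ← map_mul, ← Subgroup.mem_center_iff.1 hc g, map_mul,
      Module.End.mul_apply]
  have hfr : finrank ℂ (Fin d → ℂ) = d := Module.finrank_fin_fun _
  have hxne : ρ x ≠ 1 := fun h => hp.ne_one (by
    rw [← hx, hρ (h.trans (map_one ρ).symm), orderOf_one])
  have hd0 : 0 < d := by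
    rcases Nat.eq_zero_or_pos d with h | h
    · subst h; exact absurd (Subsingleton.elim _ _) hxne
    · exact h
  have hs0 : s ≠ 0 := by
    intro h
    rw [h, zero_smul] at hs
    have h1 := congrArg (fun f => ρ c⁻¹ * f) hs
    simp only [← map_mul, inv_mul_cancel, map_one, mul_zero] at h1
    haveI : Nontrivial (Fin d → ℂ) := Module.nontrivial_of_finrank_pos (R := ℂ) (by rw [hfr]; exact hd0)
    exact one_ne_zero h1
  have hyx : ρ (x * c) = s • ρ x := by
    rw [map_mul, hs]
    refine LinearMap.ext fun v => ?_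
    simp
  refine ⟨x, hxd, c, hc, s, hx, rfl, hs0, ?_, hs, fun ν => by rw [hyx, finrank_eigenspace_smul hs0],
    fun ν => mult_of_derived ρ hρ hp7 hd hsq hxd hx (not_normal_zpowers hind P hP hx hxc) ν⟩
  haveI : Nontrivial (Fin d → ℂ) := Module.nontrivial_of_finrank_pos (R := ℂ) (by rw [hfr]; exact hd0)
  have hcp : c ^ p = 1 := by
    have h1 := pow_orderOf_eq_one (x * c)
    rw [hy, (show Commute x c from Subgroup.mem_center_iff.1 hc x).mul_pow, ← hx, pow_orderOf_eq_one,
      one_mul, hx] at h1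
    exact h1
  obtain ⟨v, hv⟩ := exists_ne (0 : Fin d → ℂ)
  have h1 := congrArg (fun f : Module.End ℂ (Fin d → ℂ) => (f ^ p) v) hs
  simp only [← map_pow, hcp, map_one, Module.End.one_apply] at h1
  rw [smul_pow, ← Module.End.one_eq_id, one_pow, LinearMap.smul_apply, Module.End.one_apply] at h1
  exact (smul_left_injective ℂ hv ((one_smul ℂ v).trans h1)).symm

end Cfsg.Agent.Feit
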