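import Cfsg.Agent.Lib.SmallDeg16.SqIndex
import Cfsg.Agent.Lib.Char.Induction
import Cfsg.Agent.S4473
import Cfsg.Agent.S0494
import Mathlib.LinearAlgebra.Determinant

/-!
Degree two at the prime five: the central factor group has order sixty.
-/

set_option autoImplicit false
set_option linter.unusedSectionVars false
set_option linter.style.haveILetI false

namespace Cfsg.Agent.Feit

open Cfsg Module SmallDeg16
open scoped commutatorElement

universe u

variable {G : Type u} [Group G] [Finite G]

/-- The determinant of an element of the derived subgroup. -/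
theorem det_of_derived {n : ℕ} (ρ : Representation ℂ G (Fin n → ℂ)) {x : G}
    (hx : x ∈ commutator G) : LinearMap.det (ρ x) = 1 := by
  let δ : G →* ℂˣ := (Units.map (LinearMap.det : Module.End ℂ (Fin n → ℂ) →* ℂ)).comp ρ.toHomUnits
  have h : δ x = 1 := Abelianization.commutator_subset_ker δ hx
  exact congrArg Units.val h

variable [hpF : Fact (Nat.Prime 5)]

/-- The centre has index sixty. -/
theorem index_sixty (ρ : Representation ℂ G (Fin 2 → ℂ)) [ρ.IsIrreducible]
    (hρ : Function.Injective ρ) (hG : ¬ PNormal 5 G) : (Subgroup.center G).index = 60 := by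
  haveI : Fintype G := Fintype.ofFinite G
  let χ : IrrCharacter G := ⟨ρ.character, Char.isIrrCharacter_of_rep ρ⟩
  have hχ1 : (χ : G → ℂ) 1 = 2 := by
    show ρ.character 1 = 2
    rw [Representation.char_one, Module.finrank_fin_fun]
    norm_num
  have hf : ∀ g : G, (χ : G → ℂ) g = (χ : G → ℂ) 1 → g = 1 := by
    intro g hg
    change ρ.character g = ρ.character 1 at hg
    rw [Representation.char_one, Char.char_eq_degree_iff] at hg
    exact hρ (by rw [hg, map_one, Module.End.one_eq_id])
  have h2 : charDegree (χ : G → ℂ) = 2 := by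
    rw [charDegree, hχ1]
    norm_num
  have hprim : ∀ H : Subgroup G, H ≠ ⊤ → ∀ θ : H → ℂ, Cfsg.IsCharacter H θ →
      (χ : G → ℂ) ≠ Cfsg.indFun H θ := by
    intro H hH θ hθ he
    obtain ⟨k, hk⟩ := Char.IsCharacter.exists_degree hθ
    have h1 := congrFun he 1
    rw [hχ1, Char.indFun_one_apply, hk] at h1
    have h1' : 2 = H.index * k := by exact_mod_cast h1
    have hidx : H.index = 2 := by
      have hd : H.index ∣ 2 := Dvd.intro k h1'.symm
      rcases (Nat.dvd_prime Nat.prime_two).1 hd with e | e
      · exact absurd (Subgroup.index_eq_one.1 e) hH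
      · exact e
    haveI hHn : H.Normal := Subgroup.normal_of_index_eq_two hidx
    rw [hidx] at h1'
    obtain rfl : k = 1 := by omega
    rw [Nat.cast_one] at hk
    obtain ⟨f, hfθ⟩ := Char.exists_hom_of_degree_one hθ hk
    have hker : ∀ h : H, h ∈ commutator H → (h : G) = 1 := by
      intro h hh
      refine hf h ?_
      rw [he, Char.indFun_apply, Char.indFun_apply]
      congr 1
      refine Finset.sum_congr rfl fun x _ => ?_
      have hmem : x⁻¹ * (h : G) * x ∈ H := by simpa using hHn.conj_mem _ h.2 x⁻¹
      have hcm : (⟨x⁻¹ * (h : G) * x, hmem⟩ : H) ∈ commutator H := by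
        have hc : (commutator H).Characteristic := inferInstance
        have h' := Subgroup.characteristic_iff_map_eq.1 hc (MulAut.conjNormal x⁻¹)
        rw [← h']
        exact ⟨h, hh, Subtype.ext (by simp [MulAut.conjNormal_apply])⟩
      have hf1 : f ⟨x⁻¹ * (h : G) * x, hmem⟩ = 1 := Abelianization.commutator_subset_ker f hcm
      rw [Char.extendByZero_mem H θ hmem, Char.extendByZero_mem H θ (x := x⁻¹ * 1 * x)
        (by simp [one_mem])]
      have e1 : (⟨x⁻¹ * 1 * x, (by simp [one_mem])⟩ : H) = 1 := Subtype.ext (by simp)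
      rw [hfθ]
      simp only [hf1, e1, map_one]
    refine hG (pnormal_of_normal H (fun y hy => ?_) (pnormal_of_comm fun a b => ?_))
    · obtain ⟨j, hj⟩ := hy
      have hq : (QuotientGroup.mk' H y) ^ (5 ^ j) = 1 := by rw [← map_pow, hj, map_one]
      rw [← QuotientGroup.eq_one_iff, ← orderOf_eq_one_iff]
      refine Nat.eq_one_of_dvd_coprimes (k := orderOf (QuotientGroup.mk' H y))
        (Nat.Coprime.pow_left j (by norm_num : Nat.Coprime 5 2)) (orderOf_dvd_of_pow_eq_one hq) ?_
      have hc := orderOf_dvd_natCard (QuotientGroup.mk' H y)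
      rwa [← Subgroup.index_eq_card, hidx] at hc
    · rw [← commutatorElement_eq_one_iff_mul_comm]
      exact Subtype.ext (hker _
        (Subgroup.commutator_mem_commutator (Subgroup.mem_top a) (Subgroup.mem_top b)))
  rcases S4473.result χ hf h2 hprim with h | h | h
  · refine absurd (pnormal_of_central_quotient (Subgroup.center G) le_rfl fun P => ?_) hG
    rw [(Subgroup.card_eq_one.1 (show Nat.card (P : Subgroup (G ⧸ Subgroup.center G)) = 1 by
      rw [P.card_eq_multiplicity, ← Subgroup.index_eq_card, h,
        Nat.factorization_eq_zero_of_not_dvd (by norm_num), pow_zero]) :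
      (P : Subgroup (G ⧸ Subgroup.center G)) = ⊥)]
    infer_instance
  · refine absurd (pnormal_of_central_quotient (Subgroup.center G) le_rfl fun P => ?_) hG
    rw [(Subgroup.card_eq_one.1 (show Nat.card (P : Subgroup (G ⧸ Subgroup.center G)) = 1 by
      rw [P.card_eq_multiplicity, ← Subgroup.index_eq_card, h,
        Nat.factorization_eq_zero_of_not_dvd (by norm_num), pow_zero]) :
      (P : Subgroup (G ⧸ Subgroup.center G)) = ⊥)]
    infer_instance
  · exact h

/-- The central factor group is the alternating group of degree five. -/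
theorem alt_five_of_two (ρ : Representation ℂ G (Fin 2 → ℂ)) [ρ.IsIrreducible]
    (hρ : Function.Injective ρ) (hG : ¬ PNormal 5 G) :
    Nonempty (G ⧸ Subgroup.center G ≃* alternatingGroup (Fin 5)) := by
  have h60 : Nat.card (G ⧸ Subgroup.center G) = 60 :=
    (Subgroup.index_eq_card _).symm.trans (index_sixty ρ hρ hG)
  refine OrderSixty.equiv_A5 h60 ((OrderSixty.sylow_card_cases h60).resolve_left fun h1 => ?_)
  refine hG (pnormal_of_central_quotient (Subgroup.center G) le_rfl fun P => ?_)
  haveI : Subsingleton (Sylow 5 (G ⧸ Subgroup.center G)) := (Nat.card_eq_one_iff_unique.1 h1).1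
  exact Sylow.normal_of_subsingleton P

/-- The central factor group is `PSL₂(5)`. -/
theorem psl_of_two (ρ : Representation ℂ G (Fin 2 → ℂ)) [ρ.IsIrreducible]
    (hρ : Function.Injective ρ) (hG : ¬ PNormal 5 G) :
    Nonempty (G ⧸ Subgroup.center G ≃* Matrix.ProjectiveSpecialLinearGroup (Fin 2) (ZMod 5)) := by
  obtain ⟨a⟩ := alt_five_of_two ρ hρ hG
  haveI : IsSimpleGroup (Matrix.ProjectiveSpecialLinearGroup (Fin 2) (ZMod 5)) :=
    Matrix.ProjectiveSpecialLinearGroup.rank_two_simple (by rw [Nat.card_zmod]; norm_num)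
  have hc := Dickson.gcd_mul_card_psl (K := ZMod 5)
  rw [Nat.card_zmod, show Nat.gcd 2 (5 - 1) = 2 by decide] at hc
  obtain ⟨b⟩ := S0494.result (G := Matrix.ProjectiveSpecialLinearGroup (Fin 2) (ZMod 5)) (by omega)
  exact ⟨a.trans b.symm⟩

/-- The derived subgroup contains minus the identity, and every element is one of its elements times
a scalar. -/
theorem two_structure (ρ : Representation ℂ G (Fin 2 → ℂ)) [ρ.IsIrreducible]
    (hρ : Function.Injective ρ) (hG : ¬ PNormal 5 G) :
    (∃ t ∈ commutator G, ρ t = (-1 : ℂ) • LinearMap.id) ∧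
      ∀ a : G, ∃ x ∈ commutator G, ∃ s : ℂ, ρ (x⁻¹ * a) = s • LinearMap.id ∧
        s ^ 2 = LinearMap.det (ρ a) := by
  obtain ⟨e⟩ := alt_five_of_two ρ hρ hG
  haveI : Nontrivial (G ⧸ Subgroup.center G) := e.toEquiv.nontrivial
  haveI : IsSimpleGroup (G ⧸ Subgroup.center G) :=
    IsSimpleGroup.isSimpleGroup_of_surjective e.symm.toMonoidHom e.symm.surjective
  set π := QuotientGroup.mk' (Subgroup.center G) with hπ
  have hsurj := QuotientGroup.mk'_surjective (Subgroup.center G)
  have himage : (commutator G).map π = ⊤ := by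
    rw [commutator_def, Subgroup.map_commutator, Subgroup.map_top_of_surjective _ hsurj,
      ← commutator_def]
    refine ((inferInstance : (commutator (G ⧸ Subgroup.center G)).Normal).eq_bot_or_eq_top).resolve_left
      fun hb => ?_
    have hc : ∀ a b : alternatingGroup (Fin 5), a * b = b * a := fun a b => by
      have h1 : ⁅e.symm a, e.symm b⁆ ∈ commutator (G ⧸ Subgroup.center G) :=
        Subgroup.commutator_mem_commutator (Subgroup.mem_top _) (Subgroup.mem_top _)
      rw [hb, Subgroup.mem_bot, commutatorElement_eq_one_iff_mul_comm] at h1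
      simpa using congrArg e h1
    have h3 := congrArg Subtype.val (hc
      ⟨Equiv.swap 0 1 * Equiv.swap 0 2, Equiv.Perm.mem_alternatingGroup.2 (by decide)⟩
      ⟨Equiv.swap 0 3 * Equiv.swap 0 4, Equiv.Perm.mem_alternatingGroup.2 (by decide)⟩)
    revert h3
    decide
  have hscal : ∀ z ∈ Subgroup.center G, ∃ s : ℂ, ρ z = s • LinearMap.id := fun z hz =>
    Char.schur_scalar ρ (ρ z) fun g v => by
      rw [← Module.End.mul_apply, ← map_mul, ← Subgroup.mem_center_iff.1 hz g, map_mul,
        Module.End.mul_apply]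
  have hdet : ∀ s : ℂ, LinearMap.det (s • (LinearMap.id : (Fin 2 → ℂ) →ₗ[ℂ] Fin 2 → ℂ)) = s ^ 2 :=
    fun s => by rw [LinearMap.det_smul, Module.finrank_fin_fun, LinearMap.det_id, mul_one]
  refine ⟨?_, fun a => ?_⟩
  · haveI : Fact (Nat.Prime 2) := ⟨Nat.prime_two⟩
    have h2 : 2 ∣ Nat.card (commutator G) := by
      have h1 : Nat.card ((commutator G).map π) ∣ Nat.card (commutator G) :=
        Subgroup.card_map_dvd _ _
      rw [himage, Subgroup.card_top, Nat.card_congr e.toEquiv] at h1
      refine Dvd.dvd.trans ?_ h1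
      rw [Nat.card_eq_fintype_card]
      decide
    obtain ⟨⟨t, ht⟩, hto⟩ := exists_prime_orderOf_dvd_card' 2 h2
    refine ⟨t, ht, ?_⟩
    have hto' : orderOf t = 2 := by rw [← hto, Subgroup.orderOf_mk]
    set f : Module.End ℂ (Fin 2 → ℂ) := ρ t with hf
    have hf2 : f * f = 1 := by
      have htt : t * t = 1 := by
        rw [← sq]
        exact orderOf_dvd_iff_pow_eq_one.1 hto'.dvd
      rw [hf, ← map_mul, htt, map_one]
    have hf1 : f ≠ 1 := fun h => absurd hto' (by
      rw [hρ (h.trans (map_one ρ).symm), orderOf_one]; norm_num)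
    have hd : LinearMap.det f = 1 := det_of_derived ρ ht
    by_contra hne
    obtain ⟨v, hv⟩ : ∃ v, f v + v ≠ 0 := by
      by_contra h
      push Not at h
      exact hne (LinearMap.ext fun v => by simp [eq_neg_of_add_eq_zero_left (h v)])
    obtain ⟨w, hw⟩ : ∃ w, f w - w ≠ 0 := by
      by_contra h
      push Not at h
      exact hf1 (LinearMap.ext fun v => by simp [sub_eq_zero.1 (h v)])
    have hff : ∀ v, f (f v) = v := fun v => by
      rw [← Module.End.mul_apply, hf2, Module.End.one_apply]
    set b₁ := f v + v with hb1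
    set b₂ := f w - w with hb2
    have e1 : f b₁ = b₁ := by rw [hb1, map_add, hff, add_comm]
    have e2 : f b₂ = -b₂ := by rw [hb2, map_sub, hff, neg_sub]
    have hind : LinearIndependent ℂ ![b₁, b₂] := by
      rw [LinearIndependent.pair_iff]
      intro s r hsr
      have h' := congrArg f hsr
      rw [map_add, map_smul, map_smul, e1, e2, map_zero, smul_neg] at h'
      have hs : (2 * s) • b₁ = 0 := by
        calc (2 * s) • b₁ = (s • b₁ + r • b₂) + (s • b₁ + -(r • b₂)) := by
              rw [mul_smul, two_smul]; abel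
          _ = 0 := by rw [hsr, h', add_zero]
      have hs0 : s = 0 := by
        rcases smul_eq_zero.1 hs with h0 | h0
        · simpa using h0
        · exact absurd h0 hv
      rw [hs0, zero_smul, zero_add] at hsr
      exact ⟨hs0, (smul_eq_zero.1 hsr).resolve_right hw⟩
    let B := basisOfLinearIndependentOfCardEqFinrank hind (by simp)
    have hM : LinearMap.toMatrix B B f = Matrix.diagonal ![1, -1] := by
      refine Matrix.ext fun i j => ?_
      have hB : ∀ j, f (B j) = (![(1 : ℂ), -1] j) • B j := by
        intro j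
        fin_cases j <;> simp [B, e1, e2]
      rw [LinearMap.toMatrix_apply, hB, map_smul, Finsupp.smul_apply, B.repr_self,
        Finsupp.single_apply, Matrix.diagonal_apply]
      fin_cases i <;> fin_cases j <;> simp
    rw [← LinearMap.det_toMatrix B, hM, Matrix.det_diagonal, Fin.prod_univ_two] at hd
    norm_num at hd
  · have ha : π a ∈ (commutator G).map π := himage ▸ Subgroup.mem_top _
    obtain ⟨x, hx, hxa⟩ := ha
    obtain ⟨s, hs⟩ := hscal _ (QuotientGroup.eq.1 hxa)
    refine ⟨x, hx, s, hs, ?_⟩
    have h1 : LinearMap.det (ρ (x * (x⁻¹ * a))) = LinearMap.det (ρ x) * s ^ 2 := by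
      rw [map_mul, map_mul, hs, hdet]
    rwa [mul_inv_cancel_left, det_of_derived ρ hx, one_mul, eq_comm] at h1

end Cfsg.Agent.Feit
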