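import Cfsg.Agent.Lib.Feit.HalfExists
import Cfsg.Agent.Lib.Feit.HalfLift
import Cfsg.Agent.Lib.Feit.HalfQuotient
import Cfsg.Agent.Lib.Feit.Two
import Cfsg.Agent.Lib.Feit.Quotient
import Cfsg.Agent.Lib.Feit.Small
import Cfsg.Agent.Lib.Feit.Cases
import Cfsg.Agent.S4705

/-!
Faithful irreducible characters of degree less than `p - 1` for the primes up to seven.
-/

set_option autoImplicit false
set_option linter.style.haveILetI false

namespace Cfsg.Agent.Feit

open Cfsg
open Cfsg.Agent.SmallDim Cfsg.Agent.SmallDeg16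

universe u

/-- A group with a faithful one-dimensional representation has all its subgroups normal. -/
theorem normal_of_degree_one {G : Type u} [Group G] {d : ℕ} (hd : d ≤ 1)
    (ρ : Representation ℂ G (Fin d → ℂ)) (hρ : Function.Injective ρ) (H : Subgroup G) : H.Normal := by
  haveI : Subsingleton (Fin d) := by
    rcases (show d = 0 ∨ d = 1 by omega) with rfl | rfl <;> infer_instance
  have hcomm : ∀ a b : G, a * b = b * a := fun a b => hρ (by
    rw [map_mul, map_mul]
    apply LinearMap.toMatrix'.injective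
    rw [Module.End.mul_eq_comp, Module.End.mul_eq_comp, LinearMap.toMatrix'_comp,
      LinearMap.toMatrix'_comp]
    ext i j
    simp only [Matrix.mul_apply]
    refine Finset.sum_congr rfl fun k _ => ?_
    rw [Subsingleton.elim k i, Subsingleton.elim j i, mul_comm])
  exact ⟨fun a ha g => by rwa [hcomm g a, mul_inv_cancel_right]⟩

/-- The classification for the primes up to seven. -/
theorem small_primes {G : Type u} [Group G] [Finite G] (d : ℕ) (χ : Cfsg.IrrCharacter G)
    (hdeg : Cfsg.charDegree (χ : G → ℂ) = d)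
    (hfaith : ∀ g : G, (χ : G → ℂ) g = (χ : G → ℂ) 1 → g = 1) (p : ℕ) [Fact p.Prime]
    (hp : d + 1 < p) (hp7 : p ≤ 7) (P : Sylow p G) :
    (P : Subgroup G).Normal ∨ (Nonempty (G ⧸ Subgroup.center G ≃*
        Matrix.ProjectiveSpecialLinearGroup (Fin 2) (ZMod p)) ∧ (2 * d = p + 1 ∨ 2 * d = p - 1)) ∨
      (p = 17 ∧ d = 15 ∧ ∃ (A : Type) (_ : CommGroup A) (_ : Finite A),
        Nonempty (G ≃* Matrix.SpecialLinearGroup (Fin 2) (GaloisField 2 4) × A)) ∨
      (p = 7 ∧ d = 4 ∧ Nonempty (G ⧸ Subgroup.center G ≃* ↥(alternatingGroup (Fin 7)))) ∨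
      (p = 5 ∧ d = 3 ∧ Nonempty (G ⧸ Subgroup.center G ≃* ↥(alternatingGroup (Fin 6)))) := by
  classical
  obtain ⟨n, ρ, hirr, hχ⟩ := id χ.2
  have hn : n = d := by
    rw [Cfsg.charDegree, ← hχ, Representation.char_one, Module.finrank_fin_fun] at hdeg
    simpa using hdeg
  subst hn
  haveI := hirr
  haveI : Fintype G := Fintype.ofFinite G
  have hρ : Function.Injective ρ := fun a b h => by
    have h1 : ρ (a⁻¹ * b) = LinearMap.id := by
      rw [map_mul, ← h, ← map_mul, inv_mul_cancel, map_one]; rfl
    refine inv_mul_eq_one.1 (hfaith _ ?_)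
    rw [← hχ, Representation.char_one]
    exact (Char.char_eq_degree_iff ρ _).2 h1
  by_cases hP : (P : Subgroup G).Normal
  · exact Or.inl hP
  rcases Nat.lt_or_ge (2 * n + 1) p with hsmall | hbig
  · exact Or.inl (pnormal_of_small_degree ρ hρ hsmall P)
  rcases Nat.lt_or_ge n 2 with h2 | h2
  · exact Or.inl (normal_of_degree_one (by omega) ρ hρ _)
  have hp' : p.Prime := Fact.out
  rcases (show p = 5 ∨ p = 7 by
    rcases (show p = 4 ∨ p = 5 ∨ p = 6 ∨ p = 7 by omega) with h | h | h | h
    · exact absurd (h ▸ hp') (by norm_num)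
    · exact Or.inl h
    · exact absurd (h ▸ hp') (by norm_num)
    · exact Or.inr h) with rfl | rfl
  · rcases (show n = 2 ∨ n = 3 by omega) with rfl | rfl
    · exact Or.inr (Or.inl ⟨psl_of_two ρ hρ fun h => hP (h P), Or.inr rfl⟩)
    · obtain ⟨L, hLn, x, hx⟩ := exists_half_five ρ hρ P hP
      haveI := hLn
      have hind := sqBound_three G ρ hρ hirr fun h => hP (h P)
      obtain ⟨e⟩ := HalfCore.quotient_equiv ρ L hρ hind hx
      rcases hx.quotient with ⟨-, ⟨f⟩ | ⟨f⟩⟩ | ⟨h, -⟩
      · exact Or.inr (Or.inl ⟨f.map e.trans, Or.inl rfl⟩)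
      · exact Or.inr (Or.inr (Or.inr (Or.inr ⟨rfl, rfl, f.map e.trans⟩)))
      · exact absurd h (by norm_num)
  · obtain ⟨L, hLn, hcore, hLirr⟩ := exists_core_of_rep ρ hρ le_rfl hp P hP
    haveI := hLn
    haveI := hLirr
    haveI : Fintype L := Fintype.ofFinite L
    set σ : Representation ℂ L (Fin n → ℂ) := MonoidHom.comp ρ L.subtype with hσ
    have hσi : Function.Injective σ := hρ.comp L.subtype_injective
    rcases (show n = 3 ∨ n = 4 ∨ n = 5 by omega) with rfl | rfl | rfl
    · obtain ⟨y, hy⟩ := exists_prime_orderOf_dvd_card' 7 hcore.dvd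
      have hker := aeval_prod_eigenset (iSup_eigenspace_rep σ y)
      have hcard : (eigenset (σ y)).card ≤ 3 := by
        have h1 : ∑ μ ∈ eigenset (σ y), 1 ≤ Module.finrank ℂ (Fin 3 → ℂ) :=
          (Finset.sum_le_sum fun μ hμ => mem_eigenset.1 hμ).trans
            (sum_finrank_eigenspace_le (σ y) (eigenset (σ y)))
        rwa [Finset.sum_const, smul_eq_mul, mul_one, Module.finrank_fin_fun] at h1
      obtain ⟨e⟩ := psl_of_few_eigen (by norm_num) hcore.perf hcore.sq hcore.norm σ hσi (by norm_num)
        hy (eigenset (σ y)) (by omega) hker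
      exact Or.inr (Or.inl ⟨quotient_of_core hp ρ hρ L hcore hLirr e, Or.inr rfl⟩)
    · obtain ⟨x, hx⟩ := half_seven hcore σ hσi
      have hind := sqBound le_rfl 4 hp G ρ hρ hirr fun h => hP (h P)
      obtain ⟨e⟩ := HalfCore.quotient_equiv ρ L hρ hind hx
      rcases hx.quotient with ⟨h, -⟩ | ⟨-, ⟨f⟩ | ⟨f⟩⟩
      · exact absurd h (by norm_num)
      · exact Or.inr (Or.inl ⟨f.map e.trans, Or.inl rfl⟩)
      · exact Or.inr (Or.inr (Or.inr (Or.inl ⟨rfl, rfl, f.map e.trans⟩)))
    · exfalso
      obtain ⟨Q⟩ : Nonempty (Sylow 7 L) := inferInstance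
      have hQ := card_sylow hcore Q
      have hQn : ¬ (Q : Subgroup L).Normal := fun hn => by
        have hc : (Q : Subgroup L) ≤ Subgroup.center L := by
          refine hcore.norm _ hn fun htop => center_ne_top hcore ?_
          haveI : Fact (Nat.Prime 7) := ⟨hcore.prime⟩
          have h7 : Nat.card L = 7 := by rw [← Subgroup.card_top (G := L), ← htop]; exact hQ
          haveI := isCyclic_of_prime_card h7
          exact eq_top_iff.2 fun a _ => Subgroup.mem_center_iff.2 fun b =>
            (IsCyclic.commutative (α := L)).is_comm.comm b a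
        refine not_dvd_center_of_perfect hcore.perf hcore.sq ?_
        exact hQ ▸ Subgroup.card_dvd_of_le hc
      have hone : σ.character 1 = 5 := by
        rw [Representation.char_one, Module.finrank_fin_fun]; norm_num
      obtain ⟨a, F, _, _, ha, -, -⟩ := S4705.result 7 (by norm_num) Q hQ hQn σ.character
        (Char.isIrrCharacter_of_rep σ) (fun g hg => hσi (by
          rw [map_one]
          exact (Char.char_eq_degree_iff σ g).1 (by rw [hg, Representation.char_one]))) (by
          show Cfsg.charDegree σ.character = 7 - 2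
          rw [Cfsg.charDegree, hone]
          norm_num)
      rcases a with _ | _ | _ | a
      · norm_num at ha
      · norm_num at ha
      · norm_num at ha
      · rw [pow_succ, pow_succ, pow_succ] at ha
        have : 0 < 2 ^ a := Nat.two_pow_pos a
        omega

end Cfsg.Agent.Feit
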