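import Cfsg.Agent.Lib.Feit.Primitive

/-!
The Sylow subgroup has order `p` modulo the centre in degree less than `p - 1`, unless it is normal.
-/

set_option autoImplicit false
set_option linter.unusedSectionVars false
set_option linter.style.haveILetI false

namespace Cfsg.Agent.Feit

open Module Cfsg Cfsg.Agent.Char SmallDim SmallDeg16
open scoped Classical commutatorElement Pointwise

universe u

variable {G : Type u} [Group G] [Finite G] {p : ℕ} [hpF : Fact p.Prime] {n : ℕ}

section Twisted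

variable (IH : ∀ m < n, SqBound.{u} p m) (ρ : Representation ℂ G (Fin n → ℂ)) [ρ.IsIrreducible]
  (hρ : Function.Injective ρ) (hp7 : 7 ≤ p) (hn : n + 1 < p) (hG : ¬ PNormal p G)
  (hZ : ¬ p ∣ Nat.card (Subgroup.center G))

include IH hρ hp7 hn hG hZ

/-- The centraliser of a non-trivial element of `p`-power order has a normal Sylow subgroup. -/
theorem pnormal_centralizer_pElt {z : G} (hz : IsPElt p z) (hz1 : z ≠ 1) :
    PNormal p (Subgroup.centralizer ({z} : Set G)) := by
  by_contra h
  obtain ⟨k, hk⟩ := hz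
  obtain ⟨i, -, hi⟩ := (Nat.dvd_prime_pow hpF.out).1 (orderOf_dvd_of_pow_eq_one hk)
  obtain ⟨i, rfl⟩ : ∃ i', i = i' + 1 := ⟨i - 1, by
    rcases Nat.eq_zero_or_pos i with rfl | h0
    · exact absurd (orderOf_eq_one_iff.1 (hi.trans (pow_zero p))) hz1
    · omega⟩
  set w := z ^ p ^ i with hw
  have hwp : w ^ p = 1 := by rw [hw, ← pow_mul, ← pow_succ, ← hi, pow_orderOf_eq_one]
  have hw1 : w ≠ 1 := fun e => by
    have h1 := orderOf_dvd_of_pow_eq_one (hw ▸ e : z ^ p ^ i = 1)
    rw [hi, Nat.pow_dvd_pow_iff_le_right hpF.out.one_lt] at h1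
    omega
  have hwo : orderOf w = p := orderOf_eq_prime hwp hw1
  have hle : Subgroup.centralizer ({z} : Set G) ≤ Subgroup.centralizer ({w} : Set G) := fun x hx =>
    Subgroup.mem_centralizer_singleton_iff.2
      ((show Commute x z from Subgroup.mem_centralizer_singleton_iff.1 hx).pow_right (p ^ i)).eq
  have hnw : ¬ PNormal p (Subgroup.centralizer ({w} : Set G)) := fun hp =>
    h (PNormal.of_injective (Subgroup.inclusion_injective hle) hp)
  have hwc := mem_center_of_centralizer IH ρ hρ hp7 hn hG hwo hnw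
  exact hZ (hwo ▸ Subgroup.orderOf_dvd_natCard _ hwc)

/-- An element of `p`-power order lies in the Sylow subgroup of every one it commutes with. -/
theorem mem_sylow_of_commute (P : Sylow p G) {s t : G} (hs : s ∈ (P : Subgroup G)) (hs1 : s ≠ 1)
    (ht : IsPElt p t) (hc : Commute t s) : t ∈ (P : Subgroup G) := by
  have hle : (P : Subgroup G) ≤ Subgroup.centralizer ({s} : Set G) := fun x hx =>
    Subgroup.mem_centralizer_singleton_iff.2
      (Char.Blich.comm_of_small ρ hρ (by omega) _ P.isPGroup' x hx s hs)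
  have hN := pnormal_centralizer_pElt IH ρ hρ hp7 hn hG hZ (isPElt_of_mem P.isPGroup' hs) hs1
  obtain ⟨k, hk⟩ := ht
  have h : (⟨t, Subgroup.mem_centralizer_singleton_iff.2 hc.eq⟩ :
      Subgroup.centralizer ({s} : Set G)) ∈ (P.subtype hle : Subgroup _) :=
    hN.mem_sylow (P.subtype hle) ⟨k, Subtype.ext hk⟩
  rw [Sylow.coe_subtype, Subgroup.mem_subgroupOf] at h
  exact h

/-- The centraliser of a non-central element commuting with a non-trivial element of `p`-power
order has a normal Sylow subgroup. -/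
theorem pnormal_centralizer (hsq : p ^ 2 ∣ Nat.card G) {g : G} (hg : g ∉ Subgroup.center G)
    {s : G} (hs : IsPElt p s) (hs1 : s ≠ 1) (hgs : Commute g s) :
    PNormal p (Subgroup.centralizer ({g} : Set G)) := by
  set C := Subgroup.centralizer ({g} : Set G) with hC
  by_contra hCn
  let σ : Representation ℂ C (Fin n → ℂ) := MonoidHom.comp ρ C.subtype
  have hσ : Function.Injective σ := hρ.comp C.subtype_injective
  have hsep : ∀ x : C, (∀ U : {U : Submodule ℂ (Fin n → ℂ) // MinInv σ U},
      x ∈ invKer σ U.2.inv) → x = 1 := by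
    intro x hx
    refine hσ ?_
    have hle : ⨆ U : {U : Submodule ℂ (Fin n → ℂ) // MinInv σ U}, U.1 ≤ LinearMap.ker (σ x - 1) :=
      iSup_le fun U w hw => by
        rw [LinearMap.mem_ker, LinearMap.sub_apply, Module.End.one_apply,
          mem_invKer.1 (hx U) w hw, sub_self]
    rw [iSup_minInv, top_le_iff, LinearMap.ker_eq_top, sub_eq_zero] at hle
    rw [hle, map_one]
  -- the constituent with a non-normal Sylow subgroup
  obtain ⟨⟨U, hU⟩, hUn⟩ : ∃ U : {U : Submodule ℂ (Fin n → ℂ) // MinInv σ U},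
      ¬ PNormal p (C ⧸ invKer σ U.2.inv) := by
    by_contra h
    push Not at h
    exact hCn (pnormal_of_sep (fun U : {U : Submodule ℂ (Fin n → ℂ) // MinInv σ U} =>
      invKer σ U.2.inv) hsep h)
  set K := invKer σ hU.inv with hK
  obtain ⟨τ, hτ, hτi, hτe⟩ := exists_quot_rep σ hU.inv
  haveI := hτi hU
  have hm9 : p ≤ 2 * finrank ℂ U + 1 := by
    by_contra h
    exact hUn (pnormal_of_small_degree τ hτ (by omega))
  have hgC : ∀ c : C, Commute (ρ g) (σ c) := fun c => by
    show ρ g * ρ (c : G) = ρ (c : G) * ρ g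
    rw [← map_mul, ← map_mul, Subgroup.mem_centralizer_singleton_iff.1 c.2]
  have hgg : g ∈ C := Subgroup.mem_centralizer_singleton_iff.2 rfl
  obtain ⟨μ, hμ⟩ := hU.scalar (ρ g) hgC fun u hu => hU.inv ⟨g, hgg⟩ u hu
  have hUtop : U ≠ ⊤ := fun h =>
    hg (mem_center_of_scalar ρ hρ fun v => hμ v (h ▸ Submodule.mem_top))
  have hmn : finrank ℂ U < n := by
    have := Submodule.finrank_lt hUtop
    rwa [Module.finrank_fin_fun] at this
  -- on the other constituents elements of `p`-power order commute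
  have hother : ∀ U' : {U : Submodule ℂ (Fin n → ℂ) // MinInv σ U}, U'.1 ≠ U →
      ∀ a b : C, IsPElt p a → IsPElt p b →
        QuotientGroup.mk' (invKer σ U'.2.inv) a * QuotientGroup.mk' (invKer σ U'.2.inv) b =
          QuotientGroup.mk' (invKer σ U'.2.inv) b * QuotientGroup.mk' (invKer σ U'.2.inv) a := by
    intro U' hne a b ha hb
    have h1 := Submodule.finrank_sup_add_finrank_inf_eq U'.1 U
    rw [U'.2.inf_eq_bot hU hne, finrank_bot] at h1
    have h2 := (Submodule.finrank_le (U'.1 ⊔ U)).trans_eq (Module.finrank_fin_fun ℂ (n := n))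
    obtain ⟨τ', hτ', -, -⟩ := exists_quot_rep σ U'.2.inv
    exact commute_of_pElt (pnormal_of_small_degree τ' hτ' (by omega)) τ' hτ' (by omega)
      (IsPElt.map _ ha) (IsPElt.map _ hb)
  -- the subgroup generated by the elements of `p`-power order
  set R : Subgroup C := Subgroup.closure {x : C | IsPElt p x} with hR
  have hpR : ∀ x : C, IsPElt p x → x ∈ R := fun x hx => Subgroup.subset_closure hx
  haveI hRn : R.Normal := ⟨fun a ha c => by
    have h : R ≤ R.comap (MulAut.conj c).toMonoidHom :=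
      (Subgroup.closure_le _).2 fun x hx => hpR _ (hx.conj c)
    exact h ha⟩
  have hRnn : ¬ PNormal p R := fun h => hCn (pnormal_of_normal R hpR h)
  have hdvd := dvd_commutator_of_not_pnormal (G := R) (MonoidHom.comp σ R.subtype)
    (hσ.comp R.subtype_injective) (by omega) hRnn
  set D : Subgroup C := (commutator R).map R.subtype with hD
  haveI hDn : D.Normal := ConjAct.normal_of_characteristic_of_normal
  have hD' : D = ⁅R, R⁆ := Subgroup.map_subtype_commutator R
  have htriv : ∀ U' : {U : Submodule ℂ (Fin n → ℂ) // MinInv σ U}, U'.1 ≠ U →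
      D ≤ invKer σ U'.2.inv := by
    intro U' hne
    rw [hD', Subgroup.commutator_le]
    intro a ha b hb
    set π := QuotientGroup.mk' (invKer σ U'.2.inv)
    have h1 : ∀ x : C, IsPElt p x → ∀ z ∈ R, π x * π z = π z * π x := fun x hx z hz => by
      have hle : R ≤ (Subgroup.centralizer ({π x} : Set _)).comap π := (Subgroup.closure_le _).2
        fun w hw => Subgroup.mem_centralizer_singleton_iff.2 (hother U' hne w x hw hx)
      exact (Subgroup.mem_centralizer_singleton_iff.1 (hle hz)).symm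
    have hle : R ≤ (Subgroup.centralizer ({π b} : Set _)).comap π := (Subgroup.closure_le _).2
      fun w hw => Subgroup.mem_centralizer_singleton_iff.2 (h1 w hw b hb)
    have h2 := Subgroup.mem_centralizer_singleton_iff.1 (hle ha)
    rw [← QuotientGroup.eq_one_iff]
    show π ⁅a, b⁆ = 1
    rw [map_commutatorElement, commutatorElement_eq_one_iff_mul_comm, h2]
  -- an element of order `p` of the derived subgroup in the Sylow subgroup of `s`
  obtain ⟨P, hP⟩ := hs.isPGroup_zpowers.exists_le_sylow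
  have hsP : s ∈ (P : Subgroup G) := hP (Subgroup.mem_zpowers s)
  have hsC : s ∈ C := Subgroup.mem_centralizer_singleton_iff.2 hgs.eq.symm
  set sC : C := ⟨s, hsC⟩ with hsCd
  have hsCp : IsPElt p sC := by obtain ⟨k, hk⟩ := hs; exact ⟨k, Subtype.ext hk⟩
  obtain ⟨T, hT⟩ := hsCp.isPGroup_zpowers.exists_le_sylow
  obtain ⟨y₀, hy₀⟩ := exists_prime_orderOf_dvd_card' p
    (show p ∣ Nat.card D from (Subgroup.card_map_of_injective R.subtype_injective).symm ▸ hdvd)
  have hy₀o : orderOf (y₀ : C) = p := by rw [Subgroup.orderOf_coe, hy₀]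
  obtain ⟨T₀, hT₀⟩ := (IsPGroup.of_card (n := 1) (by rw [Nat.card_zpowers, hy₀o, pow_one]) :
    IsPGroup p (Subgroup.zpowers (y₀ : C))).exists_le_sylow
  obtain ⟨c, hc⟩ := MulAction.exists_smul_eq C T₀ T
  set y : C := c * y₀ * c⁻¹ with hy
  have hyD : y ∈ D := hDn.conj_mem _ y₀.2 c
  have hyT : y ∈ (T : Subgroup C) := by
    rw [← hc, Sylow.coe_subgroup_smul]
    refine (Subgroup.mem_smul_pointwise_iff_exists _ _ _).2 ⟨y₀, hT₀ (Subgroup.mem_zpowers _), ?_⟩
    rw [MulAut.smul_def, MulAut.conj_apply]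
  have hyo : orderOf (y : G) = p := by
    rw [Subgroup.orderOf_coe, hy, ← MulAut.conj_apply]
    exact (orderOf_injective (MulAut.conj c).toMonoidHom (MulAut.conj c).injective _).trans hy₀o
  have hyp : IsPElt p (y : G) := ⟨1, by rw [pow_one, ← hyo, pow_orderOf_eq_one]⟩
  have hys : Commute (y : G) s := congrArg Subtype.val
    (Char.Blich.comm_of_small σ hσ (by omega) _ T.isPGroup' y hyT sC (hT (Subgroup.mem_zpowers _)))
  have hyP : (y : G) ∈ (P : Subgroup G) :=
    mem_sylow_of_commute IH ρ hρ hp7 hn hG hZ P hsP hs1 hyp hys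
  have hy1 : (y : G) ≠ 1 := fun h => hpF.out.ne_one (by rw [← hyo, h, orderOf_one])
  have hgP : ∀ x ∈ (P : Subgroup G), g * x * g⁻¹ ∈ (P : Subgroup G) := fun x hx => by
    refine mem_sylow_of_commute IH ρ hρ hp7 hn hG hZ P hsP hs1
      ((isPElt_of_mem P.isPGroup' hx).conj g) ?_
    have h1 : Commute x s := Char.Blich.comm_of_small ρ hρ (by omega) _ P.isPGroup' x hx s hsP
    exact (hgs.mul_left h1).mul_left hgs.inv_left
  -- the image of `y - 1`
  set f : Module.End ℂ (Fin n → ℂ) := ρ (y : G) - 1 with hf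
  have hrange : LinearMap.range f ≤ U := by
    rw [LinearMap.range_eq_map, ← iSup_minInv σ, Submodule.map_iSup]
    refine iSup_le fun U' => ?_
    rintro _ ⟨w, hw, rfl⟩
    by_cases hne : U'.1 = U
    · exact hne ▸ sub_mem (U'.2.inv y w hw) hw
    · rw [hf, LinearMap.sub_apply, Module.End.one_apply,
        show ρ (y : G) w = w from mem_invKer.1 (htriv U' hne hyD) w hw, sub_self]
      exact zero_mem _
  have hUW : 2 * finrank ℂ (U ⊓ Module.End.eigenspace (ρ (y : G)) 1 : Submodule ℂ (Fin n → ℂ)) + p ≤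
      2 * finrank ℂ U + 1 := by
    have e : finrank ℂ (U ⊓ Module.End.eigenspace (ρ (y : G)) 1 : Submodule ℂ (Fin n → ℂ)) =
        finrank ℂ (Module.End.eigenspace (τ (y : C ⧸ K)) 1) := (hτe y 1).symm
    rw [e]
    have hyb1 : (y : C ⧸ K) ≠ 1 := fun h => hy1 (congrArg Subtype.val (hsep y fun U' => by
      by_cases hne : U'.1 = U
      · rw [QuotientGroup.eq_one_iff, hK, mem_invKer] at h
        exact mem_invKer.2 fun w hw => h w (hne ▸ hw)
      · exact htriv U' hne hyD))
    have hyb : orderOf (y : C ⧸ K) = p := orderOf_eq_prime (by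
      rw [← QuotientGroup.mk_pow, show y ^ p = 1 from Subtype.ext (by
        rw [SubmonoidClass.coe_pow, ← hyo, pow_orderOf_eq_one]; rfl)]
      rfl) hyb1
    by_cases hyc : (y : C ⧸ K) ∈ Subgroup.center (C ⧸ K)
    · obtain ⟨c', hc'⟩ := Char.schur_scalar τ (τ (y : C ⧸ K)) fun x v => by
        rw [← Module.End.mul_apply, ← map_mul, ← Subgroup.mem_center_iff.1 hyc x, map_mul,
          Module.End.mul_apply]
      have hne : c' ≠ 1 := fun h => hyb1 (hτ (by rw [hc', h, one_smul, map_one]; rfl))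
      have h0 : Module.End.eigenspace (τ (y : C ⧸ K)) 1 = ⊥ := by
        rw [eq_bot_iff]
        intro v hv
        rw [Module.End.mem_eigenspace_iff, hc', LinearMap.smul_apply, LinearMap.id_apply] at hv
        rw [Submodule.mem_bot]
        by_contra hv0
        exact hne (smul_left_injective ℂ hv0 hv)
      rw [h0, finrank_bot]
      omega
    · obtain ⟨Q, hQ⟩ : ∃ Q : Sylow p (C ⧸ K), ¬ (Q : Subgroup (C ⧸ K)).Normal := by
        simpa [PNormal] using hUn
      have hind := IH _ hmn (C ⧸ K) τ hτ (hτi hU) hUn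
      obtain ⟨hsqQ, -⟩ := exists_derived_element τ hτ (by omega) hind hyb hyc
      have hyd : (y : C ⧸ K) ∈ commutator (C ⧸ K) := by
        have h1 : D ≤ (⁅(⊤ : Subgroup C), (⊤ : Subgroup C)⁆ : Subgroup C) :=
          hD' ▸ Subgroup.commutator_mono le_top le_top
        have h2 : Subgroup.map (QuotientGroup.mk' K) (⁅(⊤ : Subgroup C), (⊤ : Subgroup C)⁆ : Subgroup C) = commutator (C ⧸ K) := by
          rw [Subgroup.map_commutator, Subgroup.map_top_of_surjective _
            (QuotientGroup.mk'_surjective K), commutator_def]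
        rw [← h2]
        exact ⟨y, h1 hyD, rfl⟩
      exact (mult_of_derived τ hτ hp7 (by omega) hsqQ hyd hyb
        (not_normal_zpowers hind Q hQ hyb hyc) 1).2.2 rfl
  have hr9 : p ≤ 2 * finrank ℂ (LinearMap.range f) + 1 := by
    have h1 := LinearMap.finrank_range_add_finrank_ker (f.domRestrict U)
    have h2 : finrank ℂ (LinearMap.range (f.domRestrict U)) ≤ finrank ℂ (LinearMap.range f) :=
      Submodule.finrank_mono (by rintro _ ⟨w, rfl⟩; exact ⟨w, rfl⟩)
    have h3 : finrank ℂ (LinearMap.ker (f.domRestrict U)) =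
        finrank ℂ (U ⊓ Module.End.eigenspace (ρ (y : G)) 1 : Submodule ℂ (Fin n → ℂ)) := by
      rw [← (Submodule.comapSubtypeEquivOfLe (inf_le_left : U ⊓ Module.End.eigenspace (ρ (y : G)) 1
        ≤ U)).finrank_eq]
      refine congrArg (fun X : Submodule ℂ U => finrank ℂ X) ?_
      ext w
      rw [LinearMap.mem_ker, Submodule.mem_comap, Submodule.mem_inf, LinearMap.domRestrict_apply, hf,
        LinearMap.sub_apply, Module.End.one_apply, sub_eq_zero, Module.End.mem_eigenspace_iff,
        one_smul]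
      exact ⟨fun h => ⟨w.2, h⟩, fun h => h.2⟩
    omega
  -- hence `g` centralises the Sylow subgroup
  have hPC : (P : Subgroup G) ≤ C := by
    intro h hh
    rw [hC, Subgroup.mem_centralizer_singleton_iff]
    by_contra hne
    set a := g * h * g⁻¹ * h⁻¹ with ha
    have haP : a ∈ (P : Subgroup G) :=
      (P : Subgroup G).mul_mem (hgP h hh) ((P : Subgroup G).inv_mem hh)
    have ha1 : a ≠ 1 := fun e => hne (mul_inv_eq_iff_eq_mul.1 (mul_inv_eq_one.1 e)).symm
    have hfix : LinearMap.range f ≤ Module.End.eigenspace (ρ a) 1 := by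
      rintro v ⟨w, rfl⟩
      rw [Module.End.mem_eigenspace_iff, one_smul]
      have hyh : Commute (y : G) h⁻¹ := (show Commute (y : G) h from
        Char.Blich.comm_of_small ρ hρ (by omega) _ P.isPGroup' (y : G) hyP h hh).inv_right
      have h1 : ρ h⁻¹ (f w) = f (ρ h⁻¹ w) := by
        rw [hf, LinearMap.sub_apply, LinearMap.sub_apply, map_sub, Module.End.one_apply,
          Module.End.one_apply, ← Module.End.mul_apply, ← map_mul, ← hyh.eq, map_mul,
          Module.End.mul_apply]
      have h2 : ρ h⁻¹ (f w) ∈ U := h1 ▸ hrange ⟨_, rfl⟩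
      have hvU : f w ∈ U := hrange ⟨w, rfl⟩
      have hμ0 : f w ≠ 0 → μ ≠ 0 := fun h0 e => by
        have := hμ _ hvU
        rw [e, zero_smul] at this
        apply h0
        have h3 := congrArg (ρ g⁻¹) this
        rwa [map_zero, ← Module.End.mul_apply, ← map_mul, inv_mul_cancel, map_one,
          Module.End.one_apply] at h3
      rcases eq_or_ne (f w) 0 with h0 | h0
      · rw [h0, map_zero]
      have hinv : ∀ u ∈ U, ρ g⁻¹ u = μ⁻¹ • u := fun u hu => by
        have h3 := congrArg (ρ g⁻¹) (hμ u hu)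
        rw [← Module.End.mul_apply, ← map_mul, inv_mul_cancel, map_one, Module.End.one_apply,
          map_smul] at h3
        rw [eq_inv_smul_iff₀ (hμ0 h0), ← h3]
      rw [ha, map_mul, map_mul, map_mul, Module.End.mul_apply, Module.End.mul_apply,
        Module.End.mul_apply, hinv _ h2, map_smul, map_smul, ← Module.End.mul_apply (ρ h) (ρ h⁻¹),
        ← map_mul, mul_inv_cancel, map_one, Module.End.one_apply, hμ _ hvU, smul_smul,
        inv_mul_cancel₀ (hμ0 h0), one_smul]
    obtain ⟨k, hk⟩ := isPElt_of_mem P.isPGroup' haP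
    obtain ⟨i, -, hi⟩ := (Nat.dvd_prime_pow hpF.out).1 (orderOf_dvd_of_pow_eq_one hk)
    have hi0 : 0 < i := Nat.pos_of_ne_zero fun e => ha1 (orderOf_eq_one_iff.1 (by rw [hi, e, pow_zero]))
    have hpd : p ∣ orderOf a := hi ▸ dvd_pow_self p hi0.ne'
    set a' := a ^ (orderOf a / p) with ha'
    have hao : orderOf a' = p := orderOf_pow_orderOf_div (orderOf_pos a).ne' hpd
    have h9 : p ≤ 2 * finrank ℂ (Module.End.eigenspace (ρ a') 1) + 1 := by
      refine hr9.trans (Nat.add_le_add_right (Nat.mul_le_mul_left 2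
        ((Submodule.finrank_mono hfix).trans (Submodule.finrank_mono ?_))) 1)
      have h5 := eigenspace_le_pow (ρ a) 1 (orderOf a / p)
      rwa [one_pow, ← map_pow] at h5
    exact hZ (hao ▸ Subgroup.orderOf_dvd_natCard _
      (mem_center_of_mult IH ρ hρ hp7 hn hG hao h9))
  -- and the Sylow subgroup embeds in the constituent modulo its centre
  have hind := IH _ hmn (C ⧸ K) τ hτ (hτi hU) hUn
  let ψ : (P : Subgroup G) →* (C ⧸ K) ⧸ Subgroup.center (C ⧸ K) :=
    (QuotientGroup.mk' _).comp ((QuotientGroup.mk' K).comp (Subgroup.inclusion hPC))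
  have hψ : Function.Injective ψ := (injective_iff_map_eq_one ψ).2 fun z hz => by
    by_contra hz1
    have hz1' : (z : G) ≠ 1 := fun e => hz1 (Subtype.ext e)
    have hzp : IsPElt p (z : G) := isPElt_of_mem P.isPGroup' z.2
    set zC : C := Subgroup.inclusion hPC z with hzC
    have hzc : (zC : C ⧸ K) ∈ Subgroup.center (C ⧸ K) := (QuotientGroup.eq_one_iff _).1 hz
    have hzCp : IsPElt p zC := by
      obtain ⟨k, hk⟩ := hzp
      exact ⟨k, Subtype.ext hk⟩
    have hcomm : ∀ u : C, IsPElt p u → u * zC = zC * u := fun u hu => by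
      refine inv_mul_eq_one.1 (hsep ((u * zC)⁻¹ * (zC * u)) fun U' => ?_)
      rw [← QuotientGroup.eq, QuotientGroup.mk_mul, QuotientGroup.mk_mul]
      by_cases hne : U'.1 = U
      · obtain ⟨U', hU'⟩ := U'
        obtain rfl : U' = U := hne
        exact Subgroup.mem_center_iff.1 hzc (u : C ⧸ K)
      · exact hother U' hne u zC hu hzCp
    have hRle : R ≤ Subgroup.centralizer ({zC} : Set C) := (Subgroup.closure_le _).2 fun u hu =>
      Subgroup.mem_centralizer_singleton_iff.2 (hcomm u hu)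
    refine hRnn ?_
    let ι : R →* Subgroup.centralizer ({(z : G)} : Set G) :=
      { toFun := fun r => ⟨((r : C) : G), Subgroup.mem_centralizer_singleton_iff.2
          (congrArg Subtype.val (Subgroup.mem_centralizer_singleton_iff.1 (hRle r.2)))⟩
        map_one' := rfl
        map_mul' := fun _ _ => rfl }
    have hι : Function.Injective ι := fun a b h =>
      Subtype.ext (Subtype.ext (congrArg (fun x : Subgroup.centralizer ({(z : G)} : Set G) => (x : G)) h))
    exact PNormal.of_injective hι (pnormal_centralizer_pElt IH ρ hρ hp7 hn hG hZ hzp hz1')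
  refine hind ?_
  rw [Subgroup.index_eq_card]
  exact (P.pow_dvd_card_of_pow_dvd_card hsq).trans
    (((Nat.card_congr (MonoidHom.ofInjective hψ).toEquiv).symm ▸ dvd_rfl :
      Nat.card (P : Subgroup G) ∣ Nat.card ψ.range).trans (Subgroup.card_subgroup_dvd_card _))

/-- A twisted group has Sylow subgroups of order at most `p`. -/
theorem not_sq_dvd_card : ¬ p ^ 2 ∣ Nat.card G := by
  intro hsq
  haveI : Fintype G := Fintype.ofFinite G
  set K : Subgroup G := Subgroup.closure {x : G | IsPElt p x} with hK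
  have hpK : ∀ x : G, IsPElt p x → x ∈ K := fun x hx => Subgroup.subset_closure hx
  haveI hKn : K.Normal := ⟨fun a ha c => by
    have h : K ≤ K.comap (MulAut.conj c).toMonoidHom :=
      (Subgroup.closure_le _).2 fun x hx => hpK _ (hx.conj c)
    exact h ha⟩
  have hKnn : ¬ PNormal p K := fun h => hG (pnormal_of_normal K hpK h)
  obtain ⟨P⟩ : Nonempty (Sylow p G) := inferInstance
  have hPK : (P : Subgroup G) ≤ K := fun x hx => hpK x (isPElt_of_mem P.isPGroup' hx)
  set PK : Sylow p K := P.subtype hPK with hPKd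
  have hmemK : ∀ x : K, x ∈ (PK : Subgroup K) ↔ (x : G) ∈ (P : Subgroup G) := fun x => by
    rw [hPKd, Sylow.coe_subtype, Subgroup.mem_subgroupOf]
  let σ : Representation ℂ K (Fin n → ℂ) := MonoidHom.comp ρ K.subtype
  have hσ : Function.Injective σ := hρ.comp K.subtype_injective
  haveI : Fintype K := Fintype.ofFinite K
  haveI : Fintype (PK : Subgroup K) := Fintype.ofFinite _
  have hH2 : p ^ 2 ∣ Nat.card (PK : Subgroup K) := by
    rw [hPKd, Sylow.coe_subtype, Nat.card_congr (Subgroup.subgroupOfEquivOfLe hPK).toEquiv]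
    exact P.pow_dvd_card_of_pow_dvd_card hsq
  have hab : ∀ a ∈ (PK : Subgroup K), ∀ b ∈ (PK : Subgroup K), a * b = b * a :=
    Char.Blich.comm_of_small σ hσ (by omega) _ PK.isPGroup'
  have hpe : ∀ x : K, IsPElt p (x : G) → IsPElt p x := fun x ⟨k, hk⟩ => ⟨k, Subtype.ext hk⟩
  have hZ' : (PK : Subgroup K) ⊓ Subgroup.center K = ⊥ := by
    refine (Subgroup.eq_bot_iff_forall _).2 fun z hz => by_contra fun hz1 => hKnn ?_
    have hz1' : (z : G) ≠ 1 := fun e => hz1 (Subtype.ext e)
    have hle : K ≤ Subgroup.centralizer ({(z : G)} : Set G) := fun x hx =>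
      Subgroup.mem_centralizer_singleton_iff.2
        (congrArg Subtype.val (Subgroup.mem_center_iff.1 hz.2 ⟨x, hx⟩))
    exact PNormal.of_injective (Subgroup.inclusion_injective hle)
      (pnormal_centralizer_pElt IH ρ hρ hp7 hn hG hZ
        (isPElt_of_mem P.isPGroup' ((hmemK z).1 hz.1)) hz1')
  have hone : ∀ g : K, g ∉ Subgroup.center K → ∀ a b : K,
      Subgroup.centralizer ({g} : Set K) ⊓ (PK : Subgroup K).map (MulAut.conj a).toMonoidHom ≠ ⊥ →
      Subgroup.centralizer ({g} : Set K) ⊓ (PK : Subgroup K).map (MulAut.conj b).toMonoidHom ≠ ⊥ →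
      (PK : Subgroup K).map (MulAut.conj a).toMonoidHom =
        (PK : Subgroup K).map (MulAut.conj b).toMonoidHom := by
    intro g hg a b ha hb
    have hgG : (g : G) ∉ Subgroup.center G := fun h => hg (Subgroup.mem_center_iff.2 fun x =>
      Subtype.ext (Subgroup.mem_center_iff.1 h x))
    -- the conjugates as Sylow subgroups of the whole group
    have hconv : ∀ c : K, ∀ x : G, x ∈ ((((c : G) • P : Sylow p G)) : Subgroup G) ↔
        ∃ h : K, h ∈ (PK : Subgroup K) ∧ ((c * h * c⁻¹ : K) : G) = x := by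
      intro c x
      rw [Sylow.coe_subgroup_smul, Subgroup.mem_smul_pointwise_iff_exists]
      constructor
      · rintro ⟨w, hw, rfl⟩
        exact ⟨⟨w, hPK hw⟩, (hmemK _).2 hw, by simp [MulAut.smul_def, MulAut.conj_apply]⟩
      · rintro ⟨h, hh, rfl⟩
        exact ⟨(h : G), (hmemK h).1 hh, by simp [MulAut.smul_def, MulAut.conj_apply]⟩
    have hwit : ∀ c : K, Subgroup.centralizer ({g} : Set K) ⊓
        (PK : Subgroup K).map (MulAut.conj c).toMonoidHom ≠ ⊥ →
        ∃ s ∈ ((((c : G) • P : Sylow p G)) : Subgroup G), s ≠ 1 ∧ Commute (g : G) s := by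
      intro c hc
      obtain ⟨s, hs, hs1⟩ := (Subgroup.bot_or_exists_ne_one _).resolve_left hc
      obtain ⟨h, hh, rfl⟩ := hs.2
      exact ⟨_, (hconv c _).2 ⟨h, hh, rfl⟩, fun e => hs1 (Subtype.ext e),
        congrArg Subtype.val (Subgroup.mem_centralizer_singleton_iff.1 hs.1).symm⟩
    obtain ⟨s, hs, hs1, hgs⟩ := hwit a ha
    obtain ⟨t, ht, ht1, hgt⟩ := hwit b hb
    set Pa : Sylow p G := (a : G) • P
    set Pb : Sylow p G := (b : G) • P
    have hN := pnormal_centralizer IH ρ hρ hp7 hn hG hZ hsq hgG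
      (isPElt_of_mem Pa.isPGroup' hs) hs1 hgs
    have hst : Commute t s := by
      obtain ⟨ks, hks⟩ := isPElt_of_mem Pa.isPGroup' hs
      obtain ⟨kt, hkt⟩ := isPElt_of_mem Pb.isPGroup' ht
      exact congrArg Subtype.val (commute_of_pElt hN
        (MonoidHom.comp ρ (Subgroup.centralizer ({(g : G)} : Set G)).subtype)
        (hρ.comp (Subgroup.centralizer ({(g : G)} : Set G)).subtype_injective) (by omega)
        (a := ⟨t, Subgroup.mem_centralizer_singleton_iff.2 hgt.eq.symm⟩)
        (b := ⟨s, Subgroup.mem_centralizer_singleton_iff.2 hgs.eq.symm⟩)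
        ⟨kt, Subtype.ext hkt⟩ ⟨ks, Subtype.ext hks⟩)
    have htA : t ∈ (Pa : Subgroup G) :=
      mem_sylow_of_commute IH ρ hρ hp7 hn hG hZ Pa hs hs1 (isPElt_of_mem Pb.isPGroup' ht) hst
    have hle : (Pb : Subgroup G) ≤ (Pa : Subgroup G) := fun x hx =>
      mem_sylow_of_commute IH ρ hρ hp7 hn hG hZ Pa htA ht1 (isPElt_of_mem Pb.isPGroup' hx)
        (Char.Blich.comm_of_small ρ hρ (by omega) _ Pb.isPGroup' x hx t ht)
    have heq : (Pa : Subgroup G) = Pb := Pb.is_maximal' Pa.isPGroup' hle
    have hto : ∀ c : K, ∀ z : K, z ∈ (PK : Subgroup K).map (MulAut.conj c).toMonoidHom ↔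
        (z : G) ∈ ((((c : G) • P : Sylow p G)) : Subgroup G) := by
      intro c z
      rw [hconv]
      constructor
      · rintro ⟨h, hh, rfl⟩; exact ⟨h, hh, rfl⟩
      · rintro ⟨h, hh, e⟩; exact ⟨h, hh, Subtype.ext e⟩
    ext z
    rw [hto, hto]
    show (z : G) ∈ (Pa : Subgroup G) ↔ (z : G) ∈ (Pb : Subgroup G)
    rw [heq]
  have hnormal : ∀ M : Subgroup K, M.Normal → (PK : Subgroup K) ≤ M → M = ⊤ := by
    intro M hM hle
    have hp' : ∀ x : K, IsPElt p x → x ∈ M := fun x hx => by
      obtain ⟨Q, hQ⟩ := hx.isPGroup_zpowers.exists_le_sylow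
      obtain ⟨c, rfl⟩ := MulAction.exists_smul_eq K PK Q
      have h1 := hQ (Subgroup.mem_zpowers x)
      rw [Sylow.coe_subgroup_smul, Subgroup.mem_smul_pointwise_iff_exists] at h1
      obtain ⟨w, hw, rfl⟩ := h1
      rw [MulAut.smul_def, MulAut.conj_apply]
      exact hM.conj_mem w (hle hw) c
    refine eq_top_iff.2 fun x _ => ?_
    have hle' : K ≤ M.map K.subtype := (Subgroup.closure_le _).2 fun w hw =>
      ⟨⟨w, hpK w hw⟩, hp' _ (hpe _ hw), rfl⟩
    obtain ⟨w, hw, e⟩ := hle' x.2
    rwa [show w = x from Subtype.ext e] at hw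
  -- a non-linear constituent
  obtain ⟨m, hm⟩ := IsCharacter.exists_decomp (χ := σ.character) ⟨n, σ, rfl⟩
  obtain ⟨ψ, hψ, hψ1⟩ : ∃ ψ : IrrCharacter K, m ψ ≠ 0 ∧ (ψ : K → ℂ) 1 ≠ 1 := by
    by_contra h
    push Not at h
    exact hKnn (pnormal_of_comm fun a b => hσ (Char.Blich.comm_of_linear σ m hm h a b))
  obtain ⟨d, -, hd⟩ := IsIrrCharacter.exists_degree ψ.2
  have hdn : d ≤ n := by
    refine degree_le_of_constituent (α := σ.character) ⟨n, σ, rfl⟩ ψ.2 ?_ ?_ hd
    · rw [hm, classInner_combination]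
      exact Nat.cast_ne_zero.mpr hψ
    · rw [Representation.char_one, Module.finrank_fin_fun]
  have h := FTBound.bound_two (PK : Subgroup K) hab hZ' hone ψ.2 hd
    (fun h => hψ1 (by rw [hd, h, Nat.cast_one])) hnormal
  have h2 : (Nat.card (PK : Subgroup K) : ℝ) < ((1 + d) ^ 2 : ℕ) := by push_cast; exact h
  have h3 : Nat.card (PK : Subgroup K) < (1 + d) ^ 2 := by exact_mod_cast h2
  have h4 := Nat.le_of_dvd Nat.card_pos hH2
  have h5 : (1 + d) ^ 2 ≤ p ^ 2 := Nat.pow_le_pow_left (by omega) 2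
  omega

end Twisted

/-- In degree less than `p - 1` the Sylow subgroup has order `p` modulo the centre, unless it is
normal. -/
theorem sqBound (hp7 : 7 ≤ p) : ∀ n, n + 1 < p → SqBound.{u} p n := by
  intro n
  induction n using Nat.strong_induction_on with
  | _ n ih =>
  intro hn G _ _ ρ hρ hirr hG
  haveI := hirr
  have hnp : ¬ p ∣ n := fun h => by
    rcases Nat.eq_zero_or_pos n with rfl | h0
    · haveI := Char.nontrivial_of_irreducible ρ
      obtain ⟨v, hv⟩ := exists_ne (0 : Fin 0 → ℂ)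
      exact hv (Subsingleton.elim _ _)
    · have := Nat.le_of_dvd h0 h
      omega
  obtain ⟨N, hN, τ, hτ, hτi, hτn, hτZ, hind⟩ := exists_twist ρ hρ hnp hG
  haveI := hτi
  intro h
  have h1 := not_sq_dvd_card (fun m hm => ih m hm (by omega)) τ hτ hp7 hn hτn hτZ
  exact h1 ((hind ▸ h).trans (Subgroup.index_dvd_card _))

end Cfsg.Agent.Feit
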