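import Cfsg.Agent.Lib.Feit.Form
import Cfsg.Agent.Lib.Feit.Budget
import Cfsg.Agent.Lib.Feit.Count

/-!
The products of two exceptional characters: one integer bounds all the numbers `R e r c` from the
side given by the sign of the block, and the fixed space bounds it from the other side.
-/

set_option autoImplicit false
set_option linter.unusedSectionVars false
set_option linter.style.haveILetI false

namespace Cfsg.Agent.Feit

open Cfsg Cfsg.Agent.Char Cfsg.Agent.Blocks Cfsg.Agent.CCSylow Cfsg.Agent.DefOne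
open Cfsg.Agent.DegreePTwo
open Cfsg.Agent.SmallDeg16 (mult Cen Coord HasMult Fam lin_norm mult_eq hasMult_irr)
open scoped ComplexConjugate

universe u

variable {G : Type u} [Group G] [Fintype G] {p : ℕ}

theorem aJ_eq [Fact p.Prime] (e : ℕ) (r i : ZMod p) :
    aJ p e r i = 1 - if i * r⁻¹ ∈ roots e then 1 else 0 := by
  rw [aJ]
  by_cases h : (i * r⁻¹) ^ e = 1
  · rw [if_pos h, if_pos (mem_roots.2 h), sub_self]
  · rw [if_neg h, if_neg fun h' => h (mem_roots.1 h'), sub_zero]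

theorem aJ_zero [NeZero p] [Fact p.Prime] {e : ℕ} (he : 0 < e) (r : ZMod p) : aJ p e r 0 = 1 := by
  rw [aJ, zero_mul, zero_pow he.ne', if_neg zero_ne_one]

theorem card_shift [Fact p.Prime] {t e : ℕ} (hp : p = t * e + 1) {r : ZMod p} (hr : r ≠ 0) (c : ZMod p) :
    (Finset.univ.filter fun i : ZMod p => (c - i) * r⁻¹ ∈ roots e).card = e := by
  refine (Finset.card_bij (fun i _ => (c - i) * r⁻¹) (fun i hi => (Finset.mem_filter.1 hi).2)
    (fun a _ b _ h => sub_right_injective (mul_right_cancel₀ (inv_ne_zero hr) h)) fun k hk => ?_).trans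
    (card_roots hp)
  have h1 : (c - (c - r * k)) * r⁻¹ = k := by field_simp; ring
  exact ⟨c - r * k, Finset.mem_filter.2 ⟨Finset.mem_univ _, by rwa [h1]⟩, h1⟩

/-- The restriction to `P` of a product of two exceptional characters. -/
theorem conv_aJ [Fact p.Prime] {t e : ℕ} (hp : p = t * e + 1) {r : ZMod p} (hr : r ≠ 0) (c : ZMod p) :
    ∑ i, aJ p e 1 i * aJ p e r (c - i) = (p : ℤ) - 2 * e + R e r c := by
  rw [Finset.sum_congr rfl (g := fun i : ZMod p =>
    (1 : ℤ) - (if i ∈ roots e then 1 else 0) - (if (c - i) * r⁻¹ ∈ roots e then 1 else 0) +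
      (if i ∈ roots e ∧ (c - i) * r⁻¹ ∈ roots e then 1 else 0)) (fun i _ => by
      rw [aJ_eq, aJ_eq, inv_one, mul_one]
      by_cases h1 : i ∈ roots e <;> by_cases h2 : (c - i) * r⁻¹ ∈ roots e <;> simp [h1, h2]),
    Finset.sum_add_distrib, Finset.sum_sub_distrib, Finset.sum_sub_distrib, Finset.sum_boole,
    Finset.sum_boole, Finset.sum_boole, Finset.sum_const, Finset.card_univ, ZMod.card, nsmul_eq_mul,
    mul_one, ← Finset.filter_filter, Finset.filter_mem_eq_inter, Finset.univ_inter]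
  have h : ((roots (p := p) e).filter fun i => (c - i) * r⁻¹ ∈ roots e).card = R e r c := by
    refine Finset.card_bij (fun i _ => (i, (c - i) * r⁻¹)) (fun i hi => ?_)
      (fun a _ b _ h => (Prod.mk.inj h).1) fun q hq => ?_
    · simp only [Finset.mem_filter] at hi
      simp only [Finset.mem_filter, Finset.mem_product]
      exact ⟨hi, by field_simp; ring⟩
    · simp only [Finset.mem_filter, Finset.mem_product] at hq
      have h1 : (c - q.1) * r⁻¹ = q.2 := by rw [← hq.2]; field_simp; ring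
      exact ⟨q.1, Finset.mem_filter.2 ⟨hq.1.1, by rw [h1]; exact hq.1.2⟩, Prod.ext rfl h1⟩
  rw [card_shift hp hr c, card_roots hp, h]
  ring

/-- The complex conjugate. -/
theorem hasMult_conj [NeZero p] {P : Subgroup G} {C : Coord p P} {f : G → ℂ} {a b : ZMod p → ℤ}
    (h : HasMult C f a) (hab : ∀ i, a (-i) = b i) : HasMult C (fun g => conj (f g)) b := fun i => by
  show conj (f _) = _
  rw [h i, map_sum, ← Equiv.sum_comp (Equiv.neg (ZMod p))]
  refine Finset.sum_congr rfl fun j _ => ?_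
  rw [Equiv.neg_apply, map_mul, map_intCast, ← AddChar.map_neg_eq_conj, mul_neg, neg_neg, hab]

variable {P V N : Subgroup G} {e : ℕ} (K : Conf p P V N e)
  [Fintype P] [Fintype V] [Fintype N] [Fintype (P →* ℂˣ)] {M : Ideal AlgInt} [M.IsPrime]

include K

/-- The exceptional characters of a block contain one linear character of `N`. -/
theorem shared_ext [NeZero p] {μ : IrrCharacter V} {X Y : Finset (IrrCharacter G)} {δ : ℤ}
    {sg : IrrCharacter G → ℤ} (F : Fam K (M := M) μ X Y δ sg) (C : Coord p P) {ν : N →* ℂˣ}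
    (hν : IsExt (P := P) ν μ) (hno : ∀ χ : IrrCharacter G, charDegree (χ : G → ℂ) ≠ e) :
    ∃ ε : N →* ℂˣ, IsExt (P := P) ε μ ∧ ∀ θ ∈ Y, 1 ≤ fixd (θ : G → ℂ) ε := by
  classical
  have he := CCSylow.e_pos K.D
  obtain ⟨θ, hθ⟩ := F.fam.nonempty
  have hcen : ∀ η ∈ Y, Cen V (η : G → ℂ) μ := fun η hη => F.cen_of_inR (F.inR_Y hη)
  have hdeg : ∀ η ∈ Y, (charDegree (η : G → ℂ) : ℤ) =
      (p : ℤ) * (nco K.D (IsIrrCharacter.isCharacter η.2) 1 μ : ℤ) - δ * e := fun η hη => by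
    have h := (hasMult_irr K C η F.lin F.hV (hcen η hη)).degree
    rw [irr_one_eq_charDegree] at h
    have h' : (charDegree (η : G → ℂ) : ℤ) =
        ∑ i : ZMod p, (nco K.D (IsIrrCharacter.isCharacter η.2) (C.lam i) μ : ℤ) := by exact_mod_cast h
    rw [h', Finset.sum_congr rfl (g := fun i => (nco K.D (IsIrrCharacter.isCharacter η.2) 1 μ : ℤ) -
      acoef K η μ (C.lam i)) (fun i _ => by simp only [acoef]; ring), Finset.sum_sub_distrib,
      Finset.sum_const, Finset.card_univ, ZMod.card, nsmul_eq_mul,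
      (SmallDeg16.lam_bijective K C).sum_comp (fun m => acoef K η μ m), F.fam.sumY η hη]
  have hk : 1 ≤ nco K.D (IsIrrCharacter.isCharacter θ.2) 1 μ := by
    by_contra h
    have h1 := hdeg θ hθ
    rw [show nco K.D (IsIrrCharacter.isCharacter θ.2) 1 μ = 0 by omega, Nat.cast_zero, mul_zero,
      zero_sub] at h1
    rcases F.fam.sign with hd | hd <;> rw [hd] at h1
    · omega
    · exact hno θ (by omega)
  have hm := hasMult_irr K C θ F.lin F.hV (hcen θ hθ)
  obtain ⟨ε, hε, hpos⟩ := exists_fixd_pos K F.hV F.lin (IsIrrCharacter.isCharacter θ.2) (hcen θ hθ)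
    hm (by rw [C.lam_zero]; exact_mod_cast hk) hν
  refine ⟨ε, hε, fun η hη => ?_⟩
  have hk' : nco K.D (IsIrrCharacter.isCharacter η.2) 1 μ =
      nco K.D (IsIrrCharacter.isCharacter θ.2) 1 μ := by
    have h1 := hdeg η hη
    rw [F.deg_Y_eq hη hθ, hdeg θ hθ] at h1
    have h2 : (p : ℤ) * (nco K.D (IsIrrCharacter.isCharacter θ.2) 1 μ : ℤ) =
        (p : ℤ) * (nco K.D (IsIrrCharacter.isCharacter η.2) 1 μ : ℤ) := by linarith
    exact_mod_cast (mul_left_cancel₀ (Nat.cast_ne_zero.2 K.hp.ne_zero) h2).symm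
  have hinn : inn (η : G → ℂ) ε = inn (θ : G → ℂ) ε := by
    refine mul_left_cancel₀ (mul_ne_zero (Nat.cast_ne_zero.2 he.ne')
      (mul_ne_zero (Nat.cast_ne_zero.2 K.hp.ne_zero) (Nat.cast_ne_zero.2 (Nat.card_pos (α := V)).ne'))) ?_
    rw [inn_split K F.hV F.lin (hcen η hη) (hasMult_irr K C η F.lin F.hV (hcen η hη)) hε,
      inn_split K F.hV F.lin (hcen θ hθ) hm hε, C.lam_zero, hk']
    congr 1
    refine Finset.sum_congr rfl fun n hn => ?_
    rw [Families.agree K F.fam hη hθ (regular_of_out K (Finset.mem_filter.1 hn).2)]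
  rw [inn_eq_fixd (IsIrrCharacter.isCharacter η.2), inn_eq_fixd (IsIrrCharacter.isCharacter θ.2),
    Nat.cast_inj] at hinn
  rw [hinn]
  exact hpos

open scoped Classical in
/-- The block of the products. -/
theorem block_bound [NeZero p] [Fact p.Prime] {t : ℕ} (hp : p = t * e + 1) (he : 3 ≤ e) (ht : 2 ≤ t)
    {μ : IrrCharacter V} {X Y : Finset (IrrCharacter G)} {δ : ℤ}
    {sg : IrrCharacter G → ℤ} (F : Fam K (M := M) μ X Y δ sg) (C : Coord p P) {ν : N →* ℂˣ}
    (hν : IsExt (P := P) ν μ) {ε : N →* ℂˣ} (hε : IsExt (P := P) ε μ)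
    (hY : ∀ θ ∈ Y, 1 ≤ fixd (θ : G → ℂ) ε)
    (f : ZMod p → G → ℂ) (hf : ∀ r, r ≠ 0 → IsCharacter G (f r)) (hc : ∀ r, r ≠ 0 → Cen V (f r) μ)
    (ha : ∀ r, r ≠ 0 → HasMult C (f r) fun c => (p : ℤ) - 2 * e + R e r c)
    (hout : ∀ r, r ≠ 0 → ∀ n : N, (n : G) ∉ Subgroup.centralizer (P : Set G) → f r n = (ν n : ℂ))
    (hreg : ∀ r, r ≠ 0 → ∀ r', r' ≠ 0 → ∀ g : G, ¬ p ∣ orderOf g → f r g = f r' g) :
    ∃ m : ℤ, ∀ r : ZMod p, r ≠ 0 →
      (fixd (f r) ε : ℤ) = (t : ℤ) - 2 + (if -r ∈ roots e then 1 else 0) + (if ε = ν then 1 else 0) ∧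
      δ * ((∑ θ ∈ Y, mult (f r) θ : ℕ) : ℤ) = t * m - e + (if -r ∈ roots e then 1 else 0) ∧
      ∀ c : ZMod p, c ≠ 0 → ∃ w : ℕ, (R e r c : ℤ) = m - δ * w := by
  set i : ZMod p → ℤ := fun r => if -r ∈ roots e then 1 else 0 with hi
  set S : ZMod p → ℤ := fun r => ∑ χ ∈ X, (mult (f r) χ : ℤ) * sg χ with hS
  set T : ZMod p → ℕ := fun r => ∑ θ ∈ Y, mult (f r) θ with hT
  have hi01 : ∀ r, i r = 0 ∨ i r = 1 := fun r => by simp only [hi]; split_ifs <;> simp
  have hR0 : ∀ r : ZMod p, r ≠ 0 → (R e r 0 : ℤ) = e * i r := fun r hr => by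
    simp only [hi, R_zero hp hr]; split_ifs <;> simp
  have hfix : ∀ r : ZMod p, r ≠ 0 →
      (fixd (f r) ε : ℤ) = (t : ℤ) - 2 + i r + (if ε = ν then 1 else 0) := fun r hr => by
    have h := inn_of_out K F.hV F.lin (hc r hr) (ha r hr) hν hε 1
      (fun n hn => by rw [one_mul, hout r hr n hn])
    rw [inn_eq_fixd (hf r hr)] at h
    have h' : (e : ℤ) * fixd (f r) ε =
        (p : ℤ) - 2 * e + R e r 0 + ((if ε = ν then (e : ℤ) else 0) - 1) := by
      have h2 : (((e : ℤ) * fixd (f r) ε : ℤ) : ℂ) =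
          (((p : ℤ) - 2 * e + R e r 0 + ((if ε = ν then (e : ℤ) else 0) - 1) : ℤ) : ℂ) := by
        push_cast at h ⊢
        rw [h, one_mul]
      exact_mod_cast h2
    refine mul_left_cancel₀ (show (e : ℤ) ≠ 0 by omega) ?_
    rw [h', hR0 r hr, hp]
    push_cast
    split_ifs <;> ring
  have hTt : ∀ r : ZMod p, r ≠ 0 → T r ≤ t := fun r hr => by
    have h1 : T r ≤ fixd (f r) ε := budget' K hY (hf r hr)
    have h2 := hfix r hr
    rcases hi01 r with h | h <;> rw [h] at h2 <;> split_ifs at h2 <;> omega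
  have htot : ∀ r : ZMod p, r ≠ 0 →
      δ * (T r : ℤ) = (t : ℤ) * (e * i r - S r) - e + i r := fun r hr => by
    have hsum : (∑ c : ZMod p, ((p : ℤ) - 2 * e + R e r c)) =
        (p : ℤ) * ((p : ℤ) - 2 * e) + (e : ℤ) ^ 2 := by
      rw [Finset.sum_add_distrib, Finset.sum_const, Finset.card_univ, ZMod.card, nsmul_eq_mul,
        sum_R hp]
    obtain ⟨D, hD⟩ := IsCharacter.exists_degree (hf r hr)
    have hdeg : (D : ℤ) = (p : ℤ) * ((p : ℤ) - 2 * e) + (e : ℤ) ^ 2 := by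
      have h := (ha r hr).degree
      rw [hD, hsum] at h
      exact_mod_cast h
    have h := F.mult_total C (hf r hr) (hc r hr) (ha r hr) hD
    rw [hR0 r hr, hdeg, ← Nat.cast_sum] at h
    refine mul_left_cancel₀ (show (e : ℤ) ≠ 0 by omega) ?_
    have hp' : (p : ℤ) = t * e + 1 := by exact_mod_cast hp
    rw [hp'] at h
    simp only [hT, hS]
    linear_combination -h
  have hr1 : (1 : ZMod p) ≠ 0 := one_ne_zero
  refine ⟨e * i 1 - S 1, fun r hr => ?_⟩
  have hm : (e : ℤ) * i r - S r = e * i 1 - S 1 := by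
    obtain ⟨k, hk⟩ := F.agree_X (hf 1 hr1) (hc 1 hr1) (hf r hr) (hreg r hr 1 hr1)
    have hS' : S r = S 1 + k * e := by
      simp only [hS]
      rw [Finset.sum_congr rfl fun χ hχ => by rw [hk χ hχ, add_mul, mul_assoc k, F.sg_sq hχ, mul_one],
        Finset.sum_add_distrib, Finset.sum_const, F.fam.cardX, nsmul_eq_mul, mul_comm k]
    have h1 := htot r hr
    have h2 := htot 1 hr1
    have hT1 := hTt r hr
    have hT2 := hTt 1 hr1
    set z : ℤ := i r - i 1 - k with hz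
    have hdiff : (t : ℤ) * ((e : ℤ) * z) = δ * ((T r : ℤ) - T 1) - (i r - i 1) := by
      rw [hS'] at h1
      linear_combination h2 - h1
    have hz0 : z = 0 := by
      by_contra hne
      have hbig : (t : ℤ) * e ≤ |(t : ℤ) * ((e : ℤ) * z)| := by
        rw [← mul_assoc, abs_mul, abs_of_nonneg (show (0 : ℤ) ≤ t * e by positivity)]
        exact le_mul_of_one_le_right (by positivity) (Int.one_le_abs hne)
      have hsmall : |(t : ℤ) * ((e : ℤ) * z)| ≤ t + 1 := by
        rw [hdiff, abs_le]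
        rcases F.fam.sign with hd | hd <;> rw [hd] <;> rcases hi01 r with ha | ha <;>
          rcases hi01 1 with hb | hb <;> rw [ha, hb] <;> constructor <;> omega
      have : (t : ℤ) * 3 ≤ t * e := mul_le_mul_of_nonneg_left (by omega) (by omega)
      omega
    rw [hS']
    linear_combination (e : ℤ) * hz0
  refine ⟨hfix r hr, ?_, fun c hc' => ?_⟩
  · rw [← hm]
    exact htot r hr
  · refine ⟨F.wY C (f r) c, ?_⟩
    have h := F.mult_eqn C (hf r hr) (hc r hr) (ha r hr) hc'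
    rw [hR0 r hr] at h
    rw [← hm]
    simp only [hS]
    linarith

omit [M.IsPrime] in
/-- The extension carried by `ζ`. -/
theorem Exc.exists_nu [NeZero p] [Fact p.Prime] {ζ : IrrCharacter G} {b : IrrCharacter V} {C : Coord p P}
    (L : Exc K ζ b C) : ∃ ν : N →* ℂˣ, IsExt (P := P) ν b ∧
      ∀ n : N, (n : G) ∉ Subgroup.centralizer (P : Set G) → (ζ : G → ℂ) n = (ν n : ℂ) :=
  Feit.exists_nu K L.lin L.cen L.mz (aJ_zero (CCSylow.e_pos K.D) 1)

omit [M.IsPrime] in
/-- The products in the block of the square of the central character. -/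
theorem Exc.exists_sq [NeZero p] [Fact p.Prime] {t : ℕ} (hp : p = t * e + 1) {ζ : IrrCharacter G}
    {b : IrrCharacter V} {C : Coord p P} (L : Exc K ζ b C) {ν : N →* ℂˣ}
    (hout : ∀ n : N, (n : G) ∉ Subgroup.centralizer (P : Set G) → (ζ : G → ℂ) n = (ν n : ℂ))
    {μ : IrrCharacter V} (hμ : ∀ v : V, (μ : V → ℂ) v = (b : V → ℂ) v * (b : V → ℂ) v) :
    ∃ f : ZMod p → G → ℂ, (∀ r, r ≠ 0 → IsCharacter G (f r)) ∧ (∀ r, r ≠ 0 → Cen V (f r) μ) ∧
      (∀ r, r ≠ 0 → HasMult C (f r) fun c => (p : ℤ) - 2 * e + R e r c) ∧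
      (∀ r, r ≠ 0 → ∀ n : N, (n : G) ∉ Subgroup.centralizer (P : Set G) →
        f r n = ((ν * ν : N →* ℂˣ) n : ℂ)) ∧
      (∀ r, r ≠ 0 → ∀ r', r' ≠ 0 → ∀ g : G, ¬ p ∣ orderOf g → f r g = f r' g) := by
  classical
  choose η hcen hag hm using L.fibre
  refine ⟨fun r g => if hr : r = 0 then 0 else (ζ : G → ℂ) g * (η r hr : G → ℂ) g,
    fun r hr => ?_, fun r hr => ?_, fun r hr => ?_, fun r hr n hn => ?_, fun r hr r' hr' g hg => ?_⟩
  · simp only [dif_neg hr]
    exact IsCharacter.mul (IsIrrCharacter.isCharacter ζ.2) (IsIrrCharacter.isCharacter (η r hr).2)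
  · intro v g
    simp only [dif_neg hr]
    rw [L.cen, hcen r hr, hμ]
    ring
  · simp only [dif_neg hr]
    exact (L.mz.mul (hm r hr)).congr fun c => conv_aJ hp hr c
  · simp only [dif_neg hr]
    rw [hag r hr _ (regular_of_out K hn), hout n hn, MonoidHom.mul_apply, Units.val_mul]
  · simp only [dif_neg hr, dif_neg hr']
    rw [hag r hr g hg, hag r' hr' g hg]

omit [M.IsPrime] in
/-- The products in the principal block. -/
theorem Exc.exists_one [NeZero p] [Fact p.Prime] {t : ℕ} (hp : p = t * e + 1) {ζ : IrrCharacter G}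
    {b : IrrCharacter V} {C : Coord p P} (L : Exc K ζ b C) {ν : N →* ℂˣ}
    (hout : ∀ n : N, (n : G) ∉ Subgroup.centralizer (P : Set G) → (ζ : G → ℂ) n = (ν n : ℂ))
    {μ : IrrCharacter V} (hμ : ∀ v : V, (μ : V → ℂ) v = 1) :
    ∃ f : ZMod p → G → ℂ, (∀ r, r ≠ 0 → IsCharacter G (f r)) ∧ (∀ r, r ≠ 0 → Cen V (f r) μ) ∧
      (∀ r, r ≠ 0 → HasMult C (f r) fun c => (p : ℤ) - 2 * e + R e r c) ∧
      (∀ r, r ≠ 0 → ∀ n : N, (n : G) ∉ Subgroup.centralizer (P : Set G) →
        f r n = ((1 : N →* ℂˣ) n : ℂ)) ∧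
      (∀ r, r ≠ 0 → ∀ r', r' ≠ 0 → ∀ g : G, ¬ p ∣ orderOf g → f r g = f r' g) ∧
      ∀ r, r ≠ 0 → -r ∈ roots e → 1 ≤ mult (f r) (principal G) := by
  classical
  have key : ∀ r : ZMod p, r ≠ 0 → ∃ η : IrrCharacter G, Cen V (η : G → ℂ) b ∧
      (∀ g : G, ¬ p ∣ orderOf g → (η : G → ℂ) g = (ζ : G → ℂ) g) ∧
      HasMult C (fun g => conj ((η : G → ℂ) g)) (aJ p e r) ∧ (-r ∈ roots e → η = ζ) := by
    intro r hr
    by_cases h : -r ∈ roots e
    · refine ⟨ζ, L.cen, fun g _ => rfl, hasMult_conj L.mz fun i => ?_, fun _ => rfl⟩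
      have hiff : ((-i) * (1 : ZMod p)⁻¹) ^ e = 1 ↔ (i * r⁻¹) ^ e = 1 := by
        rw [inv_one, mul_one, ← show (-i) * (-r)⁻¹ = i * r⁻¹ by rw [inv_neg, neg_mul_neg], mul_pow,
          inv_pow, mem_roots.1 h, inv_one, mul_one]
      simp only [aJ]
      by_cases h1 : (i * r⁻¹) ^ e = 1
      · rw [if_pos h1, if_pos (hiff.2 h1)]
      · rw [if_neg h1, if_neg fun h2 => h1 (hiff.1 h2)]
    · obtain ⟨η, h1, h2, h3⟩ := L.fibre (-r) (neg_ne_zero.2 hr)
      refine ⟨η, h1, h2, hasMult_conj h3 fun i => ?_, fun h' => absurd h' h⟩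
      rw [aJ, aJ, inv_neg, neg_mul_neg]
  choose η hcen hag hm heq using key
  refine ⟨fun r g => if hr : r = 0 then 0 else (ζ : G → ℂ) g * conj ((η r hr : G → ℂ) g),
    fun r hr => ?_, fun r hr => ?_, fun r hr => ?_, fun r hr n hn => ?_, fun r hr r' hr' g hg => ?_,
    fun r hr hneg => ?_⟩
  · simp only [dif_neg hr]
    exact IsCharacter.mul (IsIrrCharacter.isCharacter ζ.2)
      (IsCharacter.conj (IsIrrCharacter.isCharacter (η r hr).2))
  · intro v g
    simp only [dif_neg hr]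
    rw [L.cen, hcen r hr, map_mul, hμ]
    linear_combination ((ζ : G → ℂ) g * conj ((η r hr : G → ℂ) g)) * lin_norm L.lin v
  · simp only [dif_neg hr]
    exact (L.mz.mul (hm r hr)).congr fun c => conv_aJ hp hr c
  · simp only [dif_neg hr]
    rw [hag r hr _ (regular_of_out K hn), hout n hn, norm_hom ν n, MonoidHom.one_apply, Units.val_one]
  · simp only [dif_neg hr, dif_neg hr']
    rw [hag r hr g hg, hag r' hr' g hg]
  · have h1 : classInner (fun g => (ζ : G → ℂ) g * conj ((ζ : G → ℂ) g)) (principal G : G → ℂ) = 1 := by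
      rw [← classInner_self_irr ζ.2]
      simp only [classInner, SmallDeg16.principal_apply, map_one, mul_one]
    have h2 := mult_eq (IsCharacter.mul (IsIrrCharacter.isCharacter ζ.2)
      (IsCharacter.conj (IsIrrCharacter.isCharacter ζ.2))) (principal G)
    simp only [dif_neg hr, heq r hr hneg]
    have h3 : (mult (fun g => (ζ : G → ℂ) g * conj ((ζ : G → ℂ) g)) (principal G) : ℂ) = 1 :=
      h2.symm.trans h1
    have h4 : mult (fun g => (ζ : G → ℂ) g * conj ((ζ : G → ℂ) g)) (principal G) = 1 := by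
      exact_mod_cast h3
    omega

end Cfsg.Agent.Feit
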