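import Cfsg.Agent.Lib.Feit.Arc
import Cfsg.Agent.Lib.Feit.Two
import Mathlib.Analysis.Real.Pi.Bounds

/-!
Degree three at the prime five: elements of order five have three eigenvalues and the Sylow subgroup
has order five modulo the centre.
-/

set_option autoImplicit false
set_option linter.unusedSectionVars false
set_option linter.style.haveILetI false

namespace Cfsg.Agent.Feit

open Cfsg Module SmallDim SmallDeg16
open scoped commutatorElement

universe u

/-- The determinant of a diagonalisable map of the plane with an eigenvalue. -/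
theorem det_two {f : Module.End ℂ (Fin 2 → ℂ)} (hf : ⨆ μ : ℂ, f.eigenspace μ = ⊤) {μ : ℂ}
    {v : Fin 2 → ℂ} (hv0 : v ≠ 0) (hv : f v = μ • v) (hne : f ≠ μ • LinearMap.id) :
    ∃ (ν : ℂ) (w : Fin 2 → ℂ), w ≠ 0 ∧ f w = ν • w ∧ ν ≠ μ ∧ LinearMap.det f = μ * ν := by
  obtain ⟨ν, hν, hνμ⟩ : ∃ ν, f.eigenspace ν ≠ ⊥ ∧ ν ≠ μ := by
    by_contra h
    push Not at h
    refine hne ?_
    have hle : ⨆ l : ℂ, f.eigenspace l ≤ LinearMap.ker (f - μ • LinearMap.id) := iSup_le fun l => by
      rcases eq_or_ne (f.eigenspace l) ⊥ with e | e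
      · rw [e]; exact bot_le
      · intro x hx
        rw [LinearMap.mem_ker, LinearMap.sub_apply, Module.End.mem_eigenspace_iff.1 hx,
          LinearMap.smul_apply, LinearMap.id_apply, h l e, sub_self]
    rwa [hf, top_le_iff, LinearMap.ker_eq_top, sub_eq_zero] at hle
  obtain ⟨w, hw, hw0⟩ := Submodule.exists_mem_ne_zero_of_ne_bot hν
  rw [Module.End.mem_eigenspace_iff] at hw
  refine ⟨ν, w, hw0, hw, hνμ, ?_⟩
  have hind : LinearIndependent ℂ ![v, w] := Module.End.eigenvectors_linearIndependent' f ![μ, ν]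
    (fun i j h => by fin_cases i <;> fin_cases j <;> simp_all [eq_comm]) _ fun i => by
      fin_cases i <;> simp [Module.End.hasEigenvector_iff, Module.End.mem_eigenspace_iff, *]
  let B := basisOfLinearIndependentOfCardEqFinrank hind (by simp)
  have hB : ∀ j, f (B j) = (![μ, ν] j) • B j := fun j => by fin_cases j <;> simp [B, hv, hw]
  have hM : LinearMap.toMatrix B B f = Matrix.diagonal ![μ, ν] := by
    refine Matrix.ext fun i j => ?_
    rw [LinearMap.toMatrix_apply, hB, map_smul, Finsupp.smul_apply, B.repr_self,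
      Finsupp.single_apply, Matrix.diagonal_apply]
    fin_cases i <;> fin_cases j <;> simp
  rw [← LinearMap.det_toMatrix B, hM, Matrix.det_diagonal, Fin.prod_univ_two]
  rfl

/-- A root of unity of order five has a power next to minus one. -/
theorem exists_near_minus_one {e : ℂ} (he : e ^ 5 = 1) (he1 : e ≠ 1) :
    ∃ i : ℕ, ‖-(e ^ i) - 1‖ ≤ 4 / 5 ∧ e ^ i ≠ -1 := by
  haveI : Fact (Nat.Prime 5) := ⟨by norm_num⟩
  have hprim : IsPrimitiveRoot e 5 := orderOf_eq_prime he he1 ▸ IsPrimitiveRoot.orderOf e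
  set ω : ℂ := Complex.exp (Complex.I * ((Real.pi / 5 : ℝ) : ℂ)) with hω
  have hω5 : ω ^ 5 = -1 := by
    rw [hω, ← Complex.exp_nat_mul]
    rw [show ((5 : ℕ) : ℂ) * (Complex.I * ((Real.pi / 5 : ℝ) : ℂ)) = Real.pi * Complex.I by
      push_cast; ring]
    exact Complex.exp_pi_mul_I
  have hωp : (-ω) ^ 5 = 1 := by rw [neg_pow, hω5]; norm_num
  obtain ⟨i, -, hi⟩ := hprim.eq_pow_of_pow_eq_one hωp
  refine ⟨i, ?_, fun h => ?_⟩
  · rw [hi, neg_neg]
    refine (Real.norm_exp_I_mul_ofReal_sub_one_le (x := Real.pi / 5)).trans ?_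
    rw [Real.norm_of_nonneg (by positivity)]
    have := Real.pi_lt_d2
    linarith
  · have h5 : (e ^ i) ^ 5 = 1 := by rw [← pow_mul, mul_comm, pow_mul, he, one_pow]
    rw [h] at h5
    norm_num at h5

variable {G : Type u} [Group G] [Finite G] [hpF : Fact (Nat.Prime 5)]

/-- An element of order five with a double eigenvalue is central. -/
theorem mem_center_of_double (ρ : Representation ℂ G (Fin 3 → ℂ)) [ρ.IsIrreducible]
    (hρ : Function.Injective ρ) (hG : ¬ PNormal 5 G) {y : G} (hy : orderOf y = 5) {μ : ℂ}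
    (hμ : 2 ≤ finrank ℂ (Module.End.eigenspace (ρ y) μ)) : y ∈ Subgroup.center G := by
  refine mem_center_of_pairs ρ hρ (by norm_num) hG hy fun g => ?_
  set y' := g * y * g⁻¹ with hy'
  set H := Subgroup.closure ({y, y'} : Set G) with hH
  let σ : Representation ℂ H (Fin 3 → ℂ) := MonoidHom.comp ρ H.subtype
  have hσ : Function.Injective σ := hρ.comp H.subtype_injective
  set a : H := ⟨y, Subgroup.subset_closure (by simp)⟩ with ha
  set b : H := ⟨y', Subgroup.subset_closure (by simp)⟩ with hb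
  have hab : Subgroup.closure ({a, b} : Set H) = ⊤ := by
    refine eq_top_iff.2 fun x _ => ?_
    have hle : H ≤ (Subgroup.closure ({a, b} : Set H)).map H.subtype := (Subgroup.closure_le _).2 (by
      rintro z (rfl | rfl)
      · exact ⟨a, Subgroup.subset_closure (by simp), rfl⟩
      · exact ⟨b, Subgroup.subset_closure (by simp), rfl⟩)
    obtain ⟨x', hx', e⟩ := hle x.2
    rwa [show x' = x from Subtype.ext e] at hx'
  have hyp : y ^ 5 = 1 := hy ▸ pow_orderOf_eq_one y
  have hap : a ^ 5 = 1 := Subtype.ext hyp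
  have hbp : b ^ 5 = 1 := Subtype.ext (by
    show y' ^ 5 = 1
    rw [hy', conj_pow, hyp, mul_one, mul_inv_cancel])
  by_contra hall
  -- the common eigenvectors
  set W := Module.End.eigenspace (ρ y) μ with hW
  set F := W ⊓ Module.End.eigenspace (ρ y') μ with hF
  have hscal : ∀ h : H, ∃ c : ℂ, ∀ v ∈ F, σ h v = c • v := by
    intro h
    have hh : h ∈ Subgroup.closure ({a, b} : Set H) := hab ▸ Subgroup.mem_top h
    refine Subgroup.closure_induction (fun z hz => ?_) ⟨1, fun v _ => by simp⟩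
      (fun z w _ _ hz hw => ?_) (fun z _ hz => ?_) hh
    · refine ⟨μ, fun v hv => ?_⟩
      rcases hz with rfl | rfl
      · exact Module.End.mem_eigenspace_iff.1 hv.1
      · exact Module.End.mem_eigenspace_iff.1 hv.2
    · obtain ⟨c, hc⟩ := hz; obtain ⟨c', hc'⟩ := hw
      exact ⟨c' * c, fun v hv => by
        rw [map_mul, Module.End.mul_apply, hc' v hv, map_smul, hc v hv, smul_smul]⟩
    · obtain ⟨c, hc⟩ := hz
      refine ⟨c⁻¹, fun v hv => ?_⟩
      have h1 : c • σ z⁻¹ v = v := by
        rw [← map_smul, ← hc v hv, ← Module.End.mul_apply, ← map_mul, inv_mul_cancel, map_one,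
          Module.End.one_apply]
      rcases eq_or_ne c 0 with rfl | hc0
      · rw [zero_smul] at h1
        rw [← h1, map_zero, smul_zero]
      · rw [eq_inv_smul_iff₀ hc0, h1]
  obtain ⟨⟨U, hU⟩, hUQ⟩ : ∃ U : {U : Submodule ℂ (Fin 3 → ℂ) // MinInv σ U},
      ¬ IsPGroup 5 (H ⧸ invKer σ U.2.inv) := by
    by_contra hne
    push Not at hne
    refine hall ?_
    refine isPGroup_of_sep (fun U : {U : Submodule ℂ (Fin 3 → ℂ) // MinInv σ U} => invKer σ U.2.inv)
      (fun x hx => hσ ?_) fun U => hne U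
    have hle : ⨆ U : {U : Submodule ℂ (Fin 3 → ℂ) // MinInv σ U}, U.1 ≤ LinearMap.ker (σ x - 1) :=
      iSup_le fun U w hw => by
        rw [LinearMap.mem_ker, LinearMap.sub_apply, Module.End.one_apply,
          mem_invKer.1 (hx U) w hw, sub_self]
    rw [iSup_minInv, top_le_iff, LinearMap.ker_eq_top, sub_eq_zero] at hle
    rw [hle, map_one]
  set K := invKer σ hU.inv with hK
  let π := QuotientGroup.mk' K
  have hgen : Subgroup.closure ({π a, π b} : Set (H ⧸ K)) = ⊤ := by
    have h := congrArg (Subgroup.map π) hab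
    rwa [MonoidHom.map_closure, Set.image_pair,
      Subgroup.map_top_of_surjective π (QuotientGroup.mk'_surjective K)] at h
  have hpe : ∀ z ∈ ({π a, π b} : Set (H ⧸ K)), IsPElt 5 z := by
    rintro z (rfl | rfl)
    · exact ⟨1, by rw [pow_one, ← map_pow, hap, map_one]⟩
    · exact ⟨1, by rw [pow_one, ← map_pow, hbp, map_one]⟩
  have hQ : ¬ PNormal 5 (H ⧸ K) := fun h => hUQ (PNormal.isPGroup_of_closure h hpe hgen)
  have hnc : π a * π b ≠ π b * π a := fun h => hUQ (isPGroup_of_comm (fun u v => by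
    have h1 : ∀ w ∈ ({π a, π b} : Set (H ⧸ K)), ∀ z ∈ ({π a, π b} : Set (H ⧸ K)), w * z = z * w := by
      rintro w (rfl | rfl) z (rfl | rfl)
      · rfl
      · exact h
      · exact h.symm
      · rfl
    haveI := Subgroup.isMulCommutative_closure h1
    exact congrArg Subtype.val (IsMulCommutative.is_comm.comm
      (⟨u, hgen ▸ Subgroup.mem_top u⟩ : Subgroup.closure ({π a, π b} : Set (H ⧸ K)))
      ⟨v, hgen ▸ Subgroup.mem_top v⟩)) (fun z hz => hpe z hz) hgen)
  -- `U` is a plane
  have hdisj : U ⊓ F = ⊥ := by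
    have hinv : Inv σ (U ⊓ F) := fun h w hw => by
      obtain ⟨c, hc⟩ := hscal h
      refine ⟨hU.inv h w hw.1, ?_⟩
      rw [hc w hw.2]
      exact Submodule.smul_mem _ c hw.2
    rcases hU.min _ inf_le_left hinv with e | e
    · exact e
    · exfalso
      refine hnc ?_
      rw [← map_mul, ← map_mul]
      refine QuotientGroup.eq.2 (mem_invKer.2 fun w hw => ?_)
      obtain ⟨c, hc⟩ := hscal a
      obtain ⟨c', hc'⟩ := hscal b
      have hwF : w ∈ F := inf_eq_left.1 e hw
      have e1 : σ (a * b) w = σ (b * a) w := by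
        rw [map_mul, map_mul, Module.End.mul_apply, Module.End.mul_apply, hc' w hwF, map_smul,
          hc w hwF, map_smul, hc' w hwF, smul_comm]
      rw [map_mul, Module.End.mul_apply, ← e1, ← Module.End.mul_apply, ← map_mul, inv_mul_cancel,
        map_one, Module.End.one_apply]
  have hfn : ∀ X : Submodule ℂ (Fin 3 → ℂ), finrank ℂ X ≤ 3 := fun X =>
    (Submodule.finrank_le X).trans_eq (Module.finrank_fin_fun ℂ (n := 3))
  have h1 := Submodule.finrank_sup_add_finrank_inf_eq W (Module.End.eigenspace (ρ y') μ)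
  rw [show finrank ℂ (Module.End.eigenspace (ρ y') μ) = finrank ℂ W by
    rw [hy', finrank_eigenspace_conj], ← hF] at h1
  have h2 := Submodule.finrank_sup_add_finrank_inf_eq U F
  rw [hdisj, finrank_bot] at h2
  have h4 := hfn (W ⊔ Module.End.eigenspace (ρ y') μ)
  have h5 := hfn (U ⊔ F)
  obtain ⟨τ, hτ, hτi, hτe⟩ := exists_quot_rep σ hU.inv
  haveI : Fintype H := Fintype.ofFinite H
  haveI : Fintype (H ⧸ K) := Fintype.ofFinite _
  haveI := hτi hU
  have hm2 : finrank ℂ U = 2 := by
    by_contra h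
    exact hQ (pnormal_of_small_degree τ hτ (by omega))
  have hUF : U ⊔ F = ⊤ := Submodule.eq_top_of_finrank_eq (by rw [Module.finrank_fin_fun]; omega)
  have h3 := Submodule.finrank_sup_add_finrank_inf_eq U W
  have h6 := hfn (U ⊔ W)
  have hπ : ∀ (h : H) (l : ℂ), finrank ℂ (Module.End.eigenspace (τ (π h)) l) =
      finrank ℂ (U ⊓ Module.End.eigenspace (σ h) l : Submodule ℂ (Fin 3 → ℂ)) := fun h l => hτe h l
  have hUscal : ∀ (h : H) (s : ℂ), τ (π h) = s • LinearMap.id → ∀ v ∈ U, σ h v = s • v := by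
    intro h s hs
    have htop : Module.End.eigenspace (τ (π h)) s = ⊤ := by
      refine eq_top_iff.2 fun v _ => ?_
      rw [Module.End.mem_eigenspace_iff, hs, LinearMap.smul_apply, LinearMap.id_apply]
    have h' := hπ h s
    rw [htop, finrank_top, Module.finrank_fin_fun] at h'
    exact fun v hv => Module.End.mem_eigenspace_iff.1
      (inf_eq_left.1 (Submodule.eq_of_le_of_finrank_le inf_le_left h'.le) hv)
  -- the eigenvalues of `y` on `U`
  revert τ
  rw [hm2]
  intro τ hτ _ hτe _ hπ hUscal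
  obtain ⟨ν, w, hw0, hw, hνμ, hdet⟩ : ∃ (ν : ℂ) (w : Fin 2 → ℂ), w ≠ 0 ∧ τ (π a) w = ν • w ∧
      ν ≠ μ ∧ LinearMap.det (τ (π a)) = μ * ν := by
    obtain ⟨v, hv, hv0⟩ := Submodule.exists_mem_ne_zero_of_ne_bot
      (p := Module.End.eigenspace (τ (π a)) μ) fun e => by
        have := hπ a μ
        rw [e, finrank_bot] at this
        change 0 = finrank ℂ (U ⊓ W : Submodule ℂ (Fin 3 → ℂ)) at this
        omega
    refine det_two (iSup_eigenspace_rep τ (π a)) hv0 (Module.End.mem_eigenspace_iff.1 hv)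
      fun e => hnc (hτ ?_)
    rw [map_mul, map_mul, e]
    exact LinearMap.ext fun v => by simp
  have hroot : ∀ (c : ℂ) (v : Fin 2 → ℂ), v ≠ 0 → τ (π a) v = c • v → c ^ 5 = 1 := by
    intro c v hv0 hv
    have h' := Module.End.mem_eigenspace_iff.1
      (eigenspace_le_pow (τ (π a)) c 5 (Module.End.mem_eigenspace_iff.2 hv))
    rw [← map_pow, ← map_pow, hap, map_one, map_one, Module.End.one_apply] at h'
    exact (smul_left_injective ℂ hv0 ((one_smul ℂ v).trans h')).symm
  have hν5 := hroot ν w hw0 hw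
  obtain ⟨v₀, hv₀, hv₀0⟩ := Submodule.exists_mem_ne_zero_of_ne_bot (p := F) fun e => by
    rw [e, finrank_bot] at h1
    omega
  have hμ5 : μ ^ 5 = 1 := by
    have h' := Module.End.mem_eigenspace_iff.1
      (eigenspace_le_pow (ρ y) μ 5 hv₀.1)
    rw [← map_pow, hyp, map_one, Module.End.one_apply] at h'
    exact (smul_left_injective ℂ hv₀0 ((one_smul ℂ v₀).trans h')).symm
  -- the two special elements
  obtain ⟨⟨t, htd, ht⟩, hdec⟩ := two_structure τ hτ hQ
  obtain ⟨xb, hxb, s, hs, hs2⟩ := hdec (π a)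
  rw [hdet] at hs2
  have hlift : ∀ q ∈ commutator (H ⧸ K), ∃ h ∈ commutator H, π h = q := by
    intro q hq
    have h' : (commutator H).map π = commutator (H ⧸ K) := by
      rw [commutator_def, Subgroup.map_commutator, Subgroup.map_top_of_surjective _
        (QuotientGroup.mk'_surjective K), commutator_def]
    rw [← h'] at hq
    exact hq
  obtain ⟨t₁, ht₁d, ht₁⟩ := hlift t htd
  obtain ⟨x₁, hx₁d, hx₁⟩ := hlift xb hxb
  have hFfix : ∀ h ∈ commutator H, ∀ v ∈ F, σ h v = v := by
    intro h hh v hv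
    let S : Subgroup H :=
      { carrier := {h | ∀ v ∈ F, σ h v = v}
        one_mem' := fun v _ => by simp
        mul_mem' := fun {u u'} hu hu' v hv => by
          rw [map_mul, Module.End.mul_apply, hu' v hv, hu v hv]
        inv_mem' := fun {u} hu v hv => by
          conv_lhs => rw [← hu v hv]
          rw [← Module.End.mul_apply, ← map_mul, inv_mul_cancel, map_one, Module.End.one_apply] }
    refine (show commutator H ≤ S by
      rw [commutator_def, Subgroup.commutator_le]
      intro u _ u' _ v hv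
      obtain ⟨c, hc⟩ := hscal u
      obtain ⟨c', hc'⟩ := hscal u'
      have e1 : σ (u' * u) v = σ (u * u') v := by
        rw [map_mul, map_mul, Module.End.mul_apply, Module.End.mul_apply, hc' v hv, map_smul,
          hc v hv, map_smul, hc' v hv, smul_comm]
      rw [show ⁅u, u'⁆ = (u * u') * (u' * u)⁻¹ by rw [commutatorElement_def]; group]
      obtain ⟨c'', hc''⟩ := hscal (u' * u)⁻¹
      calc σ (u * u' * (u' * u)⁻¹) v = σ (u * u') (c'' • v) := by
            rw [map_mul _ (u * u'), Module.End.mul_apply, hc'' v hv]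
        _ = σ (u' * u) (σ (u' * u)⁻¹ v) := by rw [map_smul, ← e1, ← map_smul, hc'' v hv]
        _ = v := by
          rw [← Module.End.mul_apply, ← map_mul, mul_inv_cancel, map_one,
            Module.End.one_apply]) hh v hv
  set z := x₁⁻¹ * a with hz
  have hzU : ∀ v ∈ U, σ z v = s • v := hUscal z s (by rw [hz, map_mul, map_inv, hx₁]; exact hs)
  have hzF : ∀ v ∈ F, σ z v = μ • v := fun v hv => by
    rw [hz, map_mul, Module.End.mul_apply, show σ a v = μ • v from
      Module.End.mem_eigenspace_iff.1 hv.1, map_smul, hFfix _ (inv_mem hx₁d) v hv]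
  have htU : ∀ v ∈ U, σ t₁ v = (-1 : ℂ) • v := hUscal t₁ (-1) (by rw [ht₁]; exact ht)
  have hμ0 : μ ≠ 0 := fun e => by rw [e] at hμ5; norm_num at hμ5
  have hν0 : ν ≠ 0 := fun e => by rw [e] at hν5; norm_num at hν5
  have hs0 : s ≠ 0 := fun e => by
    rw [e, zero_pow two_ne_zero] at hs2
    exact mul_ne_zero hμ0 hν0 hs2.symm
  -- the ratio
  set ε := (μ / s) ^ 2 with hε
  have hε' : ε = μ / ν := by
    rw [hε, div_pow, hs2]
    field_simp
  have hε5 : ε ^ 5 = 1 := by rw [hε', div_pow, hμ5, hν5, div_one]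
  have hε1 : ε ≠ 1 := fun e => hνμ (by rw [hε', div_eq_one_iff_eq hν0] at e; exact e.symm)
  obtain ⟨i, hi, hi1⟩ := exists_near_minus_one hε5 hε1
  set q := t₁ * z ^ (2 * i) with hq
  set α : ℂ := -(s ^ (2 * i)) with hα
  set β : ℂ := μ ^ (2 * i) with hβ
  have hsn : ‖s‖ = 1 := by
    have h10 : s ^ 10 = 1 := by
      rw [show (10 : ℕ) = 2 * 5 by norm_num, pow_mul, hs2, mul_pow, hμ5, hν5, one_mul]
    exact Complex.norm_eq_one_of_pow_eq_one h10 (by norm_num)
  have hαn : ‖α‖ = 1 := by rw [hα, norm_neg, norm_pow, hsn, one_pow]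
  have hβα : β = α * -(ε ^ i) := by
    rw [hα, hβ, neg_mul_neg, hε, ← pow_mul, div_pow, mul_div_cancel₀ _ (pow_ne_zero _ hs0)]
  have hpowact : ∀ (X : Submodule ℂ (Fin 3 → ℂ)) (c : ℂ), (∀ v ∈ X, σ z v = c • v) →
      ∀ (k : ℕ), ∀ v ∈ X, σ (z ^ k) v = c ^ k • v := by
    intro X c hc k v hv
    induction k with
    | zero => simp
    | succ k ih =>
      rw [pow_succ, map_mul, Module.End.mul_apply, hc v hv, map_smul, ih, smul_smul, pow_succ,
        mul_comm]
  have hqU : ∀ v ∈ U, σ q v = α • v := fun v hv => by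
    rw [hq, map_mul, Module.End.mul_apply, hpowact U s hzU _ v hv, map_smul, htU v hv, smul_smul,
      hα, mul_neg, mul_one]
  have hqF : ∀ v ∈ F, σ q v = β • v := fun v hv => by
    rw [hq, map_mul, Module.End.mul_apply, hpowact F μ hzF _ v hv, map_smul,
      hFfix _ ht₁d v hv]
  have hab' : α ≠ β := fun e => by
    refine hi1 ?_
    rw [hβα] at e
    have h' : -(ε ^ i) = 1 :=
      (mul_eq_left₀ (norm_ne_zero_iff.1 (by rw [hαn]; exact one_ne_zero))).1 e.symm
    linear_combination -h'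
  -- it has a short arc, so is central
  have hc : (q : G) ∈ Subgroup.center G := by
    refine mem_center_of_arc ρ hρ (by norm_num) hG ((α + β) / 2) (r := 2 / 5) (by norm_num)
      fun l v hv0 hv => ?_
    have hd : ‖α - β‖ ≤ 4 / 5 := by
      rw [norm_sub_rev, hβα, show α * -(ε ^ i) - α = α * (-(ε ^ i) - 1) by ring, norm_mul, hαn,
        one_mul]
      exact hi
    have hl : l = α ∨ l = β := by
      obtain ⟨v₁, hv₁, v₂, hv₂, rfl⟩ :=
        Submodule.mem_sup.1 (hUF ▸ Submodule.mem_top : v ∈ U ⊔ F)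
      change σ q (v₁ + v₂) = _ at hv
      rw [map_add, hqU v₁ hv₁, hqF v₂ hv₂, smul_add] at hv
      have h' : (α - l) • v₁ = (l - β) • v₂ := by
        rw [sub_smul, sub_smul, sub_eq_sub_iff_add_eq_add, hv, add_comm]
      have hmem : (α - l) • v₁ ∈ U ⊓ F :=
        ⟨U.smul_mem _ hv₁, h' ▸ F.smul_mem _ hv₂⟩
      rw [hdisj, Submodule.mem_bot] at hmem
      rw [hmem] at h'
      by_contra hne
      push Not at hne
      rw [(smul_eq_zero.1 hmem).resolve_left (sub_ne_zero.2 (Ne.symm hne.1)),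
        (smul_eq_zero.1 h'.symm).resolve_left (sub_ne_zero.2 hne.2), add_zero] at hv0
      exact hv0 rfl
    rcases hl with rfl | rfl
    · rw [show α - (α + β) / 2 = (α - β) / 2 by ring, norm_div]
      norm_num
      linarith
    · rw [show β - (α + β) / 2 = (β - α) / 2 by ring, norm_div, norm_sub_rev]
      norm_num
      linarith
  obtain ⟨r, hr⟩ := Char.schur_scalar ρ (ρ (q : G)) fun x v => by
    rw [← Module.End.mul_apply, ← map_mul, ← Subgroup.mem_center_iff.1 hc x, map_mul,
      Module.End.mul_apply]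
  obtain ⟨u₀, hu₀, hu₀0⟩ := Submodule.exists_mem_ne_zero_of_ne_bot hU.ne_bot
  have e1 := hqU u₀ hu₀
  have e2 := hqF v₀ hv₀
  change ρ (q : G) _ = _ at e1 e2
  rw [hr, LinearMap.smul_apply, LinearMap.id_apply] at e1 e2
  exact hab' ((smul_left_injective ℂ hu₀0 e1).symm.trans (smul_left_injective ℂ hv₀0 e2))

end Cfsg.Agent.Feit
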